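import Cfsg.Agent.H998.StrP.PureRows
import Cfsg.Agent.H845.TitsQ

/-!
# The Tits group has no strongly 3-embedded subgroup (task of helper818, S2120)

The subgroup `M` of order 5616 (`≅ PSL₃(3)`) has none by arithmetic, and the only divisor of `3200` which is `1` modulo
27 is 1.
-/

set_option autoImplicit false
set_option linter.style.haveILetI false

namespace Cfsg.Agent.H184.StrTits

open Cfsg Subgroup Cfsg.Agent.H998.StrP Cfsg.Agent.EvenType.StrongP
open Cfsg.Agent.ChevalleyStructure.Tits.Main Cfsg.Agent.ChevalleyStructure.Tits.Mat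
  Cfsg.Agent.ChevalleyStructure.Tits.Order
open Cfsg.Agent.H845

open scoped MatrixGroups

/-- the order of the subgroup `M` -/
theorem dvd_M {G : Type*} [Group G] [Finite G] (D : TitsQAbs.Dat G) : 16 * 27 * 13 ∣ Nat.card D.M := by
  have h16 : 16 ∣ Nat.card D.M := D.sixteen D.Mc D.Mj
  have h13 : 13 ∣ Nat.card D.M := by
    have : Fact (Nat.Prime 13) := ⟨by norm_num⟩
    rw [← orderOf_eq_prime D.x13 D.x1]
    exact Subgroup.orderOf_dvd_natCard _ D.Mx
  have h27 : 27 ∣ Nat.card D.M := by
    have : Fact (Nat.Prime 3) := ⟨Nat.prime_three⟩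
    have hR : D.R ≤ D.M := by
      refine sup_le (zpowers_le.2 D.Mr) ?_
      change closure {D.u, D.z} ≤ D.M
      rw [closure_le]
      rintro w hw
      simp only [Set.mem_insert_iff, Set.mem_singleton_iff] at hw
      rcases hw with rfl | rfl
      · exact D.Mu
      · exact D.Mz
    refine dvd_trans ?_ (card_dvd_of_le hR)
    obtain ⟨n, hn⟩ := IsPGroup.iff_card.1 D.R_pgroup
    have h3 : 3 ≤ n := by
      by_contra hcon
      have hcomm : ∀ a b : ↥D.R, a * b = b * a := by
        have h4 : n = 0 ∨ n = 1 ∨ n = 2 := by omega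
        rcases h4 with h4 | h4 | h4
        · rw [h4, pow_zero] at hn
          have h5 : Subsingleton ↥D.R := (Nat.card_eq_one_iff_unique.1 hn).1
          intro a b
          exact Subsingleton.elim _ _
        · rw [h4, pow_one] at hn
          have h5 : IsCyclic ↥D.R := isCyclic_of_prime_card hn
          intro a b
          exact (IsCyclic.isMulCommutative (α := ↥D.R)).is_comm.comm a b
        · rw [h4] at hn
          intro a b
          exact (IsPGroup.isMulCommutative_of_card_eq_prime_sq hn).is_comm.comm a b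
      have h6 := hcomm ⟨D.r, D.rR⟩ ⟨D.u, D.uR⟩
      exact D.ru_ne (congrArg Subtype.val h6)
    rw [hn, show 27 = 3 ^ 3 by norm_num]
    exact pow_dvd_pow 3 h3
  refine Nat.Coprime.mul_dvd_of_dvd_of_dvd (by norm_num) ?_ h13
  exact Nat.Coprime.mul_dvd_of_dvd_of_dvd (by norm_num) h16 h27

theorem card_M {G : Type*} [Group G] [Finite G] (D : TitsQAbs.Dat G) (hM : Nat.card D.M ≤ 5616) :
    Nat.card D.M = 5616 := by
  have h2 := Nat.le_of_dvd Nat.card_pos (dvd_M D)
  omega

theorem exists_M_aux (K : Subgroup (GL I52 (ZMod 2))) (hK : K = H0) :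
    ∃ M : Subgroup (commutator K), Nat.card M = 5616 := by
  subst hK
  haveI : Finite (commutator H0) := by
    apply Nat.finite_of_card_ne_zero
    rw [H0_result.2.2.2]
    norm_num
  exact ⟨TitsQData.dat.M, card_M TitsQData.dat TitsQData.card_M⟩

theorem exists_M : ∃ M : Subgroup Cfsg.Lie.TitsGroup, Nat.card M = 5616 := exists_M_aux _ T0_eq_H0

theorem finite_tits : Finite Cfsg.Lie.TitsGroup := by
  apply Nat.finite_of_card_ne_zero
  rw [Cfsg.Agent.H87.TitsData.card_tits]
  norm_num

theorem nosp_tits_aux : NoSP 3 Cfsg.Lie.TitsGroup := by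
  have := fact3
  have := finite_tits
  obtain ⟨M, hM⟩ := exists_M
  have h1 : NoSP 3 ↥M := by
    refine noSP_of_card (a := 3) [(2, 4), (13, 1)] (primes_of (by decide)) (by norm_num) ?_ (by decide +kernel)
    rw [hM]
    norm_num [val]
  intro H hH
  have hD : 5616 ∣ Nat.card H := by
    rw [← hM]
    exact card_dvd_of_noSP hH (by rw [hM]; norm_num) h1
  refine contra hH hD (a := 3) (b := 0) [(2, 7), (5, 2)] (primes_of (by decide)) (by norm_num) ?_ ?_ (by decide +kernel)
  · rw [Cfsg.Agent.H87.TitsData.card_tits]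
    norm_num
  · rw [Cfsg.Agent.H87.TitsData.card_tits]
    norm_num [val]

theorem aux {X Y : Type*} [Group X] [Finite X] [Group Y] (K : Subgroup Y) (h : Nonempty (X ≃* commutator K))
    (h1 : NoSP 3 (commutator K)) : NoSP 3 X := by
  obtain ⟨e⟩ := h
  have := fact3
  have : Finite (commutator K) := Finite.of_equiv _ e.toEquiv
  exact NoSP.congr e h1

/-- **The Tits group has no strongly 3-embedded subgroup.** -/
theorem nosp_tits_3 {X : Type*} [Group X] [Finite X] (h : Lie.IsoTits X) : NoSP 3 X :=
  aux _ h nosp_tits_aux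

/-- a Sylow `p`-subgroup is cyclic if `p ^ 2` does not divide the order of the group -/
theorem cyclic_of_sq {X : Type*} [Group X] [Finite X] {p : ℕ} [hp : Fact p.Prime] (h : ¬ p ^ 2 ∣ Nat.card X)
    (P : Sylow p X) : IsCyclic ↥(P : Subgroup X) := by
  obtain ⟨n, hn⟩ := IsPGroup.iff_card.1 P.isPGroup'
  have h1 : n < 2 := by
    by_contra hcon
    apply h
    refine dvd_trans (pow_dvd_pow p (not_lt.1 hcon)) ?_
    rw [← hn]
    exact card_subgroup_dvd_card _
  have h2 : n = 0 ∨ n = 1 := by omega
  rcases h2 with h2 | h2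
  · rw [h2, pow_zero] at hn
    have h5 : Subsingleton ↥(P : Subgroup X) := (Nat.card_eq_one_iff_unique.1 hn).1
    exact isCyclic_of_subsingleton
  · rw [h2, pow_one] at hn
    exact isCyclic_of_prime_card hn

/-- the Sylow 13-subgroups of the Tits group are cyclic -/
theorem cyclic_13 {X : Type*} [Group X] [Finite X] (h : Lie.IsoTits X) (P : Sylow 13 X) :
    IsCyclic ↥(P : Subgroup X) := by
  have f13 := fact13
  have hc : Nat.card X = Nat.card Cfsg.Lie.TitsGroup := Nat.card_congr h.some.toEquiv
  refine cyclic_of_sq ?_ P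
  rw [hc, Cfsg.Agent.H87.TitsData.card_tits]
  norm_num

end Cfsg.Agent.H184.StrTits
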