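import Cfsg.Agent.H184.WandLarge
import Cfsg.Agent.H661.SporFermat
import Cfsg.Agent.H661.SporCount
import Cfsg.Agent.H393.Iso.Monster
import Cfsg.Agent.H713.Spor.Fi22
import Cfsg.Agent.H713.Spor.Fi23
import Cfsg.Agent.H713.Spor.MOf
import Cfsg.Agent.NotCT.Orders

/-!
# `Wand` (S4011) for `Fi₂₂`, `Fi₂₃`, `M` (helper184)
-/

set_option autoImplicit false

namespace Cfsg.Agent.H184.WandSpor

open Subgroup Cfsg Cfsg.Agent.H132 Cfsg.Agent.H393.Iso Cfsg.Agent.Co2Type.Quad Cfsg.Agent.NotCT
open Cfsg.Agent.H184.WandLarge Cfsg.Agent.H661.Spor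

universe u

variable {X : Type u} [Group X] [Finite X] [IsSimpleGroup X]

omit [Finite X] [IsSimpleGroup X] in
theorem card_cent_of_prime {r n : ℕ} (P : Subgroup X) (hr : r.Prime) (hP : Nat.card P = r)
    (h : ∀ x : X, orderOf x = r → Nat.card (centralizer ({x} : Set X)) = n) :
    Nat.card (centralizer (P : Set X)) = n := by
  have : Fact r.Prime := ⟨hr⟩
  have hcyc : IsCyclic P := isCyclic_of_prime_card hP
  obtain ⟨g, hg⟩ := hcyc.exists_zpow_surjective
  have hgo : orderOf (g : X) = r := by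
    rw [orderOf_coe]
    refine (orderOf_eq_card_of_zpowers_eq_top ?_).trans hP
    rw [eq_top_iff]
    intro y _
    exact hg y
  rw [← h _ hgo]
  congr 2
  ext y
  rw [mem_centralizer_singleton_iff, mem_centralizer_iff]
  constructor
  · intro hy
    exact (hy g g.2).symm
  · intro hy z hz
    obtain ⟨k, hk⟩ := hg ⟨z, hz⟩
    have hk' : (g : X) ^ k = z := congrArg Subtype.val hk
    rw [← hk']
    have hcomm : Commute (g : X) y := hy.symm
    exact (hcomm.zpow_left k)

theorem wand_fi22 (h : Cfsg.Spor.IsoFi22 X) : Wand X := by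
  have hc := Orders.fi22 h
  obtain ⟨e⟩ := h
  refine wand_of_na (r := 13) (a := 17) (by norm_num) (by norm_num) ?_ ?_ hc (by norm_num) (by norm_num)
    (by norm_num)
  · refine NA.of_cent fun x hx => ?_
    rw [H713.Spor.Fi22.cent_13 e hx]
    norm_num
  · refine hasReal_count (by norm_num) (by rw [hc]; norm_num) (by rw [hc]; norm_num) ?_
    intro P c e' n hP hcent ho hd hn hmul
    have hcP : Nat.card (centralizer ((P : Subgroup X) : Set X)) = 13 := by
      have : Fact (Nat.Prime 13) := ⟨by norm_num⟩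
      exact card_cent_of_prime (P : Subgroup X) (by norm_num) hP fun x hx => H713.Spor.Fi22.cent_13 e hx
    have h1 : c = 1 := by
      rw [hcP] at hcent
      omega
    subst h1
    have h2 : e' = 1 ∨ e' = 3 := by
      have h3 := Nat.le_of_dvd (by norm_num) hd
      interval_cases e' <;> first | (left; rfl) | (right; rfl) | (exfalso; revert ho; decide) | (exfalso; revert hd; decide)
    rw [hc] at hmul
    unfold Nat.ModEq at hn
    rcases h2 with rfl | rfl <;> omega

omit [IsSimpleGroup X] in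
theorem na_fi23_17 (h : Cfsg.Spor.IsoFi23 X) : NA 17 X := by
  refine h.elim fun e => ?_
  refine NA.of_equiv e.symm ?_
  have := H713.Spor.Fi23.finite_fi23
  exact NA.of_card fun t ht => H713.Spor.Fi23.not_dvd (by norm_num) (by norm_num) (by norm_num) (by norm_num) t ht

theorem wand_fi23 (h : Cfsg.Spor.IsoFi23 X) : Wand X := by
  have hc := Orders.fi23 h
  refine wand_of_na (r := 17) (a := 18) (by norm_num) (by norm_num) (na_fi23_17 h) ?_ hc (by norm_num) (by norm_num)
    (by norm_num)
  exact hasReal_fermat (k := 4) (by norm_num) (by norm_num) (by rw [hc]; norm_num) (by rw [hc]; norm_num)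
    (by rw [hc]; norm_num)

section Monster

open Cfsg.Agent.MonsterX.Model Cfsg.Agent.MonsterX.MainPack Cfsg.Agent.MonsterX.MainSimple
  Cfsg.Agent.MonsterX.MainBasic Cfsg.Agent.MonsterU.Assembly

theorem wand_m_of {W : Type} [AddCommGroup W] [Module ℚ W] {M : MData W} {K₀ : Type} [Group K₀] (A : All M K₀)
    (hR : H722.RealP.HasReal 17 M.G) : Wand M.G := by
  have := G_finite A.hO
  obtain ⟨x, hx, hreal⟩ := hR.isConj
  refine wand_of_large_card (Cfsg.Agent.MonsterU.ModelChart.large A.hG A.hR A.hL A.hO A.hT) (by norm_num)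
    (by norm_num) ?_ hx hreal
  rw [H713.Spor.MOf.card_cent_z A.hG A.hR A.hL A.hO A.hT]
  norm_num

theorem wand_m (h : Cfsg.Spor.IsoM X) : Wand X := by
  have hc := Orders.m h
  have hR : H722.RealP.HasReal 17 X :=
    hasReal_fermat (k := 4) (by norm_num) (by norm_num) (by rw [hc]; norm_num) (by rw [hc]; norm_num)
      (by rw [hc]; norm_num)
  obtain ⟨e⟩ := h
  obtain ⟨f⟩ := Cfsg.Agent.MonsterP.Equiv.equiv
  exact Wand.congr (e.trans f).symm (wand_m_of Cfsg.Agent.MonsterU.Uncond.all (hR.map_equiv (e.trans f)))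

end Monster

end Cfsg.Agent.H184.WandSpor
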