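import Mathlib

/-!
# The planar arc lemma (for S2195, task of helper91)

`S` is a union of `F`-points of a three-dimensional space `M` over a finite field of odd order `q` such that every plane
meets `S` in `0` or `b` points, `1 < b < q`.  A group of linear maps preserving `S` cannot be transitive on the planes
containing a given point of `S` and on the points of `S` in a given plane.
-/

set_option autoImplicit false
set_option linter.unusedSectionVars false

namespace Cfsg.Agent.H184.Arc

open Module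

variable {F M : Type*} [Field F] [Fintype F] [AddCommGroup M] [Module F M]

/-- unions of points -/
structure Cone (F : Type*) {M : Type*} [Field F] [AddCommGroup M] [Module F M] (S : Set M) : Prop where
  zero : (0 : M) ∉ S
  smul : ∀ c : F, c ≠ 0 → ∀ v ∈ S, c • v ∈ S

theorem Cone.smul_iff {F M : Type*} [Field F] [AddCommGroup M] [Module F M] {S : Set M} (hS : Cone F S) {c : F}
    (hc : c ≠ 0) {v : M} : c • v ∈ S ↔ v ∈ S := by
  refine ⟨fun h => ?_, hS.smul c hc v⟩
  have := hS.smul c⁻¹ (inv_ne_zero hc) _ h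
  rwa [smul_smul, inv_mul_cancel₀ hc, one_smul] at this

theorem Cone.ne {F M : Type*} [Field F] [AddCommGroup M] [Module F M] {S : Set M} (hS : Cone F S) {v : M}
    (hv : v ∈ S) : v ≠ 0 := fun h => hS.zero (h ▸ hv)

theorem Cone.neg_iff {F M : Type*} [Field F] [AddCommGroup M] [Module F M] {S : Set M} (hS : Cone F S)
    {v : M} : -v ∈ S ↔ v ∈ S := by
  rw [← neg_one_smul F v]
  exact hS.smul_iff (neg_ne_zero.2 one_ne_zero)

/-- characteristic function -/
noncomputable def chi {M : Type*} (S : Set M) (v : M) : ℕ := by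
  classical
  exact if v ∈ S then 1 else 0

theorem chi_pos {M : Type*} {S : Set M} {v : M} (h : v ∈ S) : chi S v = 1 := by
  unfold chi; exact if_pos h

theorem chi_neg {M : Type*} {S : Set M} {v : M} (h : v ∉ S) : chi S v = 0 := by
  unfold chi; exact if_neg h

theorem chi_le {M : Type*} (S : Set M) (v : M) : chi S v ≤ 1 := by
  by_cases h : v ∈ S
  · rw [chi_pos h]
  · rw [chi_neg h]; norm_num

theorem chi_congr {M : Type*} {S : Set M} {v w : M} (h : v ∈ S ↔ w ∈ S) : chi S v = chi S w := by
  by_cases h1 : v ∈ S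
  · rw [chi_pos h1, chi_pos (h.1 h1)]
  · rw [chi_neg h1, chi_neg (fun h2 => h1 (h.2 h2))]

theorem mem_of_chi {M : Type*} {S : Set M} {v : M} (h : chi S v ≠ 0) : v ∈ S := by
  by_contra h1
  exact h (chi_neg h1)

theorem sum_chi {X M : Type*} [Fintype X] (S : Set M) (f : X → M) :
    ∑ x, chi S (f x) = {x | f x ∈ S}.ncard := by
  classical
  rw [Set.ncard_eq_toFinset_card', Set.toFinset_ofPred, Finset.card_filter]
  refine Finset.sum_congr rfl fun x _ => ?_
  by_cases h : f x ∈ S
  · rw [chi_pos h, if_pos h]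
  · rw [chi_neg h, if_neg h]

theorem card_param {X : Type*} [Fintype X] {S : Set M} (hS : Cone F S) (f : X → M)
    (hf0 : ∀ x, f x ≠ 0) (inj : ∀ x x' (c : F), f x = c • f x' → x = x') (U : Set M)
    (hU : ∀ v, v ≠ 0 → (v ∈ U ↔ ∃ (c : F) (x : X), v = c • f x)) :
    (U ∩ S).ncard = (Fintype.card F - 1) * ∑ x, chi S (f x) := by
  classical
  rw [sum_chi]
  have h2 : Fintype.card F - 1 = Nat.card Fˣ := by rw [Nat.card_units, Nat.card_eq_fintype_card]
  rw [h2, ← Nat.card_coe_set_eq, ← Nat.card_coe_set_eq, ← Nat.card_prod]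
  symm
  have hne : ∀ (c : Fˣ) (x : X), (c : F) • f x ≠ 0 := fun c x h => by
    rcases smul_eq_zero.1 h with h | h
    · exact c.ne_zero h
    · exact hf0 x h
  refine Nat.card_eq_of_bijective (fun y : Fˣ × ↥{x | f x ∈ S} =>
    (⟨(y.1 : F) • f y.2.1, (hU _ (hne _ _)).2 ⟨_, _, rfl⟩, hS.smul _ y.1.ne_zero _ y.2.2⟩ : ↥(U ∩ S))) ⟨?_, ?_⟩
  · rintro ⟨c, x, hx⟩ ⟨c', x', hx'⟩ h
    have h1 : (c : F) • f x = (c' : F) • f x' := congrArg Subtype.val h
    have h3 : f x = ((c : F)⁻¹ * c') • f x' := by
      rw [← smul_smul, ← h1, smul_smul, inv_mul_cancel₀ c.ne_zero, one_smul]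
    have h4 := inj _ _ _ h3
    subst h4
    have h5 : ((c : F) - c') • f x = 0 := by rw [sub_smul, h1, sub_self]
    rcases smul_eq_zero.1 h5 with h5 | h5
    · have : c = c' := Units.ext (sub_eq_zero.1 h5)
      rw [this]
    · exact absurd h5 (hf0 x)
  · rintro ⟨v, hvU, hvS⟩
    obtain ⟨c, x, rfl⟩ := (hU v (hS.ne hvS)).1 hvU
    have hc : c ≠ 0 := by
      rintro rfl
      exact hS.ne hvS (zero_smul F _)
    exact ⟨⟨Units.mk0 c hc, x, (hS.smul_iff hc).1 hvS⟩, rfl⟩

/-- the points of the plane `⟨e, w⟩` -/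
def pt (e w : M) : Option F → M
  | none => e
  | some a => w + a • e

/-- linear independence of two vectors -/
def Ind (F : Type*) {M : Type*} [Field F] [AddCommGroup M] [Module F M] (e w : M) : Prop :=
  ∀ c d : F, c • e + d • w = 0 → c = 0 ∧ d = 0

theorem Ind.symm {F M : Type*} [Field F] [AddCommGroup M] [Module F M] {e w : M} (h : Ind F e w) : Ind F w e := by
  intro c d hcd
  rw [add_comm] at hcd
  exact (h d c hcd).symm

theorem Ind.ne {F M : Type*} [Field F] [AddCommGroup M] [Module F M] {e w : M} (h : Ind F e w) : e ≠ 0 := by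
  intro h0
  have := h 1 0 (by rw [h0, smul_zero, zero_smul, add_zero])
  exact one_ne_zero this.1

theorem ind_of_not {F M : Type*} [Field F] [AddCommGroup M] [Module F M] {e w : M} (he : e ≠ 0)
    (h : ∀ c : F, w ≠ c • e) : Ind F e w := by
  intro c d hcd
  have hd : d = 0 := by
    by_contra hd
    apply h (-(d⁻¹ * c))
    have h1 : d • w = -(c • e) := eq_neg_of_add_eq_zero_right hcd
    have h2 : w = d⁻¹ • (d • w) := by rw [smul_smul, inv_mul_cancel₀ hd, one_smul]
    rw [h2, h1, smul_neg, smul_smul, neg_smul]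
  rw [hd, zero_smul, add_zero] at hcd
  rcases smul_eq_zero.1 hcd with h1 | h1
  · exact ⟨h1, hd⟩
  · exact absurd h1 he

theorem not_ind {F M : Type*} [Field F] [AddCommGroup M] [Module F M] {e w : M} (he : e ≠ 0)
    (h : ¬ Ind F e w) : ∃ c : F, w = c • e := by
  by_contra hcon
  push Not at hcon
  exact h (ind_of_not he hcon)

theorem Ind.linearIndependent {F M : Type*} [Field F] [AddCommGroup M] [Module F M] {e w : M} (h : Ind F e w) :
    LinearIndependent F ![e, w] := LinearIndependent.pair_iff.2 h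

theorem Ind.finrank {F M : Type*} [Field F] [AddCommGroup M] [Module F M] {e w : M} (h : Ind F e w) :
    finrank F (Submodule.span F {e, w}) = 2 := by
  have h1 := finrank_span_eq_card h.linearIndependent
  rw [Fintype.card_fin] at h1
  have h2 : Set.range ![e, w] = {e, w} := by
    rw [Matrix.range_cons, Matrix.range_cons, Matrix.range_empty, Set.union_empty]
    rfl
  rwa [h2] at h1

theorem pt_none (e w : M) : pt (F := F) e w none = e := rfl
theorem pt_some (e w : M) (a : F) : pt e w (some a) = w + a • e := rfl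

theorem pt_ne {e w : M} (h : Ind F e w) (i : Option F) : pt e w i ≠ 0 := by
  cases i with
  | none => exact h.ne
  | some a =>
    intro h0
    rw [pt_some, add_comm] at h0
    have := h a 1 (by rw [one_smul]; exact h0)
    exact one_ne_zero this.2

theorem pt_inj {e w : M} (h : Ind F e w) (i j : Option F) (c : F) (hij : pt e w i = c • pt e w j) : i = j := by
  cases i with
  | none =>
    cases j with
    | none => rfl
    | some a =>
      exfalso
      rw [pt_none, pt_some] at hij
      have h1 : (1 - c * a) • e + (-c) • w = 0 := by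
        rw [sub_smul, one_smul, neg_smul]
        nth_rewrite 1 [hij]
        rw [smul_add, smul_smul]
        abel
      obtain ⟨h2, h3⟩ := h _ _ h1
      rw [neg_eq_zero] at h3
      rw [h3, zero_mul, sub_zero] at h2
      exact one_ne_zero h2
  | some a =>
    cases j with
    | none =>
      exfalso
      rw [pt_none, pt_some] at hij
      have h1 : (a - c) • e + (1 : F) • w = 0 := by
        rw [sub_smul, one_smul, ← hij]
        abel
      exact one_ne_zero (h _ _ h1).2
    | some a' =>
      rw [pt_some, pt_some] at hij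
      have h1 : (a - c * a') • e + (1 - c) • w = 0 := by
        have h2 : w + a • e - c • (w + a' • e) = 0 := by rw [hij, sub_self]
        rw [← h2, smul_add, smul_smul, sub_smul, sub_smul, one_smul]
        abel
      obtain ⟨h2, h3⟩ := h _ _ h1
      have hc : c = 1 := (sub_eq_zero.1 h3).symm
      rw [hc, one_mul] at h2
      rw [sub_eq_zero.1 h2]

theorem exists_pt {e w v : M} (hv : v ∈ Submodule.span F {e, w}) : ∃ (c : F) (i : Option F), v = c • pt e w i := by
  obtain ⟨a, b, rfl⟩ := Submodule.mem_span_pair.1 hv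
  by_cases hb : b = 0
  · exact ⟨a, none, by rw [hb, zero_smul, add_zero, pt_none]⟩
  · refine ⟨b, some (b⁻¹ * a), ?_⟩
    rw [pt_some, smul_add, smul_smul, ← mul_assoc, mul_inv_cancel₀ hb, one_mul, add_comm]

theorem pt_mem (e w : M) (i : Option F) : pt e w i ∈ Submodule.span F {e, w} := by
  cases i with
  | none => exact Submodule.subset_span (by rw [pt_none]; simp)
  | some a =>
    exact add_mem (Submodule.subset_span (by simp)) (Submodule.smul_mem _ _ (Submodule.subset_span (by simp)))

theorem card_plane {S : Set M} (hS : Cone F S) {e w : M} (h : Ind F e w) :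
    (((Submodule.span F {e, w} : Submodule F M) : Set M) ∩ S).ncard =
      (Fintype.card F - 1) * (chi S e + ∑ a : F, chi S (w + a • e)) := by
  have h1 := card_param hS (pt (F := F) e w) (pt_ne h) (pt_inj h) ((Submodule.span F {e, w} : Submodule F M) : Set M) (by
    intro v _
    refine ⟨fun hv => exists_pt hv, ?_⟩
    rintro ⟨c, i, rfl⟩
    exact Submodule.smul_mem _ _ (pt_mem e w i))
  rw [h1, Fintype.sum_option]
  rfl

/-- bases -/
structure Bas (F : Type*) {M : Type*} [Field F] [AddCommGroup M] [Module F M] (z w₁ w₂ : M) : Prop where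
  ind : ∀ a b c : F, a • z + b • w₁ + c • w₂ = 0 → a = 0 ∧ b = 0 ∧ c = 0
  span : ∀ v : M, ∃ a b c : F, v = a • z + b • w₁ + c • w₂

theorem Bas.ind12 {F M : Type*} [Field F] [AddCommGroup M] [Module F M] {z w₁ w₂ : M} (h : Bas F z w₁ w₂) :
    Ind F w₂ w₁ := by
  intro c d hcd
  have := h.ind 0 d c (by rw [zero_smul, zero_add, add_comm]; exact hcd)
  exact ⟨this.2.2, this.2.1⟩

theorem Bas.ind_pt {z w₁ w₂ : M} (h : Bas F z w₁ w₂) (i : Option F) : Ind F z (pt w₂ w₁ i) := by
  intro c d hcd
  cases i with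
  | none =>
    have := h.ind c 0 d (by rw [zero_smul, add_zero]; exact hcd)
    exact ⟨this.1, this.2.2⟩
  | some a =>
    have := h.ind c d (d * a) (by rw [add_assoc, ← smul_smul, ← smul_add]; exact hcd)
    exact ⟨this.1, this.2.1⟩

/-- all points -/
def pt3 (z w₁ w₂ : M) : Option (Option F × F) → M
  | none => z
  | some (i, a) => pt w₂ w₁ i + a • z

theorem card_all {S : Set M} (hS : Cone F S) {z w₁ w₂ : M} (h : Bas F z w₁ w₂) :
    S.ncard = (Fintype.card F - 1) * (chi S z + ∑ i : Option F, ∑ a : F, chi S (pt w₂ w₁ i + a • z)) := by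
  have h1 := card_param hS (pt3 (F := F) z w₁ w₂) ?_ ?_ Set.univ ?_
  · rw [Set.univ_inter] at h1
    rw [h1, Fintype.sum_option, Fintype.sum_prod_type]
    rfl
  · rintro (_ | ⟨i, a⟩)
    · exact (h.ind_pt none).ne
    · exact pt_ne (h.ind_pt i) (some a)
  · rintro (_ | ⟨i, a⟩) (_ | ⟨j, a'⟩) c hc
    · rfl
    · exact absurd (pt_inj (h.ind_pt j) none (some a') c hc) (by simp)
    · exact absurd (pt_inj (h.ind_pt i) (some a) none c hc) (by simp)
    · have hc' : pt w₂ w₁ i + a • z = c • (pt w₂ w₁ j + a' • z) := hc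
      -- modulo `z`
      have key : pt w₂ w₁ i = c • pt w₂ w₁ j := by
        have h2 : (a - c * a') • z + (pt w₂ w₁ i - c • pt w₂ w₁ j) = 0 := by
          have h3 : pt w₂ w₁ i + a • z - c • (pt w₂ w₁ j + a' • z) = 0 := by rw [hc', sub_self]
          rw [← h3, smul_add, smul_smul, sub_smul]
          abel
        obtain ⟨x, y, hxy⟩ : ∃ x y : F, pt w₂ w₁ i - c • pt w₂ w₁ j = x • w₁ + y • w₂ := by
          have h4 : pt w₂ w₁ i - c • pt w₂ w₁ j ∈ Submodule.span F {w₂, w₁} :=
            sub_mem (pt_mem _ _ _) (Submodule.smul_mem _ _ (pt_mem _ _ _))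
          obtain ⟨y, x, hyx⟩ := Submodule.mem_span_pair.1 h4
          exact ⟨x, y, by rw [← hyx, add_comm]⟩
        rw [hxy, ← add_assoc] at h2
        obtain ⟨-, h5, h6⟩ := h.ind _ _ _ h2
        rw [h5, h6, zero_smul, zero_smul, add_zero] at hxy
        exact sub_eq_zero.1 hxy
      have hij := pt_inj h.ind12 i j c key
      subst hij
      have := pt_inj (h.ind_pt i) (some a) (some a') c hc'
      rw [Option.some_inj] at this
      rw [this]
  · intro v hv
    refine ⟨fun _ => ?_, fun _ => Set.mem_univ _⟩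
    obtain ⟨a, b, c, rfl⟩ := h.span v
    by_cases h0 : b • w₁ + c • w₂ = 0
    · refine ⟨a, none, ?_⟩
      rw [add_assoc, h0, add_zero]
      rfl
    · have h1 : b • w₁ + c • w₂ ∈ Submodule.span F {w₂, w₁} :=
        Submodule.mem_span_pair.2 ⟨c, b, add_comm _ _⟩
      obtain ⟨d, i, hd⟩ := exists_pt h1
      have hd0 : d ≠ 0 := by
        rintro rfl
        rw [zero_smul] at hd
        exact h0 hd
      refine ⟨d, some (i, d⁻¹ * a), ?_⟩
      change _ = d • (pt w₂ w₁ i + (d⁻¹ * a) • z)
      rw [smul_add, ← hd, smul_smul, ← mul_assoc, mul_inv_cancel₀ hd0, one_mul]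
      abel

end Cfsg.Agent.H184.Arc
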