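import Cfsg.Agent.H184.Arc

/-!
# The planar arc lemma: existence of the reflections
-/

set_option autoImplicit false
set_option linter.unusedSectionVars false

namespace Cfsg.Agent.H184.Arc

open Module

variable {F M : Type*} [Field F] [Fintype F] [AddCommGroup M] [Module F M] {S : Set M} {b : ℕ}

/-- the centre of a reflection preserving `S` is in `S` -/
theorem centre_mem (A : IsArc F S b) {e : M} (he : e ≠ 0) {ψ : M →ₗ[F] F} (h2 : ψ e = 2)
    (hp : ∀ v ∈ S, v - ψ v • e ∈ S) : e ∈ S := by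
  by_contra heS
  have two := A.two_ne
  obtain ⟨v₁, v₂, hv⟩ := exists_bas A he
  set w₁ := v₁ - (ψ v₁ * 2⁻¹) • e with hw₁
  set w₂ := v₂ - (ψ v₂ * 2⁻¹) • e with hw₂
  have hk₁ : ψ w₁ = 0 := by
    rw [hw₁, map_sub, map_smul, h2, smul_eq_mul, mul_assoc, inv_mul_cancel₀ two, mul_one, sub_self]
  have hk₂ : ψ w₂ = 0 := by
    rw [hw₂, map_sub, map_smul, h2, smul_eq_mul, mul_assoc, inv_mul_cancel₀ two, mul_one, sub_self]
  have hw : Bas F e w₁ w₂ := by
    refine bas_of_ind A fun x y z h => ?_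
    have h1 : (x - y * (ψ v₁ * 2⁻¹) - z * (ψ v₂ * 2⁻¹)) • e + y • v₁ + z • v₂ = 0 := by
      rw [← h, hw₁, hw₂, smul_sub, smul_sub, smul_smul, smul_smul, sub_smul, sub_smul]
      abel
    obtain ⟨h3, h4, h5⟩ := hv.ind _ _ _ h1
    rw [h4, h5, zero_mul, zero_mul, sub_zero, sub_zero] at h3
    exact ⟨h3, h4, h5⟩
  have hki : ∀ i : Option F, ψ (pt w₂ w₁ i) = 0 := by
    rintro (_ | a)
    · exact hk₂
    · rw [pt_some, map_add, map_smul, hk₁, hk₂, smul_zero, add_zero]
  have hrow : ∀ i : Option F, row F S e (pt w₂ w₁ i) = b * chi S (pt w₂ w₁ i) := by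
    intro i
    have h3 := row_parity A (e := e) (w := pt w₂ w₁ i) (by
      intro a ha
      have h4 := hp _ ha
      rw [map_add, map_smul, hki, h2, smul_eq_mul, zero_add] at h4
      convert h4 using 1
      rw [mul_comm, two_mul, add_smul]
      abel)
    have h5 := A.line e _ (hw.ind_pt i)
    rw [chi_neg heS, zero_add] at h5
    have h6 := b_odd A
    rw [Nat.odd_iff] at h6
    by_cases h7 : pt w₂ w₁ i ∈ S
    · rw [chi_pos h7] at h3 ⊢
      omega
    · rw [chi_neg h7] at h3 ⊢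
      omega
  obtain ⟨N, -, hN, hall⟩ := exists_num A
  have h8 := hall _ _ _ hw
  rw [chi_neg heS, zero_add, Finset.sum_congr rfl fun i _ => hrow i, ← Finset.mul_sum, Fintype.sum_option] at h8
  have h9 := A.line w₂ w₁ hw.ind12
  have h10 : chi S (pt w₂ w₁ (none : Option F)) + ∑ a : F, chi S (pt w₂ w₁ (some a)) = chi S w₂ + row F S w₂ w₁ := rfl
  rw [h10] at h8
  have hb1 := A.b1
  have hbq := A.bq
  rcases h9 with h9 | h9
  · rw [h9, mul_zero] at h8
    rw [h8] at hN
    nlinarith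
  · rw [h9] at h8
    rw [h8] at hN
    obtain ⟨c, hc⟩ : ∃ c, Fintype.card F = b + 1 + c := ⟨Fintype.card F - (b + 1), by omega⟩
    rw [hc] at hN
    nlinarith

/-- a linear map of order 2 with one-dimensional eigenspace for `-1` -/
theorem refl_of_rank (A : IsArc F S b) {s : M} (hs : s ∈ S) (H : M →ₗ[F] M) (hH : ∀ v, H (H v) = v)
    (hp : ∀ v ∈ S, H v ∈ S) (hc : ∃ c : F, H s = c • s)
    (hr : finrank F (LinearMap.ker (H + LinearMap.id)) = 1) : ∃ φ : M →ₗ[F] F, Refl S s φ := by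
  have := A.finDim
  obtain ⟨⟨e, he⟩, he0, hspan⟩ := finrank_eq_one_iff'.1 hr
  have he0' : e ≠ 0 := fun h => he0 (Subtype.ext h)
  have heH : H e = -e := by
    rw [LinearMap.mem_ker, LinearMap.add_apply, LinearMap.id_apply] at he
    exact eq_neg_of_add_eq_zero_left he
  have hD : ∀ v, (LinearMap.id - H : M →ₗ[F] M) v ∈ Submodule.span F {e} := by
    intro v
    have h1 : v - H v ∈ LinearMap.ker (H + LinearMap.id) := by
      rw [LinearMap.mem_ker, LinearMap.add_apply, LinearMap.id_apply, map_sub, hH]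
      abel
    obtain ⟨c, hc⟩ := hspan ⟨_, h1⟩
    exact Submodule.mem_span_singleton.2 ⟨c, congrArg Subtype.val hc⟩
  let ψ : M →ₗ[F] F := (LinearEquiv.toSpanNonzeroSingleton F M e he0').symm.toLinearMap.comp
    ((LinearMap.id - H : M →ₗ[F] M).codRestrict (Submodule.span F {e}) hD)
  have hψ : ∀ v, ψ v • e = v - H v := by
    intro v
    have h1 : LinearEquiv.toSpanNonzeroSingleton F M e he0' (ψ v) =
        (LinearMap.id - H : M →ₗ[F] M).codRestrict (Submodule.span F {e}) hD v :=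
      LinearEquiv.apply_symm_apply _ _
    exact congrArg Subtype.val h1
  have h2 : ψ e = 2 := by
    have h1 := hψ e
    rw [heH, sub_neg_eq_add] at h1
    have h3 : (ψ e - 2) • e = 0 := by
      rw [sub_smul, h1, two_smul, sub_self]
    rcases smul_eq_zero.1 h3 with h4 | h4
    · exact sub_eq_zero.1 h4
    · exact absurd h4 he0'
  have hp' : ∀ v ∈ S, v - ψ v • e ∈ S := by
    intro v hv
    rw [hψ, sub_sub_cancel]
    exact hp v hv
  have heS := centre_mem A he0' h2 hp'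
  have hR : Refl S e ψ := ⟨heS, h2, hp'⟩
  have h3 := hR.ne A hs
  obtain ⟨c, hc⟩ := hc
  have h4 : e = ((ψ s)⁻¹ * (1 - c)) • s := by
    have h5 := hψ s
    rw [hc] at h5
    have h6 : e = (ψ s)⁻¹ • (ψ s • e) := by rw [smul_smul, inv_mul_cancel₀ h3, one_smul]
    rw [h6, h5, ← smul_smul, sub_smul, one_smul]
  set d := (ψ s)⁻¹ * (1 - c) with hd
  clear_value d
  refine ⟨d • ψ, hs, ?_, fun v hv => ?_⟩
  · rw [h4, map_smul] at h2
    exact h2
  · have h5 := hp' v hv
    rwa [h4, smul_smul, mul_comm] at h5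

/-- a linear map of order 2 -/
theorem refl_of_sq (A : IsArc F S b) {s : M} (hs : s ∈ S) (H : M →ₗ[F] M) (hH : ∀ v, H (H v) = v)
    (hp : ∀ v ∈ S, H v ∈ S) (hc : ∃ c : F, H s = c • s) (h1 : ∃ v, H v ≠ v) (h1' : ∃ v, H v ≠ -v) :
    ∃ φ : M →ₗ[F] F, Refl S s φ := by
  have := A.finDim
  have two := A.two_ne
  set E₁ := LinearMap.ker (H + LinearMap.id) with hE₁
  set E₂ := LinearMap.ker (-H + LinearMap.id) with hE₂
  have m₁ : ∀ v, v ∈ E₁ ↔ H v = -v := by
    intro v
    rw [hE₁, LinearMap.mem_ker, LinearMap.add_apply, LinearMap.id_apply, add_eq_zero_iff_eq_neg]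
  have m₂ : ∀ v, v ∈ E₂ ↔ H v = v := by
    intro v
    rw [hE₂, LinearMap.mem_ker, LinearMap.add_apply, LinearMap.id_apply, LinearMap.neg_apply, add_comm,
      ← sub_eq_add_neg, sub_eq_zero, eq_comm]
  have hcompl : IsCompl E₁ E₂ := by
    constructor
    · rw [Submodule.disjoint_def]
      intro v hv hv'
      rw [m₁] at hv
      rw [m₂] at hv'
      rw [hv'] at hv
      have h2 : (2 : F) • v = 0 := by
        rw [two_smul]
        nth_rewrite 1 [hv]
        exact neg_add_cancel v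
      rcases smul_eq_zero.1 h2 with h3 | h3
      · exact absurd h3 two
      · exact h3
    · rw [codisjoint_iff, Submodule.eq_top_iff']
      intro v
      rw [Submodule.mem_sup]
      refine ⟨(2 : F)⁻¹ • (v - H v), ?_, (2 : F)⁻¹ • (v + H v), ?_, ?_⟩
      · rw [m₁, map_smul, map_sub, hH, ← smul_neg, neg_sub]
      · rw [m₂, map_smul, map_add, hH, add_comm]
      · rw [← smul_add, sub_add_add_cancel, ← two_smul F v, smul_smul, inv_mul_cancel₀ two, one_smul]
  have hsum := Submodule.finrank_add_eq_of_isCompl hcompl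
  rw [A.dim] at hsum
  have n₁ : finrank F E₁ ≠ 0 := by
    intro h0
    rw [Submodule.finrank_eq_zero] at h0
    obtain ⟨v, hv⟩ := h1
    apply hv
    have h2 : v - H v ∈ E₁ := by
      rw [m₁, map_sub, hH, neg_sub]
    rw [h0, Submodule.mem_bot, sub_eq_zero] at h2
    exact h2.symm
  have n₂ : finrank F E₂ ≠ 0 := by
    intro h0
    rw [Submodule.finrank_eq_zero] at h0
    obtain ⟨v, hv⟩ := h1'
    apply hv
    have h2 : v + H v ∈ E₂ := by
      rw [m₂, map_add, hH, add_comm]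
    rw [h0, Submodule.mem_bot] at h2
    exact eq_neg_of_add_eq_zero_right h2
  have h3 : finrank F E₁ = 1 ∨ finrank F E₂ = 1 := by omega
  rcases h3 with h3 | h3
  · exact refl_of_rank A hs H hH hp hc h3
  · refine refl_of_rank A hs (-H) (fun v => ?_) (fun v hv => ?_) ?_ h3
    · rw [LinearMap.neg_apply, LinearMap.neg_apply, map_neg, neg_neg, hH]
    · rw [LinearMap.neg_apply]
      exact A.cone.neg_iff.2 (hp v hv)
    · obtain ⟨c, hc⟩ := hc
      exact ⟨-c, by rw [LinearMap.neg_apply, hc, neg_smul]⟩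

/-- a linear map of order 2 modulo scalars -/
theorem refl_of_invol (A : IsArc F S b) {s : M} (hs : s ∈ S) (g : M ≃ₗ[F] M) (hg : ∀ v, g v ∈ S ↔ v ∈ S)
    (hgs : ∃ c : F, g s = c • s) (hl : ∃ l : F, ∀ v, g (g v) = l • v) (hns : ¬ ∃ c : F, ∀ v, g v = c • v) :
    ∃ φ : M →ₗ[F] F, Refl S s φ := by
  have := A.finDim
  obtain ⟨l, hl⟩ := hl
  have hs0 := A.cone.ne hs
  have hl0 : l ≠ 0 := by
    rintro rfl
    have h1 := hl s
    rw [zero_smul] at h1
    have h2 : g s = 0 := by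
      have := g.injective (h1.trans (map_zero g).symm)
      exact this
    exact hs0 (g.injective (h2.trans (map_zero g).symm))
  set δ := LinearMap.det (g : M →ₗ[F] M) with hδ
  have hδ2 : δ * δ = l ^ 3 := by
    rw [hδ, ← LinearMap.det_comp]
    have h1 : (g : M →ₗ[F] M).comp (g : M →ₗ[F] M) = l • LinearMap.id := by
      ext v
      exact hl v
    rw [h1, LinearMap.det_smul, LinearMap.det_id, mul_one, A.dim]
  set μ := δ * l⁻¹ with hμ
  have hμ2 : μ * μ = l := by
    have : μ * μ = (δ * δ) * (l⁻¹ * l⁻¹) := by rw [hμ]; ring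
    rw [this, hδ2]
    field_simp
  have hμ0 : μ ≠ 0 := by
    intro h0
    rw [h0, zero_mul] at hμ2
    exact hl0 hμ2.symm
  clear_value μ
  have hμi : μ⁻¹ ≠ 0 := inv_ne_zero hμ0
  refine refl_of_sq A hs (μ⁻¹ • (g : M →ₗ[F] M)) (fun v => ?_) (fun v hv => ?_) ?_ ?_ ?_
  · change μ⁻¹ • g (μ⁻¹ • g v) = v
    rw [map_smul, hl, smul_smul, smul_smul, ← hμ2]
    have : μ⁻¹ * μ⁻¹ * (μ * μ) = 1 := by field_simp
    rw [this, one_smul]
  · change μ⁻¹ • g v ∈ S
    rw [A.cone.smul_iff hμi, hg]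
    exact hv
  · obtain ⟨c, hc⟩ := hgs
    refine ⟨μ⁻¹ * c, ?_⟩
    change μ⁻¹ • g s = _
    rw [hc, smul_smul]
  · by_contra hcon
    push Not at hcon
    apply hns
    refine ⟨μ, fun v => ?_⟩
    have h1 : μ⁻¹ • g v = v := hcon v
    have h2 : g v = μ • (μ⁻¹ • g v) := by rw [smul_smul, mul_inv_cancel₀ hμ0, one_smul]
    rw [h2, h1]
  · by_contra hcon
    push Not at hcon
    apply hns
    refine ⟨-μ, fun v => ?_⟩
    have h1 : μ⁻¹ • g v = -v := hcon v
    have h2 : g v = μ • (μ⁻¹ • g v) := by rw [smul_smul, mul_inv_cancel₀ hμ0, one_smul]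
    rw [h2, h1, smul_neg, neg_smul]

end Cfsg.Agent.H184.Arc
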