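import Cfsg.Agent.H184.ArcGrp

/-!
# The planar arc lemma: the points of `S` on a line
-/

set_option autoImplicit false
set_option linter.unusedSectionVars false

namespace Cfsg.Agent.H184.Arc

open Module

variable {F M : Type*} [Field F] [Fintype F] [AddCommGroup M] [Module F M] {S : Set M} {b : ℕ}

theorem exists_second {F M : Type*} [Field F] [AddCommGroup M] [Module F M] [FiniteDimensional F M]
    {L : Submodule F M} (hL2 : finrank F L = 2) {s : M} (hs0 : s ≠ 0) :
    ∃ w ∈ L, Ind F s w := by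
  by_contra hcon
  push Not at hcon
  have h1 : L ≤ Submodule.span F {s} := by
    intro v hv
    obtain ⟨c, hc⟩ := not_ind hs0 (hcon v hv)
    exact Submodule.mem_span_singleton.2 ⟨c, hc.symm⟩
  have h2 := Submodule.finrank_mono h1
  have h3 := finrank_span_le_card (R := F) ({s} : Set M)
  rw [hL2] at h2
  simp at h3
  omega

theorem eq_span {F M : Type*} [Field F] [AddCommGroup M] [Module F M] [FiniteDimensional F M]
    {L : Submodule F M} (hL2 : finrank F L = 2) {s w : M} (hs : s ∈ L) (hw : w ∈ L) (h : Ind F s w) :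
    Submodule.span F {s, w} = L := by
  refine Submodule.eq_of_le_of_finrank_eq ?_ (by rw [h.finrank, hL2])
  rw [Submodule.span_le]
  rintro v (rfl | hv)
  · exact hs
  · rw [Set.mem_singleton_iff] at hv
    rw [hv]
    exact hw

theorem card_line (A : IsArc F S b) {L : Submodule F M} (hL2 : finrank F L = 2) {s : M} (hs : s ∈ S) (hsL : s ∈ L) :
    ((L : Set M) ∩ S).ncard = (Fintype.card F - 1) * b := by
  have := A.finDim
  obtain ⟨w, hw, hi⟩ := exists_second hL2 (A.cone.ne hs)
  rw [← eq_span hL2 hsL hw hi, card_plane A.cone hi]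
  have h1 := A.line s w hi
  have h2 : chi S s + row F S s w = chi S s + ∑ a : F, chi S (w + a • s) := rfl
  rw [← h2]
  rcases h1 with h1 | h1
  · rw [chi_pos hs] at h1
    omega
  · rw [h1]

theorem exists_fix (A : IsArc F S b) (p : ℕ) [hp : Fact p.Prime] [CharP F p] {L : Submodule F M}
    (hL2 : finrank F L = 2)
    (hh : ∀ s ∈ S, ∀ s' ∈ S, s ∈ L → s' ∈ L → ∃ t : M ≃ₗ[F] M, (∀ v, t v ∈ S ↔ v ∈ S) ∧
      L.map (t : M →ₗ[F] M) = L ∧ ∃ c : F, t s = c • s') (hne : ∃ s ∈ S, s ∈ L) :
    ∃ x ∈ L, x ≠ 0 ∧ x ∉ S ∧ ∀ e ∈ S, e ∈ L → Ind F x e ∧ ∀ a : F, e + a • x ∈ S → e - a • x ∈ S := by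
  classical
  have := finite_equiv A
  have := A.finDim
  have hfM : Finite M := Module.finite_of_finite F
  obtain ⟨f, -, hf⟩ := FiniteField.card F p
  let H : Subgroup (M ≃ₗ[F] M) :=
    { carrier := {g | (∀ v, g v ∈ S ↔ v ∈ S) ∧ L.map (g : M →ₗ[F] M) = L}
      mul_mem' := by
        rintro g h ⟨hg, hg'⟩ ⟨hh, hh'⟩
        refine ⟨fun v => ?_, ?_⟩
        · rw [LinearEquiv.mul_apply, hg, hh]
        · have : L.map ((g * h : M ≃ₗ[F] M) : M →ₗ[F] M) = (L.map (h : M →ₗ[F] M)).map (g : M →ₗ[F] M) :=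
            Submodule.map_comp (h : M →ₗ[F] M) (g : M →ₗ[F] M) L
          rw [this, hh', hg']
      one_mem' := ⟨fun v => Iff.rfl, Submodule.map_id L⟩
      inv_mem' := by
        rintro g ⟨hg, hg'⟩
        refine ⟨fun v => by rw [← hg (g⁻¹ v), app_inv], ?_⟩
        apply le_antisymm
        · rintro _ ⟨v, hv, rfl⟩
          rw [SetLike.mem_coe, ← hg'] at hv
          obtain ⟨w, hw, rfl⟩ := hv
          change g⁻¹ (g w) ∈ L
          have : g⁻¹ (g w) = w := by
            change (g⁻¹ * g) w = w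
            rw [inv_mul_cancel]
            rfl
          rwa [this]
        · intro v hv
          have h1 : g v ∈ L := by
            rw [← hg']
            exact ⟨v, hv, rfl⟩
          refine ⟨g v, h1, ?_⟩
          change (g⁻¹ * g) v = v
          rw [inv_mul_cancel]
          rfl }
  have hmemL : ∀ (g : ↥H) (v : M), v ∈ L → (g : M ≃ₗ[F] M) v ∈ L := by
    intro g v hv
    have h1 := g.2.2
    have h2 : (g : M ≃ₗ[F] M) v ∈ L.map ((g : M ≃ₗ[F] M) : M →ₗ[F] M) := ⟨v, hv, rfl⟩
    rwa [h1] at h2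
  obtain ⟨P⟩ : Nonempty (Sylow p ↥H) := inferInstance
  -- the action on `L`
  letI actL : MulAction ↥(P : Subgroup ↥H) ↥L :=
    { smul := fun g v => ⟨((g : ↥H) : M ≃ₗ[F] M) v, hmemL _ _ v.2⟩
      one_smul := fun v => Subtype.ext rfl
      mul_smul := fun g h v => Subtype.ext rfl }
  have hcardL : p ∣ Nat.card ↥L := by
    rw [Module.natCard_eq_pow_finrank (K := F), Nat.card_eq_fintype_card, hL2, hf, ← pow_mul]
    refine dvd_pow_self p ?_
    have := f.pos
    omega
  obtain ⟨x', hx', hne'⟩ := P.isPGroup'.exists_fixed_point_of_prime_dvd_card_of_fixed_point ↥L hcardL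
    (a := (0 : ↥L)) (fun g => Subtype.ext (map_zero _))
  obtain ⟨x, hxL⟩ := x'
  have hx0 : x ≠ 0 := fun h => hne' (Subtype.ext h.symm)
  have hfix : ∀ g : ↥(P : Subgroup ↥H), ((g : ↥H) : M ≃ₗ[F] M) x = x := fun g => congrArg Subtype.val (hx' g)
  -- the orbit of a point
  have key : ∀ e ∈ S, e ∈ L → Ind F x e ∧ x ∉ S ∧ ∀ a : F, e + a • x ∈ S → e - a • x ∈ S := by
    intro e he heL
    have horb : MulAction.orbit ↥H e = (L : Set M) ∩ S := by
      ext v
      constructor
      · rintro ⟨g, rfl⟩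
        exact ⟨hmemL g e heL, (g.2.1 e).2 he⟩
      · rintro ⟨hvL, hvS⟩
        obtain ⟨t, ht, hm, c, hc⟩ := hh e he v hvS heL hvL
        have hc0 : c ≠ 0 := by
          rintro rfl
          rw [zero_smul] at hc
          exact A.cone.ne he (t.injective (hc.trans (map_zero t).symm))
        have hci := inv_ne_zero hc0
        let g : M ≃ₗ[F] M := t.trans (LinearEquiv.smulOfNeZero F M c⁻¹ hci)
        have hgv : ∀ v, g v = c⁻¹ • t v := fun v => rfl
        have hgH : g ∈ H := by
          refine ⟨fun v => ?_, ?_⟩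
          · rw [hgv, A.cone.smul_iff hci, ht]
          · apply le_antisymm
            · rintro _ ⟨w, hw, rfl⟩
              change g w ∈ L
              rw [hgv]
              refine L.smul_mem _ ?_
              rw [← hm]
              exact ⟨w, hw, rfl⟩
            · intro w hw
              rw [← hm] at hw
              obtain ⟨u, hu, rfl⟩ := hw
              refine ⟨c • u, L.smul_mem _ hu, ?_⟩
              change g (c • u) = t u
              rw [hgv, map_smul, smul_smul, inv_mul_cancel₀ hc0, one_smul]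
        refine ⟨⟨g, hgH⟩, ?_⟩
        change g e = v
        rw [hgv, hc, smul_smul, inv_mul_cancel₀ hc0, one_smul]
    have hcH : Nat.card ↥H = Nat.card ↥(MulAction.stabilizer ↥H e) * ((Fintype.card F - 1) * b) := by
      rw [← (MulAction.stabilizer ↥H e).card_mul_index, MulAction.index_stabilizer, horb, card_line A hL2 he heL]
    set Pe := MulAction.stabilizer ↥(P : Subgroup ↥H) e with hPe
    have hcP : Nat.card ↥(P : Subgroup ↥H) = Nat.card ↥Pe * (MulAction.orbit ↥(P : Subgroup ↥H) e).ncard := by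
      rw [← Pe.card_mul_index, hPe, MulAction.index_stabilizer]
    have hPed : Nat.card ↥Pe ∣ Nat.card ↥(MulAction.stabilizer ↥H e) := by
      have h1 : Pe.map (P : Subgroup ↥H).subtype ≤ MulAction.stabilizer ↥H e := by
        rintro _ ⟨g, hg, rfl⟩
        exact hg
      have h2 := Subgroup.card_dvd_of_le h1
      rwa [Subgroup.card_map_of_injective (Subgroup.subtype_injective _)] at h2
    obtain ⟨i, hi⟩ := IsPGroup.iff_card.1 (P.isPGroup'.to_subgroup Pe)
    obtain ⟨j, -, hj⟩ := (Nat.dvd_prime_pow hp.out).1 (hf ▸ b_dvd A)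
    have h1 : p ^ (i + j) ∣ Nat.card ↥H := by
      rw [pow_add, ← hi, ← hj, hcH]
      exact Nat.mul_dvd_mul hPed (dvd_mul_left _ _)
    have h2 := P.pow_dvd_card_of_pow_dvd_card h1
    rw [hcP, pow_add, ← hi, ← hj] at h2
    have h3 : b ∣ (MulAction.orbit ↥(P : Subgroup ↥H) e).ncard :=
      Nat.dvd_of_mul_dvd_mul_left Nat.card_pos h2
    have hob : b ≤ (MulAction.orbit ↥(P : Subgroup ↥H) e).ncard := by
      refine Nat.le_of_dvd ?_ h3
      rw [Set.ncard_pos (Set.toFinite _)]
      exact ⟨e, MulAction.mem_orbit_self e⟩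
    have hb1 := A.b1
    have hI : Ind F x e := by
      refine ind_of_not hx0 fun c hc => ?_
      have h4 : MulAction.orbit ↥(P : Subgroup ↥H) e ⊆ {e} := by
        rintro _ ⟨g, rfl⟩
        rw [Set.mem_singleton_iff]
        change ((g : ↥H) : M ≃ₗ[F] M) e = e
        rw [hc, map_smul, hfix]
      have h5 := Set.ncard_le_ncard h4 (Set.toFinite _)
      rw [Set.ncard_singleton] at h5
      omega
    have hspan := eq_span hL2 hxL heL hI
    have hunip : ∀ g : ↥(P : Subgroup ↥H), ∃ a : F, ((g : ↥H) : M ≃ₗ[F] M) e = e + a • x := by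
      intro g
      have h4 := hmemL (g : ↥H) e heL
      rw [← hspan] at h4
      obtain ⟨α, β, hαβ⟩ := Submodule.mem_span_pair.1 h4
      have h5 : ∀ n : ℕ, ∃ γ : F, (((g : ↥H) : M ≃ₗ[F] M) ^ n) e = γ • x + β ^ n • e := by
        intro n
        induction n with
        | zero => exact ⟨0, by rw [pow_zero, pow_zero, zero_smul, zero_add, one_smul]; rfl⟩
        | succ n ih =>
          obtain ⟨γ, hγ⟩ := ih
          refine ⟨γ + β ^ n * α, ?_⟩
          rw [pow_succ', LinearEquiv.mul_apply, hγ, map_add, map_smul, map_smul, hfix, ← hαβ, smul_add, smul_smul,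
            smul_smul, pow_succ, add_smul]
          abel
      obtain ⟨k, hk⟩ := (IsPGroup.iff_orderOf.1 P.isPGroup') g
      have h6 : ((g : ↥H) : M ≃ₗ[F] M) ^ p ^ k = 1 := by
        have h7 : (g : ↥(P : Subgroup ↥H)) ^ p ^ k = 1 := by
          rw [← hk]
          exact pow_orderOf_eq_one g
        have h8 := congrArg (fun y : ↥(P : Subgroup ↥H) => ((y : ↥H) : M ≃ₗ[F] M)) h7
        simpa using h8
      obtain ⟨γ, hγ⟩ := h5 (p ^ k)
      rw [h6] at hγ
      have h9 : (-γ) • x + (1 - β ^ p ^ k) • e = 0 := by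
        have h10 : (1 : M ≃ₗ[F] M) e = e := rfl
        rw [h10] at hγ
        have h11 : γ • x + β ^ p ^ k • e - e = 0 := by rw [← hγ, sub_self]
        have h12 : (-γ) • x + (1 - β ^ p ^ k) • e = -(γ • x + β ^ p ^ k • e - e) := by
          rw [neg_smul, sub_smul, one_smul]
          abel
        rw [h12, h11, neg_zero]
      have h13 : β ^ (p ^ k * 1) = 1 := by
        rw [mul_one]
        exact (sub_eq_zero.1 (hI _ _ h9).2).symm
      rw [ExpChar.pow_prime_pow_mul_eq_one_iff p k 1 β, pow_one] at h13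
      refine ⟨α, ?_⟩
      rw [← hαβ, h13, one_smul, add_comm]
    -- counting
    set A₀ : Set F := {a | e + a • x ∈ S} with hA₀
    have hsub : MulAction.orbit ↥(P : Subgroup ↥H) e ⊆ (fun a : F => e + a • x) '' A₀ := by
      rintro _ ⟨g, rfl⟩
      obtain ⟨a, ha⟩ := hunip g
      refine ⟨a, ?_, ha.symm⟩
      change e + a • x ∈ S
      rw [← ha]
      exact ((g : ↥H).2.1 e).2 he
    have hrow : row F S x e = A₀.ncard := by
      unfold row
      rw [sum_chi]
    have hc1 := Set.ncard_le_ncard hsub (Set.toFinite _)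
    have hc2 := Set.ncard_image_le (f := fun a : F => e + a • x) (Set.toFinite A₀)
    have hline := A.line x e hI
    have hxS : x ∉ S := by
      intro hxS
      rw [chi_pos hxS] at hline
      omega
    rw [chi_neg hxS] at hline
    have heq : MulAction.orbit ↥(P : Subgroup ↥H) e = (fun a : F => e + a • x) '' A₀ := by
      refine Set.eq_of_subset_of_ncard_le hsub ?_ (Set.toFinite _)
      omega
    refine ⟨hI, hxS, fun a ha => ?_⟩
    have h4 : e + a • x ∈ MulAction.orbit ↥(P : Subgroup ↥H) e := by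
      rw [heq]
      exact ⟨a, ha, rfl⟩
    obtain ⟨g, hg⟩ := h4
    have hg' : ((g : ↥H) : M ≃ₗ[F] M) e = e + a • x := hg
    have h5 : ((g : ↥H) : M ≃ₗ[F] M) (e - a • x) = e := by
      rw [map_sub, map_smul, hfix, hg', add_sub_cancel_right]
    rw [← (g : ↥H).2.1, h5]
    exact he
  obtain ⟨s, hs, hsL⟩ := hne
  exact ⟨x, hxL, hx0, (key s hs hsL).2.1, fun e he heL => ⟨(key e he heL).1, (key e he heL).2.2⟩⟩

end Cfsg.Agent.H184.Arc
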