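import Cfsg.Agent.H822.Cls.Props

/-!
# The numerical lemma of S4148 (task 1451, T5; helper184)
-/

set_option autoImplicit false

namespace Cfsg.Agent.H184.ClsNum

open Cfsg.Agent.H822.Cls

theorem poly2 (m : ℕ) (hm : 11 ≤ m) : 8 * m ^ 2 + 6 * m ≤ 2 ^ m := by
  induction m, hm using Nat.le_induction with
  | base => norm_num
  | succ m hm ih =>
    rw [pow_succ 2]
    nlinarith

theorem poly2' (m : ℕ) (hm : 8 ≤ m) : 14 + 8 * m ^ 2 + 4 * m ≤ 3 * 2 ^ m := by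
  induction m, hm using Nat.le_induction with
  | base => norm_num
  | succ m hm ih =>
    rw [pow_succ 2]
    nlinarith

theorem poly3 (m : ℕ) (hm : 5 ≤ m) : 8 * m ^ 2 + 6 * m + 1 ≤ 3 ^ m := by
  induction m, hm using Nat.le_induction with
  | base => norm_num
  | succ m hm ih =>
    rw [pow_succ 3]
    nlinarith

theorem poly3' (m : ℕ) (hm : 4 ≤ m) : 9 + 8 * m ^ 2 + 4 * m ≤ 2 * 3 ^ m := by
  induction m, hm using Nat.le_induction with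
  | base => norm_num
  | succ m hm ih =>
    rw [pow_succ 3]
    nlinarith

theorem poly5 (m : ℕ) (hm : 4 ≤ m) : 8 * m ^ 2 + 6 * m + 1 ≤ 5 ^ m := by
  induction m, hm using Nat.le_induction with
  | base => norm_num
  | succ m hm ih =>
    rw [pow_succ 5]
    nlinarith

theorem poly7 (m : ℕ) (hm : 2 ≤ m) : 8 * m ^ 2 + 6 * m + 1 ≤ 7 ^ m := by
  induction m, hm using Nat.le_induction with
  | base => norm_num
  | succ m hm ih =>
    rw [pow_succ 7]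
    nlinarith

/-- `2 ^ (2 p) ≤ 4 ^ (2 m + 1)` for `p ≤ 2 m + 1`. -/
theorem two_pow_le {p m : ℕ} (h : p ≤ 2 * m + 1) : 2 ^ (2 * p) ≤ 4 ^ (2 * m + 1) := by
  have e : (4 : ℕ) ^ (2 * m + 1) = 2 ^ (2 * (2 * m + 1)) := by
    rw [pow_mul]
    norm_num
  rw [e]
  exact Nat.pow_le_pow_right (by norm_num) (by omega)

/-- the case `q ≥ 5` -/
theorem factor_big {q m f p : ℕ} (hq : 4 ≤ q) (hf : q ≤ f) (hp : p ≤ 2 * m + 1)
    (h : 8 * m ^ 2 + 6 * m + 1 ≤ q ^ m) :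
    2 ^ (2 * p) * q ^ (8 * m ^ 2 + 4 * m) ≤ f ^ (q ^ m) := by
  calc 2 ^ (2 * p) * q ^ (8 * m ^ 2 + 4 * m)
      ≤ 4 ^ (2 * m + 1) * q ^ (8 * m ^ 2 + 4 * m) := Nat.mul_le_mul_right _ (two_pow_le hp)
    _ ≤ q ^ (2 * m + 1) * q ^ (8 * m ^ 2 + 4 * m) :=
        Nat.mul_le_mul_right _ (Nat.pow_le_pow_left hq _)
    _ = q ^ (8 * m ^ 2 + 6 * m + 1) := by rw [← pow_add]; congr 1; ring
    _ ≤ q ^ (q ^ m) := Nat.pow_le_pow_right (by omega) h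
    _ ≤ f ^ (q ^ m) := Nat.pow_le_pow_left hf _

/-- the case `q = 3`, `p ≥ 11` -/
theorem factor_three {m f p : ℕ} (hf : 4 ≤ f) (hp : p ≤ 2 * m + 1) (hm : 5 ≤ m) :
    2 ^ (2 * p) * 3 ^ (8 * m ^ 2 + 4 * m) ≤ f ^ (3 ^ m) := by
  calc 2 ^ (2 * p) * 3 ^ (8 * m ^ 2 + 4 * m)
      ≤ 4 ^ (2 * m + 1) * 4 ^ (8 * m ^ 2 + 4 * m) :=
        Nat.mul_le_mul (two_pow_le hp) (Nat.pow_le_pow_left (by norm_num) _)
    _ = 4 ^ (8 * m ^ 2 + 6 * m + 1) := by rw [← pow_add]; congr 1; ring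
    _ ≤ 4 ^ (3 ^ m) := Nat.pow_le_pow_right (by norm_num) (poly3 m hm)
    _ ≤ f ^ (3 ^ m) := Nat.pow_le_pow_left hf _

/-- the case `q = 3`, `p = 7` -/
theorem factor_three_seven {m f : ℕ} (hf : 9 ≤ f) (hm : 4 ≤ m) :
    2 ^ (2 * 7) * 3 ^ (8 * m ^ 2 + 4 * m) ≤ f ^ (3 ^ m) := by
  calc 2 ^ (2 * 7) * 3 ^ (8 * m ^ 2 + 4 * m)
      ≤ 3 ^ 9 * 3 ^ (8 * m ^ 2 + 4 * m) := Nat.mul_le_mul_right _ (by norm_num)
    _ = 3 ^ (9 + 8 * m ^ 2 + 4 * m) := by rw [← pow_add]; congr 1; ring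
    _ ≤ 3 ^ (2 * 3 ^ m) := Nat.pow_le_pow_right (by norm_num) (poly3' m hm)
    _ = 9 ^ (3 ^ m) := by rw [pow_mul]; norm_num
    _ ≤ f ^ (3 ^ m) := Nat.pow_le_pow_left hf _

/-- the case `q = 2`, `p ≥ 11` -/
theorem factor_two {m f p : ℕ} (hf : 2 ≤ f) (hp : p ≤ m) (hm : 11 ≤ m) :
    2 ^ (2 * p) * 2 ^ (8 * m ^ 2 + 4 * m) ≤ f ^ (2 ^ m) := by
  calc 2 ^ (2 * p) * 2 ^ (8 * m ^ 2 + 4 * m)
      = 2 ^ (2 * p + (8 * m ^ 2 + 4 * m)) := by rw [← pow_add]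
    _ ≤ 2 ^ (8 * m ^ 2 + 6 * m) := Nat.pow_le_pow_right (by norm_num) (by omega)
    _ ≤ 2 ^ (2 ^ m) := Nat.pow_le_pow_right (by norm_num) (poly2 m hm)
    _ ≤ f ^ (2 ^ m) := Nat.pow_le_pow_left hf _

/-- the case `q = 2`, `p = 7` -/
theorem factor_two_seven {m f : ℕ} (hf : 11 ≤ f) (hm : 7 ≤ m) :
    2 ^ (2 * 7) * 2 ^ (8 * m ^ 2 + 4 * m) ≤ f ^ (2 ^ m) := by
  rcases Nat.lt_or_ge 7 m with h | h
  · calc 2 ^ (2 * 7) * 2 ^ (8 * m ^ 2 + 4 * m)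
        = 2 ^ (14 + 8 * m ^ 2 + 4 * m) := by rw [← pow_add]; congr 1; ring
      _ ≤ 2 ^ (3 * 2 ^ m) := Nat.pow_le_pow_right (by norm_num) (poly2' m h)
      _ = 8 ^ (2 ^ m) := by rw [pow_mul]; norm_num
      _ ≤ f ^ (2 ^ m) := Nat.pow_le_pow_left (by omega) _
  · have hm7 : m = 7 := le_antisymm h hm
    subst hm7
    calc 2 ^ (2 * 7) * 2 ^ (8 * 7 ^ 2 + 4 * 7) = 2 ^ (2 * 7 + (8 * 7 ^ 2 + 4 * 7)) :=
          (pow_add 2 _ _).symm
      _ ≤ 2 ^ (110 * 4) := Nat.pow_le_pow_right (by norm_num) (by norm_num)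
      _ = (2 ^ 110) ^ 4 := by rw [pow_mul]
      _ ≤ (11 ^ 32) ^ 4 := Nat.pow_le_pow_left (by norm_num) 4
      _ = 11 ^ (2 ^ 7) := by rw [← pow_mul]; norm_num
      _ ≤ f ^ (2 ^ 7) := Nat.pow_le_pow_left hf _

/-- One factor. -/
theorem one_factor {q m f p n : ℕ} (hq : q.Prime) (hf : 2 ≤ f) (hfq : q ∣ f - 1) (hp : p.Prime)
    (hpf : ¬ p ∣ f) (hpq : p ≠ q) (h2 : q = 2 → p ≤ m) (hodd : q ≠ 2 → p ≤ 2 * m + 1)
    (h7 : p = 7 → q ≠ 2 → 4 ≤ m) (hgood : Good p n) (hqn : q ∣ n) (hfn : f ∣ n) :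
    2 ^ (2 * p) * q ^ (8 * m ^ 2 + 4 * m) ≤ f ^ (q ^ m) := by
  obtain ⟨hp5, hg5, hg7⟩ := hgood
  have hqf : q ≤ f - 1 := Nat.le_of_dvd (by omega) hfq
  have hp11 : p ≠ 5 → p ≠ 7 → 11 ≤ p := by
    intro h5 h7
    by_contra h
    have : p = 6 ∨ p = 8 ∨ p = 9 ∨ p = 10 := by omega
    rcases this with rfl | rfl | rfl | rfl <;> exact absurd hp (by norm_num)
  have hnf : ∀ r : ℕ, ¬ r ∣ n → ¬ r ∣ f := fun r h h' => h (h'.trans hfn)
  by_cases hq2 : q = 2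
  · subst hq2
    have hpm := h2 rfl
    have hp5' : p ≠ 5 := fun h => (hg5 h).1 hqn
    by_cases hp7 : p = 7
    · subst hp7
      have h35 : ¬ 3 ∣ n ∧ ¬ 5 ∣ n := by
        rcases hg7 rfl with h | h | h
        · exact absurd hqn h.1
        · exact absurd hqn h.1
        · exact h
      have h3 := hnf 3 h35.1
      have h5 := hnf 5 h35.2
      refine factor_two_seven ?_ hpm
      by_contra hlt
      have : f = 2 ∨ f = 3 ∨ f = 4 ∨ f = 5 ∨ f = 6 ∨ f = 7 ∨ f = 8 ∨ f = 9 ∨ f = 10 := by omega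
      rcases this with rfl | rfl | rfl | rfl | rfl | rfl | rfl | rfl | rfl <;> omega
    · exact factor_two hf hpm ((hp11 hp5' hp7).trans hpm)
  · have hpm := hodd hq2
    by_cases hq3 : q = 3
    · subst hq3
      have hp5' : p ≠ 5 := fun h => (hg5 h).2 hqn
      by_cases hp7 : p = 7
      · subst hp7
        have h25 : ¬ 2 ∣ n ∧ ¬ 5 ∣ n := by
          rcases hg7 rfl with h | h | h
          · exact absurd hqn h.2
          · exact h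
          · exact absurd hqn h.1
        have h2' := hnf 2 h25.1
        refine factor_three_seven ?_ (h7 rfl hq2)
        by_contra hlt
        have : f = 2 ∨ f = 3 ∨ f = 4 ∨ f = 5 ∨ f = 6 ∨ f = 7 ∨ f = 8 := by omega
        rcases this with rfl | rfl | rfl | rfl | rfl | rfl | rfl <;> omega
      · have := hp11 hp5' hp7
        exact factor_three (by omega) hpm (by omega)
    · have hq5 : 5 ≤ q := by
        by_contra h
        have h2 := hq.two_le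
        have : q = 4 := by omega
        subst this
        exact absurd hq (by norm_num)
      refine factor_big (by omega) (by omega) hpm ?_
      by_cases hq5' : q = 5
      · subst hq5'
        apply poly5
        by_cases hp7 : p = 7
        · exact h7 hp7 hq2
        · have := hp11 hpq hp7
          omega
      · have hq7 : 7 ≤ q := by
          by_contra h
          have : q = 6 := by omega
          subst this
          exact absurd hq (by norm_num)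
        exact (poly7 m (by omega)).trans (Nat.pow_le_pow_left hq7 m)

/-- The product over `I`. -/
theorem prod_I {I : Finset ℕ} (hIne : I.Nonempty) {m : ℕ → ℕ} {f p : ℕ} (hf : 2 ≤ f)
    (hx : ∀ q ∈ I, 2 ≤ q ^ m q)
    (h : ∀ q ∈ I, 2 ^ (2 * p) * q ^ (8 * m q ^ 2 + 4 * m q) ≤ f ^ (q ^ m q)) :
    2 ^ (2 * p) * ∏ q ∈ I, q ^ (8 * m q ^ 2 + 4 * m q) ≤ f ^ (∏ q ∈ I, q ^ m q) ∧
      2 ≤ ∏ q ∈ I, q ^ m q := by
  induction hIne using Finset.Nonempty.cons_induction with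
  | singleton a =>
    rw [Finset.prod_singleton, Finset.prod_singleton]
    exact ⟨h a (Finset.mem_singleton_self a), hx a (Finset.mem_singleton_self a)⟩
  | cons a s ha hs ih =>
    obtain ⟨h1, h2⟩ := ih (fun q hq => hx q (Finset.mem_cons_of_mem hq))
      (fun q hq => h q (Finset.mem_cons_of_mem hq))
    rw [Finset.prod_cons, Finset.prod_cons]
    have ha2 := hx a (Finset.mem_cons_self a s)
    have ha1 := h a (Finset.mem_cons_self a s)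
    have hone : 1 ≤ 2 ^ (2 * p) := Nat.one_le_two_pow
    have ha3 : a ^ (8 * m a ^ 2 + 4 * m a) ≤ f ^ (a ^ m a) :=
      le_trans (Nat.le_mul_of_pos_left _ hone) ha1
    set X := ∏ q ∈ s, q ^ m q with hX
    have hsum : a ^ m a + X ≤ a ^ m a * X := by nlinarith
    refine ⟨?_, by nlinarith⟩
    calc 2 ^ (2 * p) * (a ^ (8 * m a ^ 2 + 4 * m a) * ∏ q ∈ s, q ^ (8 * m q ^ 2 + 4 * m q))
        = a ^ (8 * m a ^ 2 + 4 * m a) * (2 ^ (2 * p) * ∏ q ∈ s, q ^ (8 * m q ^ 2 + 4 * m q)) := by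
          ring
      _ ≤ f ^ (a ^ m a) * f ^ X := Nat.mul_le_mul ha3 h1
      _ = f ^ (a ^ m a + X) := by rw [pow_add]
      _ ≤ f ^ (a ^ m a * X) := Nat.pow_le_pow_right (by omega) hsum

theorem numeric (Q I : Finset ℕ) (m : ℕ → ℕ) (f p : ℕ) (hQ : ∀ q ∈ Q, q.Prime)
    (hm : ∀ q ∈ Q, 1 ≤ m q) (hI : I ⊆ Q) (hIne : I.Nonempty) (hf : 2 ≤ f)
    (hfQ : ∀ q ∈ Q, q ∣ f - 1) (hp : p.Prime) (hpf : ¬ p ∣ f) (hpQ : p ∉ Q)
    (h2 : 2 ∈ I → p ≤ m 2) (hodd : ∀ q ∈ I, q ≠ 2 → p ≤ 2 * m q + 1)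
    (h7 : p = 7 → ∀ q ∈ I, q ≠ 2 → 4 ≤ m q) (hgood : Good p (f * ∏ q ∈ Q, q)) :
    2 ^ (2 * p) * (∏ q ∈ Q, q ^ m q) ^ 4 * ∏ q ∈ I, q ^ (8 * m q ^ 2) ≤
      f ^ (∏ q ∈ Q, q ^ m q) := by
  have hp5 : 5 ≤ p := hgood.1
  have hx : ∀ q ∈ Q, 2 ≤ q ^ m q := fun q hq =>
    (hQ q hq).two_le.trans (Nat.le_self_pow (by have := hm q hq; omega) q)
  have h1 : ∀ q ∈ I, 2 ^ (2 * p) * q ^ (8 * m q ^ 2 + 4 * m q) ≤ f ^ (q ^ m q) := by
    intro q hq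
    refine one_factor (hQ q (hI hq)) hf (hfQ q (hI hq)) hp hpf
      (fun h => hpQ (h ▸ hI hq)) ?_ (hodd q hq) (fun h => h7 h q hq) hgood
      ((Finset.dvd_prod_of_mem (fun q => q) (hI hq)).trans (Dvd.intro_left _ rfl)) (Dvd.intro _ rfl)
    rintro rfl
    exact h2 hq
  obtain ⟨hprod, -⟩ := prod_I hIne hf (fun q hq => hx q (hI hq)) h1
  -- the product over `I` is at least 4
  have hI4 : 4 ≤ ∏ q ∈ I, q ^ m q := by
    obtain ⟨q, hq⟩ := hIne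
    have hpos : ∀ r ∈ I, 0 < r ^ m r := fun r hr => by have := hx r (hI hr); omega
    have hle : q ^ m q ≤ ∏ q ∈ I, q ^ m q :=
      Nat.le_of_dvd (Finset.prod_pos hpos) (Finset.dvd_prod_of_mem (fun q => q ^ m q) hq)
    refine le_trans ?_ hle
    have hm2 : 2 ≤ m q := by
      by_cases hq2 : q = 2
      · subst hq2
        have := h2 hq
        omega
      · have := hodd q hq hq2
        omega
    calc 4 = 2 ^ 2 := rfl
      _ ≤ q ^ 2 := Nat.pow_le_pow_left (hQ q (hI hq)).two_le 2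
      _ ≤ q ^ m q := Nat.pow_le_pow_right (hQ q (hI hq)).pos hm2
  have hsplit : ∏ q ∈ Q, q ^ m q = (∏ q ∈ I, q ^ m q) * ∏ q ∈ Q \ I, q ^ m q := by
    rw [mul_comm]
    exact (Finset.prod_sdiff hI).symm
  set eI := ∏ q ∈ I, q ^ m q with heI
  set e' := ∏ q ∈ Q \ I, q ^ m q with he'
  have he'pos : 1 ≤ e' := by
    change 0 < ∏ q ∈ Q \ I, q ^ m q
    refine Finset.prod_pos fun q hq => ?_
    have := hx q (Finset.sdiff_subset hq)
    omega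
  have hmul : ∏ q ∈ I, q ^ (8 * m q ^ 2 + 4 * m q) = eI ^ 4 * ∏ q ∈ I, q ^ (8 * m q ^ 2) := by
    rw [heI, ← Finset.prod_pow, ← Finset.prod_mul_distrib]
    refine Finset.prod_congr rfl fun q _ => ?_
    rw [← pow_mul, ← pow_add]
    congr 1
    ring
  rw [hmul] at hprod
  rw [hsplit]
  obtain ⟨d, hd⟩ : ∃ d, e' = d + 1 := ⟨e' - 1, by omega⟩
  rw [hd]
  have h4 : (d + 1) ^ 4 ≤ f ^ (eI * d) := by
    calc (d + 1) ^ 4 ≤ (2 ^ d) ^ 4 := Nat.pow_le_pow_left (Nat.lt_two_pow_self) 4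
      _ = 2 ^ (4 * d) := by rw [← pow_mul, mul_comm]
      _ ≤ 2 ^ (eI * d) := Nat.pow_le_pow_right (by norm_num) (Nat.mul_le_mul_right _ hI4)
      _ ≤ f ^ (eI * d) := Nat.pow_le_pow_left hf _
  calc 2 ^ (2 * p) * (eI * (d + 1)) ^ 4 * ∏ q ∈ I, q ^ (8 * m q ^ 2)
      = (2 ^ (2 * p) * (eI ^ 4 * ∏ q ∈ I, q ^ (8 * m q ^ 2))) * (d + 1) ^ 4 := by ring
    _ ≤ f ^ eI * f ^ (eI * d) := Nat.mul_le_mul hprod h4
    _ = f ^ (eI * (d + 1)) := by rw [← pow_add]; congr 1; ring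

end Cfsg.Agent.H184.ClsNum
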