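import Cfsg.Agent.H91.Symp
import Cfsg.Agent.H184.ArcBase

/-!
# Field extension subgroups of the symplectic groups (for S2195, task of helper91)

* `three_orbits` : a group of semisimilarities of an alternating form over an extension field `E` containing the
  transvections has at least three orbits on the totally isotropic lines;
* `not_SL` : the isometry group does not contain all `E`-transvections if `dim_E V ≥ 3`.
-/

set_option autoImplicit false
set_option linter.unusedSectionVars false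

namespace Cfsg.Agent.H184.SpExt

open Module Cfsg.Agent.H91 Cfsg.Agent.H184.Arc

section

variable {F V : Type*} [Field F] [AddCommGroup V] [Module F V] [FiniteDimensional F V]
  {B : LinearMap.BilinForm F V} {E : Type*} [Field E] [Module E V] [Algebra F E]
  [IsScalarTower F E V]

theorem finDim_E (F : Type*) {V E : Type*} [Field F] [AddCommGroup V] [Module F V] [FiniteDimensional F V]
    [Field E] [Module E V] [Algebra F E] [IsScalarTower F E V] : FiniteDimensional E V :=
  Module.Finite.of_restrictScalars_finite F E V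

/-- no group of isometries contains all `E`-transvections -/
theorem not_SL (hB : Symp.SForm B) (K : Subgroup (V ≃ₗ[F] V)) (hK : K ≤ Symp.Iso B)
    (ha : 3 ≤ Module.finrank E V)
    (hN : ∀ (u : V) (φ : V →ₗ[E] E), φ u = 0 → ∃ g ∈ K, ∀ x, g x = x + φ x • u) : False := by
  classical
  have hfd : FiniteDimensional E V := finDim_E F
  have : Nontrivial V := Module.nontrivial_of_finrank_pos (R := E) (by omega)
  obtain ⟨u, hu⟩ := exists_ne (0 : V)
  apply hu
  refine hB.eq_zero fun y => ?_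
  -- a functional vanishing on `u` and `y`
  have hlt : Submodule.span E {u, y} < ⊤ := by
    rw [lt_top_iff_ne_top]
    intro htop
    have h1 := finrank_span_le_card (R := E) ({u, y} : Set V)
    rw [htop, finrank_top, Set.toFinset_card] at h1
    have h2 : Fintype.card ({u, y} : Set V) ≤ 2 := by
      rw [← Set.toFinset_card]
      refine (Finset.card_le_card (t := {u, y}) ?_).trans Finset.card_le_two
      intro z hz
      simpa using hz
    omega
  obtain ⟨φ, hφ0, hφ⟩ := Submodule.exists_le_ker_of_lt_top _ hlt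
  have hφu : φ u = 0 := hφ (Submodule.subset_span (by simp))
  have hφy : φ y = 0 := hφ (Submodule.subset_span (by simp))
  obtain ⟨x, hx⟩ : ∃ x, φ x ≠ 0 := by
    by_contra hcon
    push Not at hcon
    exact hφ0 (LinearMap.ext hcon)
  obtain ⟨g, hg, hgx⟩ := hN u φ hφu
  have h1 := hK hg ((φ x)⁻¹ • x) y
  rw [hgx, hgx y, hφy, zero_smul, add_zero, map_smul, smul_eq_mul, inv_mul_cancel₀ hx, one_smul, map_add,
    LinearMap.add_apply] at h1
  exact add_eq_left.1 h1

end

section

variable {F V : Type*} [Field F] [AddCommGroup V] [Module F V]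
  {B : LinearMap.BilinForm F V} {E : Type*} [Field E] [Module E V] [Algebra F E]
  [IsScalarTower F E V] {f' : LinearMap.BilinForm E V} {K : Subgroup (V ≃ₗ[F] V)}

theorem B_zero (hf' : Symp.SForm f') (hK : K ≤ Symp.Iso B)
    (hN : ∀ (u : V) (c : E), ∃ g ∈ K, ∀ x, g x = x + (c * f' u x) • u) {u y : V} (h : f' u y = 0) (e : E) :
    B (e • u) y = 0 := by
  by_cases hu : u = 0
  · rw [hu, smul_zero, map_zero, LinearMap.zero_apply]
  obtain ⟨x, hx⟩ := hf'.exists_ne hu
  obtain ⟨g, hg, hgx⟩ := hN u (e * (f' u x)⁻¹)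
  have h1 := hK hg x y
  rw [hgx, hgx y, h, mul_zero, zero_smul, add_zero, mul_assoc, inv_mul_cancel₀ hx, mul_one, map_add,
    LinearMap.add_apply] at h1
  exact add_eq_left.1 h1

/-- **The form `B` is `ψ ∘ f'`.** -/
theorem exists_psi (hf' : Symp.SForm f') (hK : K ≤ Symp.Iso B) [Nontrivial V]
    (hN : ∀ (u : V) (c : E), ∃ g ∈ K, ∀ x, g x = x + (c * f' u x) • u) :
    ∃ ψ : E →ₗ[F] F, ∀ x y, B x y = ψ (f' x y) := by
  obtain ⟨x₀, hx₀⟩ := exists_ne (0 : V)
  obtain ⟨y₁, hy₁⟩ := hf'.exists_ne hx₀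
  set y₀ := (f' x₀ y₁)⁻¹ • y₁ with hy₀
  have h1 : f' x₀ y₀ = 1 := by
    rw [hy₀, map_smul, smul_eq_mul, inv_mul_cancel₀ hy₁]
  let ψ : E →ₗ[F] F := (B x₀).comp ((LinearMap.toSpanSingleton E V y₀).restrictScalars F)
  have hψ : ∀ e, ψ e = B x₀ (e • y₀) := fun e => rfl
  have good₀ : ∀ y, B x₀ y = ψ (f' x₀ y) := by
    intro y
    rw [hψ]
    have h2 : f' x₀ (y - f' x₀ y • y₀) = 0 := by
      rw [map_sub, map_smul, h1, smul_eq_mul, mul_one, sub_self]
    have h3 := B_zero hf' hK hN h2 1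
    rw [one_smul, map_sub, sub_eq_zero] at h3
    exact h3
  -- the property passes to vectors not perpendicular
  have step : ∀ x x', (∀ y, B x y = ψ (f' x y)) → f' x x' ≠ 0 → ∀ y, B x' y = ψ (f' x' y) := by
    intro x x' hx hne y
    obtain ⟨g, hg, hgx⟩ := hN (x - x') (-(f' x x')⁻¹)
    have h2 : f' (x - x') x = f' x x' := by
      rw [map_sub, LinearMap.sub_apply, hf'.self, zero_sub, hf'.swap x' x, neg_neg]
    have h3 : g x = x' := by
      rw [hgx, h2, neg_mul, inv_mul_cancel₀ hne, neg_smul, one_smul]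
      abel
    have hiso : ∀ a c, f' (g a) (g c) = f' a c := by
      intro a c
      rw [hgx, hgx]
      simp only [map_add, LinearMap.add_apply, map_smul, LinearMap.smul_apply, smul_eq_mul, hf'.self (x - x')]
      rw [hf'.swap a (x - x')]
      ring
    obtain ⟨z, rfl⟩ := g.surjective y
    rw [← h3, hK hg, hiso, hx]
  have swp : ∀ x y, f' x y ≠ 0 → f' y x ≠ 0 := by
    intro x y h h'
    exact h (hf'.swap_zero h')
  refine ⟨ψ, fun x y => ?_⟩
  by_cases hx : x = 0
  · rw [hx, map_zero, map_zero, LinearMap.zero_apply, LinearMap.zero_apply, map_zero]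
  obtain ⟨z, hz⟩ := hf'.exists_ne hx
  -- a vector not perpendicular to `x₀` and `x`
  obtain ⟨w, hw, hw'⟩ : ∃ w, f' x₀ w ≠ 0 ∧ f' x w ≠ 0 := by
    by_cases h2 : f' x₀ z = 0
    · by_cases h3 : f' x y₁ = 0
      · refine ⟨y₁ + z, ?_, ?_⟩
        · rw [map_add, h2, add_zero]; exact hy₁
        · rw [map_add, h3, zero_add]; exact hz
      · exact ⟨y₁, hy₁, h3⟩
    · exact ⟨z, h2, hz⟩
  exact step w x (step x₀ w good₀ hw) (swp _ _ hw') y

end


section

variable {F V : Type*} [Field F] [AddCommGroup V] [Module F V]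
  {B : LinearMap.BilinForm F V} {E : Type*} [Field E] [Module E V] [Algebra F E]
  [IsScalarTower F E V] {f' : LinearMap.BilinForm E V} {K : Subgroup (V ≃ₗ[F] V)}

/-- planes spanned by two orthogonal vectors -/
theorem ti_span (hB : Symp.SForm B) {x y : V} (h : B x y = 0) : Symp.TI B (Submodule.span F {x, y}) := by
  intro a ha c hc
  obtain ⟨a₁, a₂, rfl⟩ := Submodule.mem_span_pair.1 ha
  obtain ⟨c₁, c₂, rfl⟩ := Submodule.mem_span_pair.1 hc
  simp only [map_add, LinearMap.add_apply, map_smul, LinearMap.smul_apply, smul_eq_mul, hB.self, h, hB.swap_zero h,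
    mul_zero, add_zero]

/-- `F`-independence from a nonzero value of `f'` -/
theorem ind_of_ne (hf' : Symp.SForm f') {x y : V} (h : f' x y ≠ 0) : Ind F x y := by
  have h1 : ∀ (a : F) (v : V), a • v = (algebraMap F E a) • v := fun a v => (algebraMap_smul E a v).symm
  intro c d hcd
  rw [h1, h1] at hcd
  have h2 : f' x (algebraMap F E c • x + algebraMap F E d • y) = 0 := by rw [hcd, map_zero]
  have h3 : f' (algebraMap F E c • x + algebraMap F E d • y) y = 0 := by
    rw [hcd, map_zero, LinearMap.zero_apply]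
  simp only [map_add, LinearMap.add_apply, map_smul, LinearMap.smul_apply, smul_eq_mul, hf'.self, mul_zero,
    zero_add, add_zero] at h2 h3
  have inj := (algebraMap F E).injective
  refine ⟨inj ?_, inj ?_⟩
  · rw [map_zero]
    exact (mul_eq_zero.1 h3).resolve_right h
  · rw [map_zero]
    exact (mul_eq_zero.1 h2).resolve_right h

/-- `f'` vanishes on `L` -/
def T0 (f' : LinearMap.BilinForm E V) (L : Submodule F V) : Prop := ∀ x ∈ L, ∀ y ∈ L, f' x y = 0

/-- `L` is contained in an `E`-line -/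
def T1 (E : Type*) [Field E] [Module E V] (L : Submodule F V) : Prop := ∃ u : V, ∀ x ∈ L, ∃ c : E, x = c • u

theorem T0.map {L : Submodule F V} (h : T0 f' L) {g : V ≃ₗ[F] V} {σ : E ≃+* E} {ν : E}
    (hg : ∀ x y, f' (g x) (g y) = ν * σ (f' x y)) : T0 f' (L.map (g : V →ₗ[F] V)) := by
  rintro _ ⟨x, hx, rfl⟩ _ ⟨y, hy, rfl⟩
  change f' (g x) (g y) = 0
  rw [hg, h x hx y hy, map_zero, mul_zero]

theorem T1.map {L : Submodule F V} (h : T1 E L) {g : V ≃ₗ[F] V} {σ : E ≃+* E}
    (hg : ∀ (c : E) v, g (c • v) = σ c • g v) : T1 E (L.map (g : V →ₗ[F] V)) := by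
  obtain ⟨u, hu⟩ := h
  refine ⟨g u, ?_⟩
  rintro _ ⟨x, hx, rfl⟩
  obtain ⟨c, rfl⟩ := hu x hx
  exact ⟨σ c, hg c u⟩

theorem exists_T1 (hB : Symp.SForm B) (hf' : Symp.SForm f') {ψ : E →ₗ[F] F} (hψ : ∀ x y, B x y = ψ (f' x y))
    (hE : 1 < Module.finrank F E) [Nontrivial V] :
    ∃ L : Submodule F V, finrank F L = 2 ∧ Symp.TI B L ∧ T1 E L := by
  obtain ⟨u, hu⟩ := exists_ne (0 : V)
  obtain ⟨e, he⟩ : ∃ e : E, ∀ c : F, e ≠ c • (1 : E) := by
    by_contra hcon
    push Not at hcon
    have h1 : (Submodule.span F {(1 : E)} : Submodule F E) = ⊤ := by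
      rw [Submodule.eq_top_iff']
      intro z
      obtain ⟨c, hc⟩ := hcon z
      exact Submodule.mem_span_singleton.2 ⟨c, hc.symm⟩
    have h2 := finrank_span_le_card (R := F) ({(1 : E)} : Set E)
    rw [h1, finrank_top] at h2
    simp at h2
    omega
  have hI : Ind F u (e • u) := by
    have h1 := ind_of_not (F := F) (one_ne_zero (α := E)) he
    intro c d hcd
    refine h1 c d ?_
    have h2 : (c • (1 : E) + d • e) • u = 0 := by
      rw [add_smul, smul_assoc, smul_assoc, one_smul]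
      exact hcd
    exact (smul_eq_zero.1 h2).resolve_right hu
  refine ⟨Submodule.span F {u, e • u}, hI.finrank, ti_span hB ?_, u, ?_⟩
  · rw [hψ, map_smul, hf'.self, smul_zero, map_zero]
  · intro x hx
    obtain ⟨c, d, rfl⟩ := Submodule.mem_span_pair.1 hx
    refine ⟨c • (1 : E) + d • e, ?_⟩
    rw [add_smul, smul_assoc, smul_assoc, one_smul]

/-- the value of `f'` on a plane is determined up to `F` -/
theorem value_of_map (hf' : Symp.SForm f') {x y x' y' : V} {g : V ≃ₗ[F] V} {σ : E ≃+* E} {ν : E}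
    (hg : ∀ x y, f' (g x) (g y) = ν * σ (f' x y)) (hne : ν * σ (f' x y) ≠ 0)
    (hm : (Submodule.span F {x, y}).map (g : V →ₗ[F] V) = Submodule.span F {x', y'}) :
    ∃ c : F, f' x' y' = c • (ν * σ (f' x y)) := by
  have h1 : g x ∈ Submodule.span F {x', y'} := by
    rw [← hm]
    exact ⟨x, Submodule.subset_span (by simp), rfl⟩
  have h2 : g y ∈ Submodule.span F {x', y'} := by
    rw [← hm]
    exact ⟨y, Submodule.subset_span (by simp), rfl⟩
  obtain ⟨a, b, hab⟩ := Submodule.mem_span_pair.1 h1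
  obtain ⟨c, d, hcd⟩ := Submodule.mem_span_pair.1 h2
  have h3 : ∀ (a : F) (v : V), a • v = (algebraMap F E a) • v := fun a v => (algebraMap_smul E a v).symm
  have h4 : f' (g x) (g y) = (a * d - b * c) • f' x' y' := by
    rw [← hab, ← hcd]
    simp only [h3, map_add, LinearMap.add_apply, map_smul, LinearMap.smul_apply, smul_eq_mul, hf'.self, mul_zero,
      zero_add, add_zero]
    rw [hf'.swap y' x', Algebra.smul_def, map_sub, map_mul, map_mul]
    ring
  have h5 : a * d - b * c ≠ 0 := by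
    intro h0
    rw [h0, zero_smul, hg] at h4
    exact hne h4
  refine ⟨(a * d - b * c)⁻¹, ?_⟩
  rw [← hg, h4, smul_smul, inv_mul_cancel₀ h5, one_smul]

end

/-- an inequality -/
theorem pow_gt {q : ℕ} (hq : 3 ≤ q) (j : ℕ) : (j + 3) * (q - 1) + 1 < q ^ (j + 2) := by
  obtain ⟨r, rfl⟩ : ∃ r, q = r + 3 := ⟨q - 3, by omega⟩
  induction j with
  | zero =>
    rw [show r + 3 - 1 = r + 2 by omega, zero_add, zero_add, pow_two]
    nlinarith [Nat.zero_le (r * r)]
  | succ j ih =>
    rw [show r + 3 - 1 = r + 2 by omega] at ih ⊢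
    rw [show j + 1 + 2 = (j + 2) + 1 by omega, pow_succ]
    have h1 : ((j + 3) * (r + 2) + 1 + 1) * (r + 3) ≤ (r + 3) ^ (j + 2) * (r + 3) :=
      Nat.mul_le_mul_right (r + 3) ih
    have h2 : ((j + 3) * (r + 2) + 1 + 1) * (r + 3) =
        (j + 1 + 3) * (r + 2) + 1 + ((j + 3) * (r + 2) * (r + 2) + r + 3) := by ring
    omega

section

variable {F V : Type*} [Field F] [Fintype F] [AddCommGroup V] [Module F V] [FiniteDimensional F V]
  {B : LinearMap.BilinForm F V} {E : Type*} [Field E] [Finite E] [Module E V] [Algebra F E]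
  [IsScalarTower F E V] {f' : LinearMap.BilinForm E V} {K : Subgroup (V ≃ₗ[F] V)}

/-- `t'` is not in the orbit of `t` -/
theorem exists_far {ψ : E →ₗ[F] F} (hψ0 : ψ ≠ 0) (hk : 3 ≤ finrank F E) (hq : 3 ≤ Fintype.card F) {t : E}
    (ht : t ≠ 0) :
    ∃ t' : E, t' ≠ 0 ∧ ψ t' = 0 ∧ ∀ (c : F) (σ : E ≃+* E) (ν : E), (∀ s, ψ (ν * σ s) = ψ s) →
      (∀ a : F, σ (algebraMap F E a) = algebraMap F E a) → t' ≠ c • (ν * σ t) := by
  classical
  by_contra hcon
  push Not at hcon
  have hfd : FiniteDimensional F E := Module.Finite.of_finite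
  -- choose the parameters
  have h1 : ∀ x : {x : E // x ≠ 0 ∧ ψ x = 0}, ∃ (c : Fˣ) (τ : E ≃ₐ[F] E) (ν : E), (∀ s, ψ (ν * τ s) = ψ s) ∧
      (x : E) = (c : F) • (ν * τ t) := by
    rintro ⟨x, hx0, hx⟩
    obtain ⟨c, σ, ν, h2, h3, h4⟩ := hcon x hx0 hx
    have hc : c ≠ 0 := by
      rintro rfl
      rw [zero_smul] at h4
      exact hx0 h4
    exact ⟨Units.mk0 c hc, AlgEquiv.ofRingEquiv (f := σ) h3, ν, h2, h4⟩
  choose c τ ν hν hx using h1
  have hinj : Function.Injective (fun x => (c x, τ x)) := by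
    intro x y hxy
    have hc : c x = c y := congrArg Prod.fst hxy
    have hτ : τ x = τ y := congrArg Prod.snd hxy
    have hνeq : ν x = ν y := by
      by_contra hne
      apply hψ0
      refine LinearMap.ext fun z => ?_
      have hne' : ν x - ν y ≠ 0 := sub_ne_zero.2 hne
      obtain ⟨s, hs⟩ := (τ y).surjective ((ν x - ν y)⁻¹ * z)
      have h2 := hν x s
      have h3 := hν y s
      rw [hτ] at h2
      have h4 : ψ ((ν x - ν y) * (τ y) s) = 0 := by
        rw [sub_mul, map_sub, h2, h3, sub_self]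
      rw [hs, mul_inv_cancel_left₀ hne'] at h4
      exact h4
    apply Subtype.ext
    rw [hx x, hx y, hc, hτ, hνeq]
  have h2 : Nat.card {x : E // x ≠ 0 ∧ ψ x = 0} ≤ Nat.card (Fˣ × (E ≃ₐ[F] E)) :=
    Nat.card_le_card_of_injective _ hinj
  rw [Nat.card_prod, Nat.card_units, Nat.card_eq_fintype_card (α := F)] at h2
  have h3 : Nat.card (E ≃ₐ[F] E) ≤ finrank F E := by
    have h := AlgEquiv.card_le (F := F) (K := E)
    rwa [← Nat.card_eq_fintype_card] at h
  -- the number of elements of the kernel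
  have h4 : finrank F (LinearMap.ker ψ) + 1 = finrank F E := by
    have h5 := LinearMap.finrank_range_add_finrank_ker ψ
    have h6 : finrank F (LinearMap.range ψ) = 1 := by
      rw [LinearMap.range_eq_top.2 (LinearMap.surjective hψ0), finrank_top, Module.finrank_self]
    omega
  have h5 : Nat.card {x : E // x ≠ 0 ∧ ψ x = 0} + 1 = Fintype.card F ^ (finrank F E - 1) := by
    have h6 : Nat.card (LinearMap.ker ψ) = Fintype.card F ^ (finrank F E - 1) := by
      rw [Module.natCard_eq_pow_finrank (K := F), Nat.card_eq_fintype_card]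
      congr 1
      omega
    rw [← h6]
    have h7 : Nat.card (Option {x : E // x ≠ 0 ∧ ψ x = 0}) = Nat.card {x : E // x ≠ 0 ∧ ψ x = 0} + 1 := by
      rw [Finite.card_option]
    rw [← h7]
    refine Nat.card_congr ⟨fun o => o.elim ⟨0, by simp⟩ fun x => ⟨x, x.2.2⟩, fun x =>
      if h : (x : E) = 0 then none else some ⟨x, h, x.2⟩, ?_, ?_⟩
    · rintro (_ | ⟨x, hx⟩)
      · simp
      · simp [hx.1]
    · rintro ⟨x, hx⟩
      by_cases h : x = 0
      · simp [h]
      · simp [h]
  obtain ⟨j, hj⟩ : ∃ j, finrank F E = j + 3 := ⟨finrank F E - 3, by omega⟩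
  have h6 := pow_gt hq j
  rw [hj] at h3 h5
  rw [show j + 3 - 1 = j + 2 by omega] at h5
  have h7 : (Fintype.card F - 1) * Nat.card (E ≃ₐ[F] E) ≤ (Fintype.card F - 1) * (j + 3) :=
    Nat.mul_le_mul_left _ h3
  rw [mul_comm (Fintype.card F - 1) (j + 3)] at h7
  omega

/-- **Three orbits on the totally isotropic lines.** -/
theorem three_orbits (hB : Symp.SForm B) (k : ℕ) (hk : 3 ≤ k) (hV : Module.finrank F V = 2 * k)
    (hq : Odd (Fintype.card F)) (hE : 1 < Module.finrank F E) (f' : LinearMap.BilinForm E V) (hf' : Symp.SForm f')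
    (K : Subgroup (V ≃ₗ[F] V)) (hK : K ≤ Symp.Iso B)
    (hN : ∀ (u : V) (c : E), ∃ g ∈ K, ∀ x, g x = x + (c * f' u x) • u)
    (hsemi : ∀ g ∈ K, ∃ (σ : E ≃+* E) (ν : E), (∀ (c : E) v, g (c • v) = σ c • g v) ∧
      ∀ x y, f' (g x) (g y) = ν * σ (f' x y)) :
    ∃ L : Fin 3 → Submodule F V, (∀ i, Module.finrank F (L i) = 2 ∧ Symp.TI B (L i)) ∧
      ∀ i j, (∃ g ∈ K, (L i).map (g : V →ₗ[F] V) = L j) → i = j := by
  have hntr : Nontrivial V := Module.nontrivial_of_finrank_pos (R := F) (by omega)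
  have hfdE : FiniteDimensional E V := finDim_E F
  have hfd : FiniteDimensional F E := Module.Finite.of_finite
  obtain ⟨ψ, hψ⟩ := exists_psi hf' hK hN
  have hq3 : 3 ≤ Fintype.card F := by
    have h1 : 1 < Fintype.card F := Fintype.one_lt_card
    rw [Nat.odd_iff] at hq
    omega
  -- values of `f'`
  have hval : ∀ x : V, x ≠ 0 → ∀ e : E, ∃ y, f' x y = e := by
    intro x hx e
    obtain ⟨y, hy⟩ := hf'.exists_ne hx
    exact ⟨(e * (f' x y)⁻¹) • y, by rw [map_smul, smul_eq_mul, mul_assoc, inv_mul_cancel₀ hy, mul_one]⟩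
  obtain ⟨x₀, hx₀⟩ := exists_ne (0 : V)
  have hψ0 : ψ ≠ 0 := by
    rintro rfl
    apply hx₀
    exact hB.eq_zero fun y => by rw [hψ, LinearMap.zero_apply]
  -- the semilinear maps
  have hgood : ∀ g ∈ K, ∃ (σ : E ≃+* E) (ν : E), (∀ (c : E) v, g (c • v) = σ c • g v) ∧
      (∀ x y, f' (g x) (g y) = ν * σ (f' x y)) ∧ (∀ s, ψ (ν * σ s) = ψ s) ∧
      (∀ a : F, σ (algebraMap F E a) = algebraMap F E a) ∧ ν ≠ 0 := by
    intro g hg
    obtain ⟨σ, ν, h1, h2⟩ := hsemi g hg
    have h3 : ∀ s, ψ (ν * σ s) = ψ s := by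
      intro s
      obtain ⟨y, rfl⟩ := hval x₀ hx₀ s
      rw [← h2, ← hψ, ← hψ, hK hg]
    refine ⟨σ, ν, h1, h2, h3, fun a => ?_, ?_⟩
    · have h4 := h1 (algebraMap F E a) x₀
      rw [algebraMap_smul, map_smul] at h4
      have h5 : (algebraMap F E a - σ (algebraMap F E a)) • g x₀ = 0 := by
        rw [sub_smul, algebraMap_smul, h4, sub_self]
      rcases smul_eq_zero.1 h5 with h6 | h6
      · exact (sub_eq_zero.1 h6).symm
      · exact absurd (g.injective (h6.trans (map_zero g).symm)) hx₀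
    · rintro rfl
      apply hψ0
      refine LinearMap.ext fun s => ?_
      have h4 := h3 s
      rw [zero_mul, map_zero] at h4
      rw [LinearMap.zero_apply, ← h4]
  -- symmetry
  have hsymm : ∀ L L' : Submodule F V, (∃ g ∈ K, L.map (g : V →ₗ[F] V) = L') →
      ∃ g ∈ K, L'.map (g : V →ₗ[F] V) = L := by
    rintro L L' ⟨g, hg, rfl⟩
    refine ⟨g⁻¹, K.inv_mem hg, ?_⟩
    ext v
    constructor
    · rintro ⟨_, ⟨w, hw, rfl⟩, rfl⟩
      have : g⁻¹ (g w) = w := by
        change (g⁻¹ * g) w = w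
        rw [inv_mul_cancel]
        rfl
      change g⁻¹ (g w) ∈ L
      rwa [this]
    · intro hv
      refine ⟨g v, ⟨v, hv, rfl⟩, ?_⟩
      change (g⁻¹ * g) v = v
      rw [inv_mul_cancel]
      rfl
  have assemble : ∀ L₀ L₁ L₂ : Submodule F V, (finrank F L₀ = 2 ∧ Symp.TI B L₀) → (finrank F L₁ = 2 ∧ Symp.TI B L₁) →
      (finrank F L₂ = 2 ∧ Symp.TI B L₂) → (¬ ∃ g ∈ K, L₀.map (g : V →ₗ[F] V) = L₁) →
      (¬ ∃ g ∈ K, L₀.map (g : V →ₗ[F] V) = L₂) → (¬ ∃ g ∈ K, L₁.map (g : V →ₗ[F] V) = L₂) →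
      ∃ L : Fin 3 → Submodule F V, (∀ i, Module.finrank F (L i) = 2 ∧ Symp.TI B (L i)) ∧
      ∀ i j, (∃ g ∈ K, (L i).map (g : V →ₗ[F] V) = L j) → i = j := by
    intro L₀ L₁ L₂ h0 h1 h2 h01 h02 h12
    refine ⟨![L₀, L₁, L₂], ?_, ?_⟩
    · intro i
      fin_cases i
      · exact h0
      · exact h1
      · exact h2
    · intro i j hij
      fin_cases i <;> fin_cases j
      · rfl
      · exact absurd hij h01
      · exact absurd hij h02
      · exact absurd (hsymm _ _ hij) h01
      · rfl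
      · exact absurd hij h12
      · exact absurd (hsymm _ _ hij) h02
      · exact absurd (hsymm _ _ hij) h12
      · rfl
  obtain ⟨L₀, h02, h0i, h0T⟩ := exists_T1 hB hf' hψ hE
  have h0T0 : T0 f' L₀ := by
    obtain ⟨u, hu⟩ := h0T
    intro x hx y hy
    obtain ⟨c, rfl⟩ := hu x hx
    obtain ⟨d, rfl⟩ := hu y hy
    simp only [map_smul, LinearMap.smul_apply, hf'.self, smul_zero]
  -- an element of the kernel
  obtain ⟨t, ht0, htψ⟩ : ∃ t : E, t ≠ 0 ∧ ψ t = 0 := by
    have h5 := LinearMap.finrank_range_add_finrank_ker ψ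
    have h6 : finrank F (LinearMap.range ψ) = 1 := by
      rw [LinearMap.range_eq_top.2 (LinearMap.surjective hψ0), finrank_top, Module.finrank_self]
    have h7 : LinearMap.ker ψ ≠ ⊥ := by
      intro h8
      rw [h8, finrank_bot] at h5
      omega
    obtain ⟨t, ht, ht0⟩ := Submodule.exists_mem_ne_zero_of_ne_bot h7
    exact ⟨t, ht0, ht⟩
  -- the third type
  have third : ∀ s : E, s ≠ 0 → ψ s = 0 → ∃ y, f' x₀ y = s ∧ finrank F (Submodule.span F {x₀, y}) = 2 ∧
      Symp.TI B (Submodule.span F {x₀, y}) := by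
    intro s hs hsψ
    obtain ⟨y, hy⟩ := hval x₀ hx₀ s
    refine ⟨y, hy, (ind_of_ne hf' (by rw [hy]; exact hs)).finrank, ti_span hB ?_⟩
    rw [hψ, hy, hsψ]
  have notT0 : ∀ x y : V, f' x y ≠ 0 → ¬ T0 f' (Submodule.span F {x, y}) := by
    intro x y h hT
    exact h (hT x (Submodule.subset_span (by simp)) y (Submodule.subset_span (by simp)))
  have sep0 : ∀ L : Submodule F V, T0 f' L → ∀ x y : V, f' x y ≠ 0 →
      ¬ ∃ g ∈ K, L.map (g : V →ₗ[F] V) = Submodule.span F {x, y} := by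
    rintro L hL x y hxy ⟨g, hg, hm⟩
    obtain ⟨σ, ν, -, h2, -, -, -⟩ := hgood g hg
    have := hL.map h2
    rw [hm] at this
    exact notT0 x y hxy this
  by_cases hcase : ∃ x y : V, x ≠ 0 ∧ f' x y = 0 ∧ ∀ c : E, y ≠ c • x
  · obtain ⟨x, y, hx, hxy, hy⟩ := hcase
    have hIE : Ind E x y := ind_of_not hx hy
    have hI : Ind F x y := by
      intro c d hcd
      have h1 : ∀ (a : F) (v : V), a • v = (algebraMap F E a) • v := fun a v => (algebraMap_smul E a v).symm
      rw [h1, h1] at hcd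
      obtain ⟨h2, h3⟩ := hIE _ _ hcd
      have inj := (algebraMap F E).injective
      exact ⟨inj (by rw [h2, map_zero]), inj (by rw [h3, map_zero])⟩
    obtain ⟨w, hw, hw2, hwi⟩ := third t ht0 htψ
    have h1T0 : T0 f' (Submodule.span F {x, y}) := by
      have h1 : ∀ (a : F) (v : V), a • v = (algebraMap F E a) • v := fun a v => (algebraMap_smul E a v).symm
      intro a ha c hc
      obtain ⟨a₁, a₂, rfl⟩ := Submodule.mem_span_pair.1 ha
      obtain ⟨c₁, c₂, rfl⟩ := Submodule.mem_span_pair.1 hc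
      simp only [h1, map_add, LinearMap.add_apply, map_smul, LinearMap.smul_apply, smul_eq_mul, hf'.self, hxy,
        hf'.swap_zero hxy, mul_zero, add_zero]
    refine assemble L₀ (Submodule.span F {x, y}) (Submodule.span F {x₀, w}) ⟨h02, h0i⟩
      ⟨hI.finrank, ti_span hB (by rw [hψ, hxy, map_zero])⟩ ⟨hw2, hwi⟩ ?_ ?_ ?_
    · rintro ⟨g, hg, hm⟩
      obtain ⟨σ, ν, h1, -, -, -, -⟩ := hgood g hg
      have h2 := h0T.map h1
      rw [hm] at h2
      obtain ⟨u, hu⟩ := h2
      obtain ⟨c, hc⟩ := hu x (Submodule.subset_span (by simp))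
      obtain ⟨d, hd⟩ := hu y (Submodule.subset_span (by simp))
      have hc0 : c ≠ 0 := by
        rintro rfl
        rw [zero_smul] at hc
        exact hx hc
      apply hy (d * c⁻¹)
      rw [hc, smul_smul, mul_assoc, inv_mul_cancel₀ hc0, mul_one]
      exact hd
    · exact sep0 _ h0T0 _ _ (by rw [hw]; exact ht0)
    · exact sep0 _ h1T0 _ _ (by rw [hw]; exact ht0)
  · push Not at hcase
    -- `dim_E V = 2`
    have hdim : finrank E V = 2 := by
      have h1 : LinearMap.ker (f' x₀) = Submodule.span E {x₀} := by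
        ext y
        rw [LinearMap.mem_ker, Submodule.mem_span_singleton]
        constructor
        · intro h
          obtain ⟨c, hc⟩ := hcase x₀ y hx₀ h
          exact ⟨c, hc.symm⟩
        · rintro ⟨c, rfl⟩
          rw [map_smul, hf'.self, smul_zero]
      have h5 := LinearMap.finrank_range_add_finrank_ker (f' x₀)
      have h6 : f' x₀ ≠ 0 := by
        intro h
        apply hx₀
        exact hf'.eq_zero fun y => by rw [h, LinearMap.zero_apply]
      have h7 : finrank E (LinearMap.range (f' x₀)) = 1 := by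
        rw [LinearMap.range_eq_top.2 (LinearMap.surjective h6), finrank_top, Module.finrank_self]
      rw [h7, h1, finrank_span_singleton hx₀] at h5
      omega
    have hkE : finrank F E = k := by
      have h1 := Module.finrank_mul_finrank F E V
      rw [hdim, hV, mul_comm] at h1
      omega
    obtain ⟨t', ht'0, ht'ψ, hfar⟩ := exists_far hψ0 (by omega) hq3 ht0
    obtain ⟨y, hy, hy2, hyi⟩ := third t ht0 htψ
    obtain ⟨y', hy', hy'2, hy'i⟩ := third t' ht'0 ht'ψ
    refine assemble L₀ (Submodule.span F {x₀, y}) (Submodule.span F {x₀, y'}) ⟨h02, h0i⟩ ⟨hy2, hyi⟩ ⟨hy'2, hy'i⟩ ?_ ?_ ?_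
    · exact sep0 _ h0T0 _ _ (by rw [hy]; exact ht0)
    · exact sep0 _ h0T0 _ _ (by rw [hy']; exact ht'0)
    · rintro ⟨g, hg, hm⟩
      obtain ⟨σ, ν, -, h2, h3, h4, h5⟩ := hgood g hg
      obtain ⟨c, hc⟩ := value_of_map hf' h2 (by
        rw [hy]
        exact mul_ne_zero h5 (by rwa [Ne, map_eq_zero_iff _ σ.injective])) hm
      rw [hy, hy'] at hc
      exact hfar c σ ν h3 h4 hc

end

end Cfsg.Agent.H184.SpExt
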