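import Cfsg.Agent.H834.AReg
import Cfsg.Agent.H835.Five
import Cfsg.Agent.H836.Main
import Cfsg.Agent.H465.AltPE
import Cfsg.Agent.H585.GoodW
import Cfsg.Agent.H833.Flip
import Cfsg.Agent.S1696

/-!
# The row `Fi22` of S4384: automorphisms of prime order and elements of order 13 (task 1951, helper184)

`Ok β` : some element `z` of order 13 has `⟨z, β⟩` not solvable. Proved here for the outer involutions (up to
conjugacy), the involutions of `Fi22` (representatives) and all elements of order 5, 7, 11, 13.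
-/

set_option autoImplicit false
set_option maxRecDepth 100000

namespace Cfsg.Agent.H184.Fi22Ok

open Cfsg.Spor Cfsg.Spor.Fi22 Cfsg.Agent.Lib.PermNet Cfsg.Agent.Lib.PermNetOrbit Cfsg.Agent.Lib.PermNetFix
open Cfsg.Agent.Fischer Cfsg.Agent.Fischer.Fi22PtsRep Cfsg.Agent.H834 Cfsg.Agent.H834.AC
open Cfsg.Agent.H833.Flip
open Cfsg.Agent.R01.AlphaIso (flip)

/-- some element `z` of order 13 has `⟨z, β⟩` not solvable -/
def Ok (β : MulAut Spor.Fi22) : Prop := ∃ z : Spor.Fi22, orderOf z = 13 ∧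
  ¬ Group.IsSolvable (Subgroup.closure ({MulAut.conj z, β} : Set (MulAut Spor.Fi22)))

theorem Ok.conj {β : MulAut Spor.Fi22} (h : Ok β) (γ : MulAut Spor.Fi22) : Ok (γ * β * γ⁻¹) := by
  obtain ⟨z, hz, hns⟩ := h
  refine ⟨γ z, by rw [MulEquiv.orderOf_eq, hz], fun hs => hns ?_⟩
  refine H585.GW.solvable_map_equiv (MulAut.conj γ) ?_
  rw [Set.image_pair, MulAut.conj_apply, MulAut.conj_apply]
  have h1 : γ * MulAut.conj z * γ⁻¹ = MulAut.conj (γ z) := by
    ext l
    show γ (z * γ⁻¹ l * z⁻¹) = γ z * l * (γ z)⁻¹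
    rw [map_mul, map_mul, map_inv]
    have : γ (γ⁻¹ l) = l := γ.apply_symm_apply l
    rw [this]
  rw [h1]
  exact hs

theorem Ok.isConj {β β' : MulAut Spor.Fi22} (h : Ok β) (hc : IsConj β' β) : Ok β' := by
  obtain ⟨γ, rfl⟩ := isConj_iff.1 hc.symm
  exact h.conj γ

theorem Ok.zpowers {β β' : MulAut Spor.Fi22} (h : Ok β) (hc : β ∈ Subgroup.zpowers β') : Ok β' := by
  obtain ⟨z, hz, hns⟩ := h
  refine ⟨z, hz, fun hs => hns ?_⟩
  have hle : Subgroup.closure ({MulAut.conj z, β} : Set (MulAut Spor.Fi22)) ≤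
      Subgroup.closure ({MulAut.conj z, β'} : Set (MulAut Spor.Fi22)) := by
    rw [Subgroup.closure_le]
    rintro x (rfl | rfl)
    · exact Subgroup.subset_closure (by simp)
    · exact (Subgroup.zpowers_le.2 (Subgroup.subset_closure (by simp))) hc
  exact Group.isSolvable_of_isSolvable_injective (f := Subgroup.inclusion hle)
    (Subgroup.inclusion_injective hle)

theorem not_comm : ¬ IsMulCommutative Spor.Fi22 := by
  intro h
  exact Fi22Order.ab_ne (h.is_comm.comm _ _)

theorem conj_inj : Function.Injective (MulAut.conj : Spor.Fi22 →* MulAut Spor.Fi22) := by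
  have := Fi22Order.isSimple
  exact H465.Red.conj_injective (H585.FacOne.center_eq_bot not_comm)

/-- the certificate -/
theorem ok_gen {β : MulAut Spor.Fi22} {z v : Spor.Fi22} (hz : z ^ 13 = 1) (hz1 : z ≠ 1)
    (hv : MulAut.conj v ∈ Subgroup.closure ({MulAut.conj z, β} : Set (MulAut Spor.Fi22))) {m n : ℕ}
    (h1 : v ^ m = 1) (h2 : (z * v) ^ n = 1) (c1 : Nat.Coprime 13 m) (c2 : Nat.Coprime 13 n)
    (c3 : Nat.Coprime m n) : Ok β := by
  have h13 : Fact (Nat.Prime 13) := ⟨by norm_num⟩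
  refine ⟨z, orderOf_eq_prime hz hz1, ?_⟩
  refine H465.AltPE.not_solvable_cert (u := MulAut.conj z) (v := MulAut.conj v)
    (Subgroup.subset_closure (by simp)) hv (a := 13) (b := m) (c := n) ?_ ?_ ?_ c1 c2 c3 ?_
  · rw [← map_pow, hz, map_one]
  · rw [← map_pow, h1, map_one]
  · rw [← map_mul, ← map_pow, h2, map_one]
  · intro h
    exact hz1 (conj_inj (h.trans (map_one _).symm))

/-! ### Words -/

/-- the tautological model -/
noncomputable def M0 : Model Spor.Fi22 {x | ∃ g : Spor.Fi22, x = g * gen .a * g⁻¹} :=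
  ⟨MulEquiv.refl _, fun _ => Iff.rfl⟩

theorem eq_of {u v : List Gen} (h : eqB u v = true) : wd u = wd v := M0.eq_of_eqB h

theorem wd_rep (n : ℕ) (w : List Gen) : wd (rep n w) = wd w ^ n := by
  induction n with
  | zero =>
    rw [pow_zero]
    exact wd_nil
  | succ n ih =>
    show wd (w ++ rep n w) = _
    rw [wd_append, ih, pow_succ']

theorem pow_of {w : List Gen} {n : ℕ} (h : eqB (rep n w) [] = true) : wd w ^ n = 1 := by
  rw [← wd_rep, eq_of h, wd_nil]

theorem ne_one_of {w : List Gen} {p : ℕ} (h : Nat.beq (ptWord (nw w) p) p = false) : wd w ≠ 1 := by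
  intro hw
  have h1 : φ (wd w) p = p := by rw [hw, map_one]; rfl
  rw [φ_wd_apply] at h1
  exact absurd h1 (Nat.ne_of_beq_eq_false h)

theorem wd_reverse (w : List Gen) : wd w.reverse = (wd w)⁻¹ := M0.wd_reverse w

theorem wd_single (x : Gen) : wd [x] = gen x := by rw [wd_cons, wd_nil, mul_one]

/-- inner automorphisms -/
theorem ok_inner {x z v : List Gen} {m n p : ℕ} (hz : eqB (rep 13 z) [] = true)
    (hz1 : Nat.beq (ptWord (nw z) p) p = false)
    (hv : wd v ∈ Subgroup.closure ({wd z, wd x} : Set Spor.Fi22)) (h1 : eqB (rep m v) [] = true)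
    (h2 : eqB (rep n (z ++ v)) [] = true) (c1 : Nat.Coprime 13 m) (c2 : Nat.Coprime 13 n)
    (c3 : Nat.Coprime m n) : Ok (MulAut.conj (wd x)) := by
  refine ok_gen (z := wd z) (v := wd v) (pow_of hz) (ne_one_of hz1) ?_ (pow_of h1) ?_ c1 c2 c3
  · have h3 := Subgroup.mem_map_of_mem (MulAut.conj : Spor.Fi22 →* MulAut Spor.Fi22) hv
    rw [MonoidHom.map_closure, Set.image_pair] at h3
    exact h3
  · rw [← wd_append]
    exact pow_of h2

theorem ok_inner' {x z : List Gen} {m n p : ℕ} (hz : eqB (rep 13 z) [] = true)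
    (hz1 : Nat.beq (ptWord (nw z) p) p = false) (h1 : eqB (rep m x) [] = true)
    (h2 : eqB (rep n (z ++ x)) [] = true) (c1 : Nat.Coprime 13 m) (c2 : Nat.Coprime 13 n)
    (c3 : Nat.Coprime m n) : Ok (MulAut.conj (wd x)) :=
  ok_inner hz hz1 (Subgroup.subset_closure (by simp)) h1 h2 c1 c2 c3

/-- outer automorphisms -/
theorem ok_outer {β : MulAut Spor.Fi22} {z z' : List Gen} (hβ : β (wd z) = wd z') {i j m n p : ℕ}
    (hz : eqB (rep 13 z) [] = true) (hz1 : Nat.beq (ptWord (nw z) p) p = false)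
    (h1 : eqB (rep m (rep i z ++ rep j z')) [] = true)
    (h2 : eqB (rep n (z ++ (rep i z ++ rep j z'))) [] = true) (c1 : Nat.Coprime 13 m)
    (c2 : Nat.Coprime 13 n) (c3 : Nat.Coprime m n) : Ok β := by
  refine ok_gen (z := wd z) (v := wd (rep i z ++ rep j z')) (pow_of hz) (ne_one_of hz1) ?_
    (pow_of h1) ?_ c1 c2 c3
  · have k1 : MulAut.conj (wd z) ∈
        Subgroup.closure ({MulAut.conj (wd z), β} : Set (MulAut Spor.Fi22)) :=
      Subgroup.subset_closure (by simp)
    have k2 : β ∈ Subgroup.closure ({MulAut.conj (wd z), β} : Set (MulAut Spor.Fi22)) :=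
      Subgroup.subset_closure (by simp)
    have k3 : MulAut.conj (wd z') ∈
        Subgroup.closure ({MulAut.conj (wd z), β} : Set (MulAut Spor.Fi22)) := by
      have h3 : MulAut.conj (wd z') = β * MulAut.conj (wd z) * β⁻¹ := by
        rw [← hβ]
        ext l
        show β (wd z) * l * (β (wd z))⁻¹ = β (wd z * β⁻¹ l * (wd z)⁻¹)
        rw [map_mul, map_mul, map_inv]
        have : β (β⁻¹ l) = l := β.apply_symm_apply l
        rw [this]
      rw [h3]
      exact mul_mem (mul_mem k2 k1) (inv_mem k2)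
    rw [wd_append, wd_rep, wd_rep, map_mul, map_pow, map_pow]
    exact mul_mem (pow_mem k1 _) (pow_mem k3 _)
  · rw [← wd_append]
    exact pow_of h2

theorem flipA_wd (w : List Gen) : flipA (wd w) = wd (w.map flip) := by
  induction w with
  | nil => rw [wd_nil, map_one]; rfl
  | cons x w ih => rw [wd_cons, map_mul, ih, flipA_gen, List.map_cons, wd_cons]

theorem flipA_conj_wd (s w : List Gen) : (flipA * MulAut.conj (wd s)) (wd w) =
    wd ((s ++ (w ++ s.reverse)).map flip) := by
  rw [MulAut.mul_apply, MulAut.conj_apply, ← flipA_wd, wd_append, wd_append, wd_reverse, mul_assoc]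

/-! ### The involutions -/

theorem ok_d0 : Ok (MulAut.conj (wd [.d])) := by
  have h := ok_inner' (x := [.d]) (z := [.e, .d, .c, .b, .a, .i, .h, .f])
    (m := 2) (n := 9) (p := 0) (by decide +kernel) (by decide +kernel) (by decide +kernel)
    (by decide +kernel) (by norm_num) (by norm_num) (by norm_num)
  exact h

theorem ok_di0 : Ok (MulAut.conj (wd [.d, .i])) := by
  have h := ok_inner' (x := [.d, .i]) (z := [.e, .i, .b, .e, .h, .d, .a, .f, .c, .e])
    (m := 2) (n := 7) (p := 0) (by decide +kernel) (by decide +kernel) (by decide +kernel)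
    (by decide +kernel) (by norm_num) (by norm_num) (by norm_num)
  exact h

theorem ok_ace0 : Ok (MulAut.conj (wd [.a, .c, .e])) := by
  have h := ok_inner' (x := [.a, .c, .e]) (z := [.b, .i, .a, .b, .c, .d, .e, .f, .h, .b])
    (m := 2) (n := 9) (p := 0) (by decide +kernel) (by decide +kernel) (by decide +kernel)
    (by decide +kernel) (by norm_num) (by norm_num) (by norm_num)
  exact h

theorem ok_d : Ok (MulAut.conj (gen .d)) := by
  have h := ok_d0
  rwa [wd_single] at h

theorem ok_di : Ok (MulAut.conj (gen .d * gen .i)) := by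
  have h := ok_di0
  rwa [wd_cons, wd_single] at h

theorem ok_ace : Ok (MulAut.conj (gen .a * gen .c * gen .e)) := by
  have h := ok_ace0
  rwa [wd_cons, wd_cons, wd_single, ← mul_assoc] at h

theorem ok_flip : Ok flipA := by
  refine ok_outer (z := [.c, .d, .c, .i, .h, .f, .e, .g, .b, .c])
    (z' := [.e, .d, .e, .i, .h, .b, .c, .a, .f, .e])
    ?_ (i := 1) (j := 2) (m := 10) (n := 3) (p := 0) (by decide +kernel) (by decide +kernel)
    (by decide +kernel) (by decide +kernel) (by norm_num) (by norm_num) (by norm_num)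
  exact flipA_wd _

theorem ok_flip_d : Ok (flipA * MulAut.conj (gen .d)) := by
  refine ok_outer (z := [.c, .i, .h, .f, .e, .g, .b, .d])
    (z' := [.d, .e, .i, .h, .b, .c, .a, .f, .d, .d])
    ?_ (i := 1) (j := 1) (m := 6) (n := 7) (p := 0) (by decide +kernel) (by decide +kernel)
    (by decide +kernel) (by decide +kernel) (by norm_num) (by norm_num) (by norm_num)
  rw [← wd_single]
  exact flipA_conj_wd [.d] _

theorem ok_flip_di : Ok (flipA * MulAut.conj (gen .d * gen .i)) := by
  refine ok_outer (z := [.c, .b, .i, .a, .d, .c, .i, .h, .f, .e, .g, .b, .a, .i, .b, .c])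
    (z' := [.d, .i, .e, .f, .i, .g, .d, .e, .i, .h, .b, .c, .a, .f, .g, .i, .f, .e, .i, .d])
    ?_ (i := 1) (j := 1) (m := 3) (n := 4) (p := 0) (by decide +kernel) (by decide +kernel)
    (by decide +kernel) (by decide +kernel) (by norm_num) (by norm_num) (by norm_num)
  have e : gen .d * gen .i = wd [.d, .i] := by rw [wd_cons, wd_single]
  rw [e]
  exact flipA_conj_wd [.d, .i] _

/-! ### The elements of order 5, 7, 11, 13 -/

theorem ok_five0 : Ok (MulAut.conj (wd [.f, .h, .e, .d])) := by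
  have h := ok_inner' (x := [.f, .h, .e, .d]) (z := [.i, .a, .b, .c, .d, .e, .f, .h])
    (m := 5) (n := 4) (p := 0) (by decide +kernel) (by decide +kernel) (by decide +kernel)
    (by decide +kernel) (by norm_num) (by norm_num) (by norm_num)
  exact h

theorem ok_seven0 : Ok (MulAut.conj (wd [.g, .c, .f, .e, .d, .b])) := by
  have h := ok_inner' (x := [.g, .c, .f, .e, .d, .b]) (z := [.d, .c, .i, .h, .f, .e, .g, .b])
    (m := 7) (n := 3) (p := 0) (by decide +kernel) (by decide +kernel) (by decide +kernel)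
    (by decide +kernel) (by norm_num) (by norm_num) (by norm_num)
  exact h

theorem ok_eleven0 : Ok (MulAut.conj (wd [.f, .e, .g, .c, .b, .i, .a, .d, .e, .h, .d, .f, .e, .g, .c, .b, .i, .a, .d, .e, .h, .d])) := by
  have h := ok_inner' (x := [.f, .e, .g, .c, .b, .i, .a, .d, .e, .h, .d, .f, .e, .g, .c, .b, .i, .a, .d, .e, .h, .d]) (z := [.a, .h, .i, .a, .b, .c, .d, .e, .f, .a])
    (m := 11) (n := 2) (p := 0) (by decide +kernel) (by decide +kernel) (by decide +kernel)
    (by decide +kernel) (by norm_num) (by norm_num) (by norm_num)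
  exact h

theorem ok_thirteen0 : Ok (MulAut.conj (wd [.c, .i, .h, .f, .e, .g, .b, .d])) := by
  refine ok_inner (z := [.g, .d, .c, .i, .h, .f, .e, .g, .b, .g])
    (v := [.g, .d, .c, .i, .h, .f, .e, .g, .b, .g, .c, .i, .h, .f, .e, .g, .b, .d])
    (m := 3) (n := 2) (p := 0) (by decide +kernel) (by decide +kernel) ?_ (by decide +kernel)
    (by decide +kernel) (by norm_num) (by norm_num) (by norm_num)
  have e : wd [.g, .d, .c, .i, .h, .f, .e, .g, .b, .g, .c, .i, .h, .f, .e, .g, .b, .d] =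
      wd [.g, .d, .c, .i, .h, .f, .e, .g, .b, .g] * wd [.c, .i, .h, .f, .e, .g, .b, .d] := by
    rw [← wd_append]
    rfl
  rw [e]
  exact mul_mem (Subgroup.subset_closure (by simp)) (Subgroup.subset_closure (by simp))

theorem ord_five : orderOf (wd [.f, .h, .e, .d]) = 5 := by
  have hq : Fact (Nat.Prime 5) := ⟨by norm_num⟩
  exact orderOf_eq_prime (pow_of (by decide +kernel)) (ne_one_of (p := 3) (by decide +kernel))

theorem ord_seven : orderOf (wd [.g, .c, .f, .e, .d, .b]) = 7 := by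
  have hq : Fact (Nat.Prime 7) := ⟨by norm_num⟩
  exact orderOf_eq_prime (pow_of (by decide +kernel)) (ne_one_of (p := 0) (by decide +kernel))

theorem ord_eleven : orderOf (wd [.f, .e, .g, .c, .b, .i, .a, .d, .e, .h, .d, .f, .e, .g, .c, .b, .i, .a, .d, .e, .h, .d]) = 11 := by
  have hq : Fact (Nat.Prime 11) := ⟨by norm_num⟩
  exact orderOf_eq_prime (pow_of (by decide +kernel)) (ne_one_of (p := 0) (by decide +kernel))

theorem ord_thirteen : orderOf (wd [.c, .i, .h, .f, .e, .g, .b, .d]) = 13 := by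
  have hq : Fact (Nat.Prime 13) := ⟨by norm_num⟩
  exact orderOf_eq_prime (pow_of (by decide +kernel)) (ne_one_of (p := 0) (by decide +kernel))

/-- the condition depends only on the class of the subgroup generated -/
theorem ok_of_class {q : ℕ} {x : Spor.Fi22} (hx : orderOf x = q) (hok : Ok (MulAut.conj x))
    (hcl : ∀ X Y : Subgroup Spor.Fi22, Nat.card X = q → Nat.card Y = q →
      ∃ g : Spor.Fi22, X.map (MulAut.conj g).toMonoidHom = Y) {y : Spor.Fi22} (hy : orderOf y = q) :
    Ok (MulAut.conj y) := by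
  obtain ⟨g, hg⟩ := hcl (Subgroup.zpowers x) (Subgroup.zpowers y)
    (by rw [Nat.card_zpowers, hx]) (by rw [Nat.card_zpowers, hy])
  have h1 : g * x * g⁻¹ ∈ Subgroup.zpowers y := by
    rw [← hg]
    exact ⟨x, Subgroup.mem_zpowers x, rfl⟩
  have h2 : Ok (MulAut.conj (g * x * g⁻¹)) := by
    rw [map_mul, map_mul, map_inv]
    exact hok.conj _
  refine h2.zpowers ?_
  obtain ⟨k, hk⟩ := Subgroup.mem_zpowers_iff.1 h1
  rw [← hk, map_zpow]
  exact Subgroup.zpow_mem_zpowers _ k

theorem ok_five (y : Spor.Fi22) (hy : orderOf y = 5) : Ok (MulAut.conj y) :=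
  ok_of_class ord_five ok_five0
    (Cfsg.Agent.H835.Five.five_concl (Cfsg.Agent.H836.inv_of_iso (MulEquiv.refl Spor.Fi22))).1 hy

theorem ok_seven (y : Spor.Fi22) (hy : orderOf y = 7) : Ok (MulAut.conj y) :=
  ok_of_class ord_seven ok_seven0
    (Cfsg.Agent.H836.Main.seven_concl (Cfsg.Agent.H836.inv_of_iso (MulEquiv.refl Spor.Fi22))).1 hy

theorem ok_eleven (y : Spor.Fi22) (hy : orderOf y = 11) : Ok (MulAut.conj y) :=
  ok_of_class ord_eleven ok_eleven0
    (Cfsg.Agent.H836.Main.eleven_concl (Cfsg.Agent.H836.inv_of_iso (MulEquiv.refl Spor.Fi22))).1 hy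

theorem ok_thirteen (y : Spor.Fi22) (hy : orderOf y = 13) : Ok (MulAut.conj y) :=
  ok_of_class ord_thirteen ok_thirteen0
    (Cfsg.Agent.H836.Main.thirteen_concl (MulEquiv.refl Spor.Fi22)).1 hy

end Cfsg.Agent.H184.Fi22Ok
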