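import Cfsg.Agent.H184.Fi22Ok
import Cfsg.Agent.H835.ClsThree

/-!
# The row `Fi22` of S4384: elements of order 3 (task 1952, helper184)
-/

set_option autoImplicit false
set_option maxRecDepth 100000

namespace Cfsg.Agent.H184.Fi22Three

open Cfsg.Spor Cfsg.Spor.Fi22 Cfsg.Agent.Lib.PermNet Cfsg.Agent.Lib.PermNetOrbit Cfsg.Agent.Lib.PermNetFix
open Cfsg.Agent.Fischer Cfsg.Agent.Fischer.Fi22PtsRep Cfsg.Agent.H834 Cfsg.Agent.H834.AC
open Cfsg.Agent.H184.Fi22Ok

/-- representatives of the four classes of subgroups of order 3 -/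
def xw3 : Fin 4 → List Gen := ![
  [.a, .b],
  [.a, .b, .e, .f],
  [.a, .b, .c, .d, .h, .e, .i, .a, .b, .c, .d, .h, .e, .i, .a, .b, .c, .d, .h, .e, .i],
  [.b, .h, .i, .c, .f, .e]]

theorem ok0 : Ok (MulAut.conj (wd (xw3 0))) := by
  have h := ok_inner' (x := [.a, .b]) (z := [.c, .b, .h, .a, .c, .i, .h, .f, .e, .g, .b, .d, .a, .h, .b, .c])
    (m := 3) (n := 7) (p := 0) (by decide +kernel) (by decide +kernel) (by decide +kernel)
    (by decide +kernel) (by norm_num) (by norm_num) (by norm_num)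
  exact h

theorem ok1 : Ok (MulAut.conj (wd (xw3 1))) := by
  have h := ok_inner' (x := [.a, .b, .e, .f]) (z := [.f, .c, .i, .b, .e, .h, .d, .a])
    (m := 3) (n := 5) (p := 0) (by decide +kernel) (by decide +kernel) (by decide +kernel)
    (by decide +kernel) (by norm_num) (by norm_num) (by norm_num)
  exact h

theorem ok2 : Ok (MulAut.conj (wd (xw3 2))) := by
  have h := ok_inner' (x := [.a, .b, .c, .d, .h, .e, .i, .a, .b, .c, .d, .h, .e, .i, .a, .b, .c, .d, .h, .e, .i]) (z := [.d, .b, .e, .h, .d, .a, .f, .c, .i, .d])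
    (m := 3) (n := 4) (p := 0) (by decide +kernel) (by decide +kernel) (by decide +kernel)
    (by decide +kernel) (by norm_num) (by norm_num) (by norm_num)
  exact h

theorem ok3 : Ok (MulAut.conj (wd (xw3 3))) := by
  have h := ok_inner' (x := [.b, .h, .i, .c, .f, .e]) (z := [.c, .i, .b, .e, .h, .d, .a, .f])
    (m := 3) (n := 2) (p := 0) (by decide +kernel) (by decide +kernel) (by decide +kernel)
    (by decide +kernel) (by norm_num) (by norm_num) (by norm_num)
  exact h

theorem ok_xw3 (i : Fin 4) : Ok (MulAut.conj (wd (xw3 i))) := by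
  fin_cases i
  · exact ok0
  · exact ok1
  · exact ok2
  · exact ok3

theorem ord0 : orderOf (wd (xw3 0)) = 3 := by
  have hq : Fact (Nat.Prime 3) := ⟨by norm_num⟩
  exact orderOf_eq_prime (pow_of (by decide +kernel)) (ne_one_of (p := 0) (by decide +kernel))

theorem ord1 : orderOf (wd (xw3 1)) = 3 := by
  have hq : Fact (Nat.Prime 3) := ⟨by norm_num⟩
  exact orderOf_eq_prime (pow_of (by decide +kernel)) (ne_one_of (p := 0) (by decide +kernel))

theorem ord2 : orderOf (wd (xw3 2)) = 3 := by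
  have hq : Fact (Nat.Prime 3) := ⟨by norm_num⟩
  exact orderOf_eq_prime (pow_of (by decide +kernel)) (ne_one_of (p := 0) (by decide +kernel))

theorem ord3 : orderOf (wd (xw3 3)) = 3 := by
  have hq : Fact (Nat.Prime 3) := ⟨by norm_num⟩
  exact orderOf_eq_prime (pow_of (by decide +kernel)) (ne_one_of (p := 0) (by decide +kernel))

theorem ord_xw3 (i : Fin 4) : orderOf (wd (xw3 i)) = 3 := by
  fin_cases i
  · exact ord0
  · exact ord1
  · exact ord2
  · exact ord3

/-- the numbers of fixed points -/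
def fx3 : Fin 4 → ℕ := ![126, 36, 27, 0]

theorem nfix0 : M0.nfix (M0.wd (xw3 0)) = 126 :=
  M0.nfix_word (by decide +kernel) (by decide +kernel)

theorem nfix1 : M0.nfix (M0.wd (xw3 1)) = 36 :=
  M0.nfix_word (by decide +kernel) (by decide +kernel)

theorem nfix2 : M0.nfix (M0.wd (xw3 2)) = 27 :=
  M0.nfix_word (by decide +kernel) (by decide +kernel)

theorem nfix3 : M0.nfix (M0.wd (xw3 3)) = 0 :=
  M0.nfix_word (by decide +kernel) (by decide +kernel)

theorem nfix_xw3 (i : Fin 4) : M0.nfix (M0.wd (xw3 i)) = fx3 i := by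
  fin_cases i
  · exact nfix0
  · exact nfix1
  · exact nfix2
  · exact nfix3

theorem fx3_inj : Function.Injective fx3 := by decide

/-- elements generating the same subgroup have the same number of fixed points -/
theorem nfix_zpowers {x y : Spor.Fi22} (h : Subgroup.zpowers x = Subgroup.zpowers y) :
    M0.nfix x = M0.nfix y := by
  have key : ∀ {x y : Spor.Fi22}, y ∈ Subgroup.zpowers x → ∀ p : ℕ, M0.φ x p = p → M0.φ y p = p := by
    rintro x y ⟨k, rfl⟩ p hp
    have h1 : x ∈ (MulAction.stabilizer (Equiv.Perm ℕ) p).comap M0.φ := hp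
    exact zpow_mem h1 k
  unfold Model.nfix
  congr 1
  ext p
  constructor
  · rintro ⟨hp, h1⟩
    exact ⟨hp, key (h ▸ Subgroup.mem_zpowers y) p h1⟩
  · rintro ⟨hp, h1⟩
    exact ⟨hp, key (h ▸ Subgroup.mem_zpowers x) p h1⟩

/-- the subgroups generated by the representatives are not conjugate -/
theorem not_conj {i j : Fin 4} {g : Spor.Fi22}
    (h : (Subgroup.zpowers (wd (xw3 i))).map (MulAut.conj g).toMonoidHom =
      Subgroup.zpowers (wd (xw3 j))) : i = j := by
  rw [MonoidHom.map_zpowers] at h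
  have h1 : M0.nfix (g * M0.wd (xw3 i) * g⁻¹) = M0.nfix (M0.wd (xw3 j)) := nfix_zpowers h
  rw [M0.nfix_conj, nfix_xw3, nfix_xw3] at h1
  exact fx3_inj h1

theorem map_conj_trans {X Y Z : Subgroup Spor.Fi22} {g k : Spor.Fi22}
    (h1 : X.map (MulAut.conj g).toMonoidHom = Y) (h2 : Y.map (MulAut.conj k).toMonoidHom = Z) :
    X.map (MulAut.conj (k * g)).toMonoidHom = Z := by
  rw [← h2, ← h1, Subgroup.map_map]
  congr 1
  refine MonoidHom.ext fun x => ?_
  show k * g * x * (k * g)⁻¹ = k * (g * x * g⁻¹) * k⁻¹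
  group

theorem map_conj_symm {X Y : Subgroup Spor.Fi22} {g : Spor.Fi22}
    (h1 : X.map (MulAut.conj g).toMonoidHom = Y) : Y.map (MulAut.conj g⁻¹).toMonoidHom = X := by
  rw [← h1, Subgroup.map_map]
  conv_rhs => rw [← Subgroup.map_id X]
  congr 1
  refine MonoidHom.ext fun x => ?_
  show g⁻¹ * (g * x * g⁻¹) * g⁻¹⁻¹ = x
  group

/-- every subgroup of order 3 is conjugate to one of the four -/
theorem exists_rep {X : Subgroup Spor.Fi22} (hX : Nat.card X = 3) : ∃ (i : Fin 4) (g : Spor.Fi22),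
    (Subgroup.zpowers (wd (xw3 i))).map (MulAut.conj g).toMonoidHom = X := by
  obtain ⟨Y, -, -, h3, -⟩ := Cfsg.Agent.H835.ClsThree.three_concl (MulEquiv.refl Spor.Fi22)
  have hj : ∀ i : Fin 4, ∃ j, ∃ g : Spor.Fi22,
      (Subgroup.zpowers (wd (xw3 i))).map (MulAut.conj g).toMonoidHom = Y j := fun i =>
    h3 _ (by rw [Nat.card_zpowers, ord_xw3])
  choose f k hf using hj
  have hinj : Function.Injective f := by
    intro i i' hii
    have h4 := hf i
    rw [hii, ← hf i'] at h4
    exact not_conj (map_conj_trans h4 (map_conj_symm rfl))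
  have hsurj := Finite.injective_iff_surjective.1 hinj
  obtain ⟨j, g, hg⟩ := h3 X hX
  obtain ⟨i, hi⟩ := hsurj j
  refine ⟨i, g⁻¹ * k i, map_conj_trans (hf i) ?_⟩
  rw [hi]
  exact map_conj_symm hg

/-- **Elements of order 3.** -/
theorem ok_three (y : Spor.Fi22) (hy : orderOf y = 3) : Ok (MulAut.conj y) := by
  obtain ⟨i, g, hg⟩ := exists_rep (X := Subgroup.zpowers y) (by rw [Nat.card_zpowers, hy])
  have h1 : g * wd (xw3 i) * g⁻¹ ∈ Subgroup.zpowers y := by
    rw [← hg]
    exact ⟨_, Subgroup.mem_zpowers _, rfl⟩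
  have h2 : Ok (MulAut.conj (g * wd (xw3 i) * g⁻¹)) := by
    rw [map_mul, map_mul, map_inv]
    exact (ok_xw3 i).conj _
  refine h2.zpowers ?_
  obtain ⟨k, hk⟩ := Subgroup.mem_zpowers_iff.1 h1
  rw [← hk, map_zpow]
  exact Subgroup.zpow_mem_zpowers _ k

end Cfsg.Agent.H184.Fi22Three
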