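import Mathlib
import Cfsg.Agent.ClosedTwo.Over
import Cfsg.Agent.ClosedRed.Inst
import Cfsg.Agent.Lib.CoprimeAbelian

/-!
# Goldschmidt's theorem, structural form (S2775): abelian Sylow subgroups

`abelian_inner`: `X = P L`, `P` an abelian Sylow 2-subgroup, `L` a normal component with `P ∩ L ≠ 1` and trivial centre:
every element of `P` acts on `L` as an element of `P ∩ L`.
-/

set_option autoImplicit false
set_option linter.unusedSectionVars false

namespace Cfsg.Agent.H184.GoldAb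

open Subgroup Cfsg
open scoped commutatorElement
open Cfsg.Agent.ClosedTwo Cfsg.Agent.ClosedRed
open Cfsg.Agent.SignalizersComponents Cfsg.Agent.SignalizersComponents.Components
open Cfsg.Agent.SylowL.CompFacts

universe u

variable {X : Type u} [Group X] [Finite X]

theorem exists_mul_of_mem_sup {Y : Type*} [Group Y] {C B : Subgroup Y} (h : ∀ c ∈ C, ∀ b ∈ B, c * b = b * c) {a : Y}
    (ha : a ∈ C ⊔ B) : ∃ c ∈ C, ∃ b ∈ B, a = c * b := by
  rw [sup_eq_closure] at ha
  induction ha using closure_induction with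
  | mem x hx =>
    rcases hx with hx | hx
    · exact ⟨x, hx, 1, one_mem _, by group⟩
    · exact ⟨1, one_mem _, x, hx, by group⟩
  | one => exact ⟨1, one_mem _, 1, one_mem _, by group⟩
  | mul x y _ _ hx hy =>
    obtain ⟨c, hc, b, hb, rfl⟩ := hx
    obtain ⟨c', hc', b', hb', rfl⟩ := hy
    refine ⟨c * c', mul_mem hc hc', b * b', mul_mem hb hb', ?_⟩
    calc c * b * (c' * b') = c * (b * c') * b' := by group
      _ = c * (c' * b) * b' := by rw [h c' hc' b hb]
      _ = c * c' * (b * b') := by group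
  | inv x _ hx =>
    obtain ⟨c, hc, b, hb, rfl⟩ := hx
    refine ⟨c⁻¹, inv_mem hc, b⁻¹, inv_mem hb, ?_⟩
    rw [h c hc b hb, mul_inv_rev]

/-- A complement of an abelian Sylow subgroup in its normalizer. -/
theorem exists_compl {p : ℕ} [Fact p.Prime] (P : Sylow p X) :
    ∃ K : Subgroup X, K ≤ normalizer ((P : Subgroup X) : Set X) ∧ (Nat.card K).Coprime (Nat.card (P : Subgroup X)) ∧
      ∀ n ∈ normalizer ((P : Subgroup X) : Set X), ∃ q ∈ (P : Subgroup X), ∃ k ∈ K, n = q * k := by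
  classical
  set N := normalizer ((P : Subgroup X) : Set X) with hN
  have hPN : (P : Subgroup X) ≤ N := le_normalizer
  -- a complement
  have hcop : Nat.Coprime (Nat.card ((P : Subgroup X).subgroupOf N)) ((P : Subgroup X).subgroupOf N).index := by
    have h1 : IsPGroup p ((P : Subgroup X).subgroupOf N) := P.2.comap_subtype
    obtain ⟨n, hn⟩ := IsPGroup.iff_card.1 h1
    rw [hn]
    apply Nat.Coprime.pow_left
    rw [Nat.Prime.coprime_iff_not_dvd Fact.out]
    intro hd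
    have h2 : (P : Subgroup X).relIndex N ∣ (P : Subgroup X).index := relIndex_dvd_index_of_le hPN
    exact P.not_dvd_index (hd.trans h2)
  have hnor : ((P : Subgroup X).subgroupOf N).Normal := by
    rw [hN]; exact normal_in_normalizer
  obtain ⟨H, hH⟩ := exists_right_complement'_of_coprime hcop
  refine ⟨H.map N.subtype, map_subtype_le H, ?_, ?_⟩
  · have h1 : Nat.card (H.map N.subtype) = Nat.card H :=
      (Nat.card_congr (H.equivMapOfInjective _ N.subtype_injective).toEquiv).symm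
    have h2 : Nat.card H = ((P : Subgroup X).subgroupOf N).index := hH.symm.index_eq_card.symm
    have h3 : Nat.card ((P : Subgroup X).subgroupOf N) = Nat.card (P : Subgroup X) :=
      Nat.card_congr (subgroupOfEquivOfLe hPN).toEquiv
    rw [h1, h2, ← h3]
    exact hcop.symm
  · intro n hn
    have h1 := hH.sup_eq_top
    have h2 : (⟨n, hn⟩ : N) ∈ ((P : Subgroup X).subgroupOf N) ⊔ H := by rw [h1]; trivial
    rw [← SetLike.mem_coe, normal_mul] at h2
    obtain ⟨q, hq, k, hk, hqk⟩ := Set.mem_mul.1 h2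
    exact ⟨q, hq, k, ⟨k, hk, rfl⟩, (congrArg Subtype.val hqk).symm⟩

/-- An abelian Sylow subgroup is a product of its centralized part and the commutator with the normalizer. -/
theorem exists_split {p : ℕ} [Fact p.Prime] (P : Sylow p X) (hP : ∀ x ∈ P, ∀ y ∈ P, x * y = y * x) {a : X}
    (ha : a ∈ P) : ∃ b ∈ ⁅(P : Subgroup X), normalizer ((P : Subgroup X) : Set X)⁆, b ∈ P ∧
      ∃ c ∈ P, (∀ n ∈ normalizer ((P : Subgroup X) : Set X), n * c = c * n) ∧ a = c * b := by
  obtain ⟨K, hKN, hcardK, hNPK⟩ := exists_compl P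
  have hsup := Cfsg.Agent.Lib.CoprimeAbelian.sup_commutator_eq K (P : Subgroup X) hP hKN hcardK
  have haP : a ∈ ((P : Subgroup X) ⊓ centralizer (K : Set X)) ⊔ ⁅(P : Subgroup X), K⁆ := by rw [hsup]; exact ha
  have hleP : ⁅(P : Subgroup X), K⁆ ≤ (P : Subgroup X) := by
    conv_rhs => rw [← hsup]
    exact le_sup_right
  obtain ⟨c, hc, b, hb, hcb⟩ := exists_mul_of_mem_sup
    (C := (P : Subgroup X) ⊓ centralizer (K : Set X)) (B := ⁅(P : Subgroup X), K⁆)
    (fun x hx y hy => hP x (mem_inf.1 hx).1 y (hleP hy)) haP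
  refine ⟨b, commutator_mono le_rfl hKN hb, hleP hb, c, hc.1, ?_, hcb⟩
  intro n hn
  obtain ⟨q, hq, k, hk, rfl⟩ := hNPK n hn
  have h1 : k * c = c * k := mem_centralizer_iff.1 hc.2 k hk
  calc q * k * c = q * (k * c) := by group
    _ = (q * c) * k := by rw [h1]; group
    _ = c * (q * k) := by rw [hP q hq c hc.1]; group

/-- The two factors meet trivially. -/
theorem eq_one_of_mem_commutator {p : ℕ} [Fact p.Prime] (P : Sylow p X) (hP : ∀ x ∈ P, ∀ y ∈ P, x * y = y * x) {d : X}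
    (hd : d ∈ P) (hdN : ∀ n ∈ normalizer ((P : Subgroup X) : Set X), n * d = d * n) (hdX : d ∈ commutator X) :
    d = 1 := by
  have hPc : IsMulCommutative (P : Subgroup X) := ⟨⟨fun x y => Subtype.ext (hP x x.2 y y.2)⟩⟩
  obtain ⟨K, hKN, hcardK, hNPK⟩ := exists_compl P
  have hinf := Cfsg.Agent.Lib.CoprimeAbelian.inf_commutator_eq_bot K (P : Subgroup X) hP hKN hcardK
  have h1 : d ∈ commutator X ⊓ (P : Subgroup X) := mem_inf.2 ⟨hdX, hd⟩
  rw [commutator_inf_eq_focalSubgroup P, focalSubgroup_def] at h1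
  have h2 : d ∈ ⁅(P : Subgroup X), K⁆ := by
    refine (Subgroup.closure_le _).2 ?_ h1
    rintro z ⟨hz, y, hy, g, rfl⟩
    have hyP : y ∈ (P : Subgroup X) := hy
    have hgP : g * y⁻¹ * g⁻¹ ∈ (P : Subgroup X) := by
      have := mul_mem (inv_mem hyP) hz
      rwa [show y⁻¹ * ⁅y, g⁆ = g * y⁻¹ * g⁻¹ by rw [commutatorElement_def]; group] at this
    have h3 : g⁻¹⁻¹ * y⁻¹ * g⁻¹ ∈ P := by rwa [inv_inv]
    obtain ⟨n, hn1, hn2⟩ := Sylow.conj_eq_normalizer_conj_of_mem P y⁻¹ g⁻¹ (inv_mem hyP) h3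
    rw [inv_inv] at hn2
    obtain ⟨q, hq, k, hk, hqk⟩ := hNPK n⁻¹ (inv_mem hn1)
    have hkP : k * y⁻¹ * k⁻¹ ∈ (P : Subgroup X) := (mem_normalizer_iff.1 (hKN hk) y⁻¹).1 (inv_mem hyP)
    have h4 : g * y⁻¹ * g⁻¹ = k * y⁻¹ * k⁻¹ := by
      rw [hn2]
      calc n⁻¹ * y⁻¹ * n = n⁻¹ * y⁻¹ * (n⁻¹)⁻¹ := by group
        _ = q * (k * y⁻¹ * k⁻¹) * q⁻¹ := by rw [hqk]; group
        _ = k * y⁻¹ * k⁻¹ := by rw [hP q hq _ hkP]; group
    have h5 : ⁅y, g⁆ = ⁅y, k⁆ := by
      rw [commutatorElement_def, commutatorElement_def]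
      calc y * g * y⁻¹ * g⁻¹ = y * (g * y⁻¹ * g⁻¹) := by group
        _ = y * k * y⁻¹ * k⁻¹ := by rw [h4]; group
    rw [h5]
    exact commutator_mem_commutator hyP hk
  have h3 : d ∈ (P : Subgroup X) ⊓ centralizer (K : Set X) ⊓ ⁅(P : Subgroup X), K⁆ := by
    refine mem_inf.2 ⟨mem_inf.2 ⟨hd, mem_centralizer_iff.2 fun k hk => hdN k (hKN hk)⟩, h2⟩
  rw [hinf] at h3
  exact mem_bot.1 h3

/-- `X = P L`, `P` an abelian Sylow 2-subgroup, `L` a normal component meeting `P` nontrivially, `Z(L) = 1`: the elements of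
`P` act on `L` as elements of `P ∩ L`. -/
theorem abelian_inner (hcc : Comm.{u}) (P : Sylow 2 X) (hP : ∀ x ∈ P, ∀ y ∈ P, x * y = y * x) {L : Subgroup X}
    (hL : IsComponent L) (hn : L.Normal) (hne : (P : Subgroup X) ⊓ L ≠ ⊥) (hX : (P : Subgroup X) ⊔ L = ⊤) {a : X}
    (ha : a ∈ P) : ∃ z ∈ (P : Subgroup X) ⊓ L, ∀ x ∈ L, a * x * a⁻¹ = z * x * z⁻¹ := by
  have h2 : Fact (Nat.Prime 2) := ⟨Nat.prime_two⟩
  obtain ⟨b, hb, hbP, c, hc, hcN, rfl⟩ := exists_split P hP ha
  -- the commutator subgroup of `X` lies in `L`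
  have hcomm : ∀ x y : X, x * y * x⁻¹ * y⁻¹ ∈ L := by
    intro x y
    have hx : x ∈ (P : Subgroup X) ⊔ L := by rw [hX]; trivial
    have hy : y ∈ (P : Subgroup X) ⊔ L := by rw [hX]; trivial
    rw [← SetLike.mem_coe, mul_normal] at hx hy
    obtain ⟨q, hq, l, hl, rfl⟩ := Set.mem_mul.1 hx
    obtain ⟨q', hq', l', hl', rfl⟩ := Set.mem_mul.1 hy
    have h1 : QuotientGroup.mk' L (q * l * (q' * l') * (q * l)⁻¹ * (q' * l')⁻¹) = 1 := by
      have e1 : QuotientGroup.mk' L l = 1 := (QuotientGroup.eq_one_iff l).2 hl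
      have e2 : QuotientGroup.mk' L l' = 1 := (QuotientGroup.eq_one_iff l').2 hl'
      simp only [map_mul, map_inv, e1, e2, mul_one]
      rw [← map_mul, hP q hq q' hq', map_mul]
      group
    exact (QuotientGroup.eq_one_iff _).1 h1
  have hbL : b ∈ L := by
    have h1 : ⁅(P : Subgroup X), normalizer ((P : Subgroup X) : Set X)⁆ ≤ L := by
      rw [commutator_le]
      intro x _ y _
      rw [commutatorElement_def]
      exact hcomm x y
    exact h1 hb
  -- `⟨c⟩` is strongly closed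
  have hiso : ∀ k : ℤ, ∀ g : X, g * c ^ k * g⁻¹ ∈ P → g * c ^ k * g⁻¹ = c ^ k := by
    intro k g hg
    have hPc : IsMulCommutative (P : Subgroup X) := ⟨⟨fun x y => Subtype.ext (hP x x.2 y y.2)⟩⟩
    have h1 : g⁻¹⁻¹ * c ^ k * g⁻¹ ∈ P := by rwa [inv_inv]
    obtain ⟨n, hn1, hn2⟩ := Sylow.conj_eq_normalizer_conj_of_mem P (c ^ k) g⁻¹ (zpow_mem hc k) h1
    rw [inv_inv] at hn2
    rw [hn2]
    have h3 : n * c ^ k = c ^ k * n := by
      have : Commute n c := hcN n hn1
      exact (this.zpow_right k).eq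
    rw [mul_assoc, ← h3]; group
  have hsc : IsStronglyClosed (zpowers c) (P : Subgroup X) := by
    refine ⟨by rw [zpowers_le]; exact hc, ?_⟩
    rintro _ ⟨k, rfl⟩ g hg
    exact ⟨k, (hiso k g hg).symm⟩
  -- `⟨c⟩ ∩ L = 1`
  obtain ⟨P0, hP0⟩ := exists_sylow P hL.1
  have hperf : Group.IsPerfect L := hL.2.1
  have hcL : ∀ k : ℤ, c ^ k ∈ L → c ^ k = 1 := by
    intro k hk
    refine eq_one_of_mem_commutator P hP (zpow_mem hc k) (fun n hn => ?_) ?_
    · have : Commute n c := hcN n hn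
      exact (this.zpow_right k).eq
    · have h1 : (commutator L).map L.subtype ≤ commutator X := by
        rw [commutator_def, map_commutator, commutator_def]
        exact commutator_mono le_top le_top
      apply h1
      rw [hperf.commutator_eq_top]
      exact ⟨⟨c ^ k, hk⟩, trivial, rfl⟩
  have hbot : ((zpowers c).subgroupOf L).map (QuotientGroup.mk' (center L)) = ⊥ := by
    rw [eq_bot_iff]
    rintro _ ⟨y, hy, rfl⟩
    obtain ⟨k, hk⟩ := mem_zpowers_iff.1 (mem_subgroupOf.1 hy)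
    have h1 : (y : X) = 1 := by
      rw [← hk]
      exact hcL k (by rw [hk]; exact y.2)
    have h3 : y = 1 := Subtype.ext h1
    rw [h3, map_one]
    exact one_mem _
  have hno : ¬ (P : Subgroup X) ⊓ L ≤ zpowers c := by
    intro hle
    apply hne
    rw [eq_bot_iff]
    intro x hx
    obtain ⟨k, hk⟩ := mem_zpowers_iff.1 (hle hx)
    rw [mem_bot, ← hk]
    exact hcL k (by rw [hk]; exact (mem_inf.1 hx).2)
  have hcen := cent_of_image_bot hcc hsc hL hbot hno
  refine ⟨b, mem_inf.2 ⟨hbP, hbL⟩, fun x hx => ?_⟩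
  have h1 : b * x * b⁻¹ ∈ L := mul_mem (mul_mem hbL hx) (inv_mem hbL)
  have h3 := mem_centralizer_iff.1 (hcen h1) c (mem_zpowers c)
  calc c * b * x * (c * b)⁻¹ = c * (b * x * b⁻¹) * c⁻¹ := by group
    _ = b * x * b⁻¹ := by rw [h3]; group

end Cfsg.Agent.H184.GoldAb
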