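import Mathlib
import Cfsg.Agent.ClosedTwo.Over
import Cfsg.Agent.ClosedRed.Inst
import Cfsg.Agent.H184.GoldAb

/-!
# Goldschmidt's theorem, structural form (S2775): the group `⟨A^G⟩` when `A ∩ O₂(G) = 1`
-/

set_option autoImplicit false
set_option linter.unusedSectionVars false

namespace Cfsg.Agent.H184.GoldCtx

open Subgroup Cfsg
open scoped commutatorElement
open Cfsg.Agent.ClosedTwo Cfsg.Agent.ClosedRed
open Cfsg.Agent.SignalizersComponents Cfsg.Agent.SignalizersComponents.Components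
open Cfsg.Agent.SylowL.CompFacts

universe u

/-- The inputs. -/
structure Inp : Prop where
  comm : Comm.{u}
  e2 : E2.{u}
  e3 : E3.{u}
  row : ∀ (X : Type u) [Group X] [Finite X] [IsSimpleGroup X], (¬ IsMulCommutative X) → Row X

/-- The hypotheses. -/
structure Ctx {G : Type u} [Group G] [Finite G] (S : Sylow 2 G) (A : Subgroup G) : Prop where
  sc : IsStronglyClosed A (S : Subgroup G)
  ab : ∀ a ∈ A, ∀ b ∈ A, a * b = b * a
  core : oddCore G = ⊥
  gen : normalClosure (A : Set G) = ⊤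
  inf : A ⊓ pCore 2 G = ⊥

namespace Ctx

variable {G : Type u} [Group G] [Finite G] {S : Sylow 2 G} {A L : Subgroup G} (h : Ctx S A)

include h

theorem eq_one_of_pCore {a : G} (ha : a ∈ A) (h2 : a ∈ pCore 2 G) : a = 1 := by
  have : a ∈ A ⊓ pCore 2 G := mem_inf.2 ⟨ha, h2⟩
  rw [h.inf] at this
  exact mem_bot.1 this

/-- `A` normalises the components. -/
theorem le_normalizer (hL : IsComponent L) : A ≤ normalizer (L : Set G) := by
  by_contra hn
  have h2 : Fact (Nat.Prime 2) := ⟨Nat.prime_two⟩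
  have hSL := sylow_le_of_not_normalizer h.sc hL hn
  obtain ⟨a, ha, hno⟩ := SetLike.not_le_iff_exists.1 hn
  have hcomp : IsComponent (L.map (MulAut.conj a).toMonoidHom) := isComponent_conj a hL
  have hne : L ≠ L.map (MulAut.conj a).toMonoidHom := by
    intro h0
    apply hno
    rw [mem_normalizer_iff]
    intro k
    constructor
    · intro hk
      rw [h0]
      exact ⟨k, hk, rfl⟩
    · intro hk
      rw [h0] at hk
      obtain ⟨l, hl, he⟩ := hk
      have : l = k := by
        have h1 : a * l * a⁻¹ = a * k * a⁻¹ := he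
        simpa using h1
      exact this ▸ hl
  have hcen : ∀ x ∈ (S : Subgroup G) ⊓ L, ∀ l ∈ L, x * l = l * x := by
    intro x hx l hl
    have h1 : a * x * a⁻¹ = x := by rw [h.ab a ha x (hSL hx)]; group
    have h3 : x ∈ L.map (MulAut.conj a).toMonoidHom := ⟨x, (mem_inf.1 hx).2, h1⟩
    exact (mem_centralizer_iff.1 (component_le_centralizer_of_ne hL hcomp hne hl) x h3)
  obtain ⟨P, hP⟩ := exists_sylow S hL.1
  have hperf : Group.IsPerfect L := hL.2.1
  have hbot : (S : Subgroup G) ⊓ L ≤ ⊥ := by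
    refine le_of_focal (D := ⊥) P hP ?_
    intro x hx g hg _
    rw [mem_bot]
    have h1 := hcen x hx g hg
    calc x * (g * x⁻¹ * g⁻¹) = (x * g) * x⁻¹ * g⁻¹ := by group
      _ = 1 := by rw [h1]; group
  have hdvd := OddFixed.two_dvd_card_component h.core hL
  apply P.not_dvd_index
  have hPb : (P : Subgroup L) = ⊥ := by
    rw [hP, eq_bot_iff]
    intro x hx
    rw [mem_bot]
    apply Subtype.ext
    exact mem_bot.1 (hbot (mem_inf.2 ⟨mem_subgroupOf.1 hx, x.2⟩))
  rw [hPb, index_bot]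
  exact hdvd

/-- The components are normal. -/
theorem component_normal (hL : IsComponent L) : L.Normal := by
  let N : Subgroup G := ⨅ K ∈ {K : Subgroup G | IsComponent K}, normalizer (K : Set G)
  have hN : ∀ g : G, g ∈ N ↔ ∀ K : Subgroup G, IsComponent K → g ∈ normalizer (K : Set G) := by
    intro g
    simp only [N, mem_iInf, Set.mem_ofPred_eq]
  have hnn : N.Normal := by
    refine ⟨fun x hx g => ?_⟩
    rw [hN] at hx ⊢
    intro K hK
    have hK' : IsComponent (K.map (MulAut.conj g⁻¹).toMonoidHom) := isComponent_conj g⁻¹ hK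
    have h1 := mem_normalizer_iff.1 (hx _ hK')
    have hmem : ∀ y : G, y ∈ K.map (MulAut.conj g⁻¹).toMonoidHom ↔ g * y * g⁻¹ ∈ K := by
      intro y
      constructor
      · rintro ⟨k, hk, rfl⟩
        have : g * ((MulAut.conj g⁻¹).toMonoidHom k) * g⁻¹ = k := by
          change g * (g⁻¹ * k * g⁻¹⁻¹) * g⁻¹ = k
          group
        rw [this]; exact hk
      · intro hy
        refine ⟨_, hy, ?_⟩
        change g⁻¹ * (g * y * g⁻¹) * g⁻¹⁻¹ = y
        group
    rw [mem_normalizer_iff]
    intro k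
    have h3 := h1 (g⁻¹ * k * g)
    rw [hmem, hmem] at h3
    have e1 : g * (g⁻¹ * k * g) * g⁻¹ = k := by group
    have e2 : g * (x * (g⁻¹ * k * g) * x⁻¹) * g⁻¹ = g * x * g⁻¹ * k * (g * x * g⁻¹)⁻¹ := by group
    rw [e1, e2] at h3
    exact h3
  have hA : A ≤ N := fun a ha => (hN a).2 fun K hK => h.le_normalizer hK ha
  have htop : N = ⊤ := by
    rw [eq_top_iff, ← h.gen]
    exact normalClosure_le_normal hA
  rw [← normalizer_eq_top_iff, eq_top_iff]
  intro g _
  have : g ∈ N := by rw [htop]; trivial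
  exact (hN g).1 this L hL

/-- No component is centralised by `A`. -/
theorem active (hL : IsComponent L) : ¬ L ≤ centralizer (A : Set G) := by
  intro hc
  have hn := h.component_normal hL
  have h1 : A ≤ centralizer (L : Set G) := by
    rw [le_centralizer_iff] at hc
    exact hc
  have h3 : centralizer (L : Set G) = ⊤ := by
    rw [eq_top_iff, ← h.gen]
    exact normalClosure_le_normal h1
  apply quasisimple_not_isMulCommutative hL.2
  refine ⟨⟨fun x y => Subtype.ext ?_⟩⟩
  have h4 : (x : G) ∈ centralizer (L : Set G) := by rw [h3]; trivial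
  exact (mem_centralizer_iff.1 h4 y y.2).symm

theorem center_le (hL : IsComponent L) {x : G} (hx : x ∈ L) (hc : x ∈ centralizer (L : Set G)) :
    x ∈ pCore 2 G := by
  have : Fact (Nat.Prime 2) := ⟨Nat.prime_two⟩
  exact BalanceAux.center_component_le_pCore 2 h.core hL ⟨hx, hc⟩

theorem eq_one_of_center (hL : IsComponent L) {a : G} (ha : a ∈ A) (hx : a ∈ L)
    (hc : a ∈ centralizer (L : Set G)) : a = 1 := h.eq_one_of_pCore ha (h.center_le hL hx hc)

theorem row (I : Inp.{u}) (hL : IsComponent L) : Row (L ⧸ center L) := by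
  have h1 : IsSimpleGroup (L ⧸ center L) := hL.2.2
  exact I.row _ (simple_quot hL).2

/-- The structure of the components. -/
theorem exc (I : Inp.{u}) (hL : IsComponent L) :
    IsSimpleGroup L ∧ center L = ⊥ ∧ A ⊓ L ≠ ⊥ ∧ ((S : Subgroup G) ⊓ L ≤ A ∨ (Exc L ∧ ∃ T : Sylow 2 L,
      (T : Subgroup L).map L.subtype = (S : Subgroup G) ⊓ L ∧
        A ⊓ L = ((center (T : Subgroup L)).map (T : Subgroup L).subtype).map L.subtype)) := by
  have h2 : Fact (Nat.Prime 2) := ⟨Nat.prime_two⟩
  obtain ⟨P, hP, hsc⟩ := exists_quot S hL.1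
  obtain ⟨T, hT⟩ := exists_sylow S hL.1
  have hact := h.active hL
  -- from `Z(L) = 1`
  have hfin : center L = ⊥ → IsSimpleGroup L := by
    intro hc1
    have hinj : Function.Injective (QuotientGroup.mk' (center L)) := by
      rw [← MonoidHom.ker_eq_bot_iff, QuotientGroup.ker_mk', hc1]
    let e : L ≃* L ⧸ center L := MulEquiv.ofBijective (QuotientGroup.mk' (center L))
      ⟨hinj, QuotientGroup.mk'_surjective _⟩
    have h1 : IsSimpleGroup (L ⧸ center L) := hL.2.2
    have h3 : Nontrivial L := e.toEquiv.nontrivial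
    exact IsSimpleGroup.isSimpleGroup_of_surjective e.symm.toMonoidHom e.symm.surjective
  have hZ2 : IsPGroup 2 (center L) := by
    intro z
    have h1 : ((z : L) : G) ∈ pCore 2 G := h.center_le hL (z : L).2 (mem_center_iff_mem_centralizer.1 z.2)
    obtain ⟨m, hm⟩ := Cfsg.Agent.Lib.Cores.pCore_isPGroup (G := G) 2 ⟨_, h1⟩
    have hm' : ((z : L) : G) ^ 2 ^ m = 1 := congrArg Subtype.val hm
    refine ⟨m, ?_⟩
    apply Subtype.ext
    apply Subtype.ext
    exact hm'
  by_cases hle : (S : Subgroup G) ⊓ L ≤ A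
  · have hc1 : center L = ⊥ := by
      rw [eq_bot_iff]
      intro z hz
      have h1 : (z : G) ∈ pCore 2 G := h.center_le hL z.2 (mem_center_iff_mem_centralizer.1 hz)
      have h3 : (z : G) ∈ A := hle (mem_inf.2 ⟨Cfsg.Agent.Lib.Cores.pCore_le_sylow S h1, z.2⟩)
      exact mem_bot.2 (Subtype.ext (h.eq_one_of_pCore h3 h1))
    refine ⟨hfin hc1, hc1, ?_, Or.inl hle⟩
    intro h0
    -- `S ∩ L = 1`
    have hdvd := OddFixed.two_dvd_card_component h.core hL
    apply T.not_dvd_index
    have hTb : (T : Subgroup L) = ⊥ := by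
      rw [hT, eq_bot_iff]
      intro x hx
      rw [mem_bot]
      apply Subtype.ext
      have h3 : (x : G) ∈ A ⊓ L := mem_inf.2 ⟨hle (mem_inf.2 ⟨mem_subgroupOf.1 hx, x.2⟩), x.2⟩
      rw [h0] at h3
      exact mem_bot.1 h3
    rw [hTb, index_bot]
    exact hdvd
  · have hsc1 := hsc A h.sc
    have hb : (A.subgroupOf L).map (QuotientGroup.mk' (center L)) ≠ ⊥ := fun h0 =>
      hact (cent_of_image_bot I.comm h.sc hL h0 hle)
    have hs : (A.subgroupOf L).map (QuotientGroup.mk' (center L)) ≠ (P : Subgroup (L ⧸ center L)) := by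
      intro h0
      rw [hP] at h0
      exact hle (le_of_image_eq h.sc hL h0)
    -- the row
    obtain ⟨hz, hrz, hex⟩ : (A.subgroupOf L).map (QuotientGroup.mk' (center L)) =
        (center (P : Subgroup (L ⧸ center L))).map (P : Subgroup (L ⧸ center L)).subtype ∧
          ClosedRowZ (L ⧸ center L) ∧ Exc (L ⧸ center L) := by
      rcases h.row I hL with hr | ⟨hr, hex⟩
      · rcases hr P _ hsc1 with h1 | h1
        · exact absurd h1 hb
        · exact absurd h1 hs
      · rcases hr P _ hsc1 with h1 | h1 | h1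
        · exact absurd h1 hb
        · exact absurd h1 hs
        · exact ⟨h1, hr, hex⟩
    have hBsc : IsStronglyClosed (A.subgroupOf L) (T : Subgroup L) := by
      rw [hT]
      exact sc_subgroupOf L h.sc
    have hBZ : A.subgroupOf L ⊓ center L = ⊥ := by
      rw [eq_bot_iff]
      rintro x ⟨hx1, hx2⟩
      rw [mem_bot]
      apply Subtype.ext
      exact h.eq_one_of_center hL hx1 x.2 (mem_center_iff_mem_centralizer.1 hx2)
    have hB1 : A.subgroupOf L ≠ ⊥ := by
      intro h0
      apply hb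
      rw [h0, Subgroup.map_bot]
    have hBT : ¬ (T : Subgroup L) ≤ A.subgroupOf L ⊔ center L := by
      intro h0
      apply hs
      apply le_antisymm hsc1.1
      rw [hP, ← hT]
      have h1 := Subgroup.map_mono (f := QuotientGroup.mk' (center L)) h0
      rw [Subgroup.map_sup] at h1
      have h2 : (center L).map (QuotientGroup.mk' (center L)) = ⊥ := by
        rw [Subgroup.map_eq_bot_iff, QuotientGroup.ker_mk']
      rwa [h2, sup_bot_eq] at h1
    have hc1 : center L = ⊥ := I.e2 L hL.2.1 hex hrz hZ2 T (A.subgroupOf L) hBsc hBZ hB1 hBT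
    have hinj : Function.Injective (QuotientGroup.mk' (center L)) := by
      rw [← MonoidHom.ker_eq_bot_iff, QuotientGroup.ker_mk', hc1]
    let e : L ≃* L ⧸ center L := MulEquiv.ofBijective (QuotientGroup.mk' (center L))
      ⟨hinj, QuotientGroup.mk'_surjective _⟩
    have he : e.toMonoidHom = QuotientGroup.mk' (center L) := rfl
    have hexL : Exc L := hex.congr e.symm
    have hPT : (P : Subgroup (L ⧸ center L)) = (T : Subgroup L).map e.toMonoidHom := by rw [he, hP, hT]
    have hzT : A.subgroupOf L = (center (T : Subgroup L)).map (T : Subgroup L).subtype := by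
      have h1 := map_center e hPT
      rw [← hz, ← he] at h1
      exact (Subgroup.map_injective e.injective h1).symm
    refine ⟨hfin hc1, hc1, ?_, Or.inr ⟨hexL, T, ?_, ?_⟩⟩
    · intro h0
      apply hB1
      rw [← Subgroup.inf_subgroupOf_right, h0, Subgroup.bot_subgroupOf]
    · rw [hT, Subgroup.subgroupOf_map_subtype]
    · rw [← hzT, Subgroup.subgroupOf_map_subtype]

omit h in
/-- `|A L : A| = |L : A ∩ L|`. -/
theorem relIndex_sup {A L : Subgroup G} (hn : L.Normal) : A.relIndex (A ⊔ L) = A.relIndex L := by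
  have h1 := relIndex_mul_relIndex (A ⊓ L) L (A ⊔ L) inf_le_right le_sup_right
  have h3 := relIndex_mul_relIndex (A ⊓ L) A (A ⊔ L) inf_le_left le_sup_left
  have h4 : L.relIndex (A ⊔ L) = L.relIndex A := relIndex_sup_right A L
  have h5 : (A ⊓ L).relIndex L = A.relIndex L := inf_relIndex_right A L
  have h6 : (A ⊓ L).relIndex A = L.relIndex A := by rw [inf_comm]; exact inf_relIndex_right L A
  have h7 : L.relIndex A ≠ 0 := index_ne_zero_of_finite
  rw [h4, h5] at h1
  rw [h6] at h3
  rw [← h1, mul_comm] at h3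
  exact Nat.eq_of_mul_eq_mul_right (Nat.pos_of_ne_zero h7) h3

/-- The elements of `A` act on the components as elements of `A ∩ L`. -/
theorem inner (I : Inp.{u}) (hL : IsComponent L) : ∀ a ∈ A, ∃ z ∈ A ⊓ L, ∀ x ∈ L, a * x * a⁻¹ = z * x * z⁻¹ := by
  have h2 : Fact (Nat.Prime 2) := ⟨Nat.prime_two⟩
  obtain ⟨hsimp, hc1, hne, hcase⟩ := h.exc I hL
  have hn := h.component_normal hL
  rcases hcase with hle | ⟨hex, T, hT, hz⟩
  · intro a ha
    have hAL : A ⊓ L = (S : Subgroup G) ⊓ L :=
      le_antisymm (inf_le_inf_right L h.sc.1) (le_inf hle inf_le_right)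
    have hAH : A ≤ A ⊔ L := le_sup_left
    have hLH : L ≤ A ⊔ L := le_sup_right
    have hp : IsPGroup 2 (A.subgroupOf (A ⊔ L)) := (S.2.to_le h.sc.1).comap_subtype
    have hidx : ¬ 2 ∣ (A.subgroupOf (A ⊔ L)).index := by
      change ¬ 2 ∣ A.relIndex (A ⊔ L)
      rw [relIndex_sup hn, ← inf_relIndex_right, hAL, inf_relIndex_right]
      obtain ⟨P, hP⟩ := exists_sylow S hL.1
      have h3 := P.not_dvd_index
      rw [hP] at h3
      exact h3
    let P : Sylow 2 ↥(A ⊔ L) := hp.toSylow hidx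
    have hP : (P : Subgroup ↥(A ⊔ L)) = A.subgroupOf (A ⊔ L) := rfl
    have hcomp : IsComponent (L.subgroupOf (A ⊔ L)) := isComponent_subgroupOf hLH hL
    have hPc : ∀ x ∈ P, ∀ y ∈ P, x * y = y * x := fun x hx y hy => Subtype.ext (h.ab x hx y hy)
    have hnn : (L.subgroupOf (A ⊔ L)).Normal := inferInstance
    have hPL : (P : Subgroup ↥(A ⊔ L)) ⊓ L.subgroupOf (A ⊔ L) ≠ ⊥ := by
      intro h0
      apply hne
      rw [eq_bot_iff]
      rintro x ⟨hx1, hx2⟩
      have h3 : (⟨x, hAH hx1⟩ : ↥(A ⊔ L)) ∈ (P : Subgroup ↥(A ⊔ L)) ⊓ L.subgroupOf (A ⊔ L) :=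
        mem_inf.2 ⟨hx1, hx2⟩
      rw [h0, mem_bot] at h3
      exact mem_bot.2 (congrArg Subtype.val h3)
    have hPt : (P : Subgroup ↥(A ⊔ L)) ⊔ L.subgroupOf (A ⊔ L) = ⊤ := by
      rw [hP, ← subgroupOf_sup hAH hLH, subgroupOf_self]
    obtain ⟨z, hz, hzx⟩ := GoldAb.abelian_inner I.comm P hPc hcomp hnn hPL hPt (a := ⟨a, hAH ha⟩) ha
    refine ⟨z, mem_inf.2 ⟨(mem_inf.1 hz).1, (mem_inf.1 hz).2⟩, fun x hx => ?_⟩
    exact congrArg Subtype.val (hzx ⟨x, hLH hx⟩ hx)
  · exact I.e3 G S A L h.sc (h.le_normalizer hL) hex T hT hz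

/-- Every element of `A` acts on the components as an element of `⨆ (A ∩ L)`. -/
theorem exists_mul (I : Inp.{u}) {a : G} (ha : a ∈ A) :
    ∃ c ∈ A, c ∈ (⨆ K ∈ {K : Subgroup G | IsComponent K}, A ⊓ K) ∧
      ∀ L : Subgroup G, IsComponent L → ∀ l ∈ L, (c⁻¹ * a) * l = l * (c⁻¹ * a) := by
  classical
  have hfin : Fintype (Subgroup G) := Fintype.ofFinite _
  have key : ∀ s : Finset (Subgroup G), (∀ L ∈ s, IsComponent L) →
      ∃ c ∈ A, c ∈ (⨆ K ∈ {K : Subgroup G | IsComponent K}, A ⊓ K) ∧ (∀ L ∈ s, ∀ l ∈ L, a * l * a⁻¹ = c * l * c⁻¹) ∧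
        ∀ L : Subgroup G, IsComponent L → L ∉ s → ∀ l ∈ L, c * l = l * c := by
    intro s
    induction s using Finset.induction_on with
    | empty =>
      intro _
      refine ⟨1, one_mem _, one_mem _, ?_, ?_⟩
      · intro L hL; exact absurd hL (Finset.notMem_empty L)
      · intro L _ _ l _; rw [one_mul, mul_one]
    | insert L₀ s hL₀ ih =>
      intro hs
      obtain ⟨c, hcA, hcE, hc1, hc2⟩ := ih fun L hL => hs L (Finset.mem_insert_of_mem hL)
      have hact := hs L₀ (Finset.mem_insert_self _ _)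
      obtain ⟨b, hb, hbl⟩ := h.inner I hact a ha
      obtain ⟨hbA, hbL⟩ := mem_inf.1 hb
      have hbc : ∀ L : Subgroup G, IsComponent L → L ≠ L₀ → ∀ l ∈ L, b * l = l * b := by
        intro L hL hne l hl
        exact mem_centralizer_iff.1 (component_le_centralizer_of_ne hL hact hne hl) b hbL
      have hbE : b ∈ (⨆ K ∈ {K : Subgroup G | IsComponent K}, A ⊓ K) := by
        have : A ⊓ L₀ ≤ (⨆ K ∈ {K : Subgroup G | IsComponent K}, A ⊓ K) :=
          le_iSup₂_of_le (f := fun K (_ : K ∈ {K : Subgroup G | IsComponent K}) => A ⊓ K) L₀ hact le_rfl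
        exact this hb
      refine ⟨c * b, mul_mem hcA hbA, mul_mem hcE hbE, ?_, ?_⟩
      · intro L hL l hl
        rcases Finset.mem_insert.1 hL with rfl | hL
        · have h1 : b * l * b⁻¹ ∈ L := mul_mem (mul_mem hbL hl) (inv_mem hbL)
          have h2 := hc2 L hact hL₀ _ h1
          calc a * l * a⁻¹ = b * l * b⁻¹ := hbl l hl
            _ = (b * l * b⁻¹) * c * c⁻¹ := by group
            _ = c * (b * l * b⁻¹) * c⁻¹ := by rw [h2]
            _ = c * b * l * (c * b)⁻¹ := by group
        · have hne : L ≠ L₀ := fun he => hL₀ (he ▸ hL)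
          have h1 := hbc L (hs L (Finset.mem_insert_of_mem hL)) hne l hl
          calc a * l * a⁻¹ = c * l * c⁻¹ := hc1 L hL l hl
            _ = c * (l * b) * b⁻¹ * c⁻¹ := by group
            _ = c * (b * l) * b⁻¹ * c⁻¹ := by rw [h1]
            _ = c * b * l * (c * b)⁻¹ := by group
      · intro L hL hLs l hl
        rw [Finset.mem_insert, not_or] at hLs
        have h1 := hbc L hL hLs.1 l hl
        have h2 := hc2 L hL hLs.2 l hl
        calc c * b * l = c * (b * l) := by group
          _ = (c * l) * b := by rw [h1]; group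
          _ = l * (c * b) := by rw [h2]; group
  obtain ⟨c, hcA, hcE, hc1, hc2⟩ := key (Finset.univ.filter fun L => IsComponent L)
    (fun L hL => (Finset.mem_filter.1 hL).2)
  refine ⟨c, hcA, hcE, ?_⟩
  intro L hL l hl
  have h3 := hc1 L (Finset.mem_filter.2 ⟨Finset.mem_univ _, hL⟩) l hl
  calc c⁻¹ * a * l = c⁻¹ * (a * l * a⁻¹) * a := by group
    _ = c⁻¹ * (c * l * c⁻¹) * a := by rw [h3]
    _ = l * (c⁻¹ * a) := by group

theorem comm_pCore {a u : G} (ha : a ∈ A) (hu : u ∈ pCore 2 G) : a * u = u * a := by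
  have h2 : Fact (Nat.Prime 2) := ⟨Nat.prime_two⟩
  have hp := Cfsg.Agent.Lib.Cores.pCore_normal (G := G) 2
  have huS := Cfsg.Agent.Lib.Cores.pCore_le_sylow S hu
  have h1 : a * u * a⁻¹ * u⁻¹ ∈ A := by
    rw [show a * u * a⁻¹ * u⁻¹ = a * (u * a⁻¹ * u⁻¹) by group]
    exact mul_mem ha (closed_conj h.sc (inv_mem ha) huS)
  have h2 : a * u * a⁻¹ * u⁻¹ ∈ pCore 2 G := mul_mem (hp.conj_mem u hu a) (inv_mem hu)
  have h3 := h.eq_one_of_pCore h1 h2
  have h4 := mul_inv_eq_one.1 h3
  exact mul_inv_eq_iff_eq_mul.1 h4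

/-- An element of `A` which centralises all components is trivial. -/
theorem eq_one_of_comm {d : G} (hd : d ∈ A) (hc : ∀ L : Subgroup G, IsComponent L → ∀ l ∈ L, d * l = l * d) :
    d = 1 := by
  have h2 : Fact (Nat.Prime 2) := ⟨Nat.prime_two⟩
  apply h.eq_one_of_pCore hd
  -- the centralizer of `F*(G)`
  have hpn := Cfsg.Agent.Lib.Cores.pCore_normal (G := G) 2
  have hln := layer_normal (G := G)
  have hn : (centralizer ((pCore 2 G ⊔ layer G : Subgroup G) : Set G)).Normal := by
    have : (pCore 2 G ⊔ layer G).Normal := inferInstance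
    infer_instance
  have hmem : ∀ y : G, y ∈ centralizer ((pCore 2 G ⊔ layer G : Subgroup G) : Set G) →
      (∀ u ∈ pCore 2 G, Commute y u) ∧ ∀ L : Subgroup G, IsComponent L → ∀ e ∈ L, Commute y e := by
    intro y hy
    refine ⟨fun u hu => ?_, fun L hL e he => ?_⟩
    · exact (mem_centralizer_iff.1 hy u (mem_sup_left hu)).symm
    · exact (mem_centralizer_iff.1 hy e (mem_sup_right (component_le_layer hL he))).symm
  have hP : IsPGroup 2 (centralizer ((pCore 2 G ⊔ layer G : Subgroup G) : Set G)) := by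
    rw [IsPGroup.iff_card]
    obtain ⟨k, m, hm, hkm⟩ := Nat.exists_eq_two_pow_mul_odd
      (n := Nat.card (centralizer ((pCore 2 G ⊔ layer G : Subgroup G) : Set G))) Nat.card_pos.ne'
    refine ⟨k, ?_⟩
    suffices hm1 : m = 1 by rw [hkm, hm1, mul_one]
    by_contra hm1
    obtain ⟨p, hp, hpm⟩ := Nat.exists_prime_and_dvd hm1
    have : Fact p.Prime := ⟨hp⟩
    have hpodd : Odd p := hm.of_dvd_nat hpm
    obtain ⟨x, hx⟩ := exists_prime_orderOf_dvd_card' p (hpm.trans ⟨2 ^ k, by rw [hkm, mul_comm]⟩ :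
      p ∣ Nat.card (centralizer ((pCore 2 G ⊔ layer G : Subgroup G) : Set G)))
    have h1 : orderOf (x : G) = p := by rw [Subgroup.orderOf_coe]; exact hx
    obtain ⟨h3, h4⟩ := hmem x x.2
    have h5 : zpowers (x : G) = ⊥ := by
      refine Cfsg.Agent.SignalizersComponents.OddFixed.eq_bot_of_centralizes h.core ?_ ?_ ?_
      · rw [Nat.card_zpowers, h1]
        exact Nat.coprime_two_right.2 hpodd
      · intro y hy u hu
        obtain ⟨n, rfl⟩ := mem_zpowers_iff.1 hy
        exact (h3 u hu).zpow_left n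
      · intro L hL y hy e he
        obtain ⟨n, rfl⟩ := mem_zpowers_iff.1 hy
        exact (h4 L hL e he).zpow_left n
    have h6 : (x : G) ∈ zpowers (x : G) := mem_zpowers _
    rw [h5, mem_bot] at h6
    rw [h6, orderOf_one] at h1
    exact hp.one_lt.ne h1
  refine Cfsg.Agent.Lib.Cores.le_pCore hn hP ?_
  have h3 : pCore 2 G ⊔ layer G ≤ centralizer ({d} : Set G) := by
    refine sup_le ?_ ?_
    · intro u hu
      rw [mem_centralizer_singleton_iff]
      exact (h.comm_pCore hd hu).symm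
    · rw [layer_le_iff]
      intro L hL l hl
      rw [mem_centralizer_singleton_iff]
      exact (hc L hL l hl).symm
  rw [mem_centralizer_iff]
  intro y hy
  have := h3 hy
  rw [mem_centralizer_singleton_iff] at this
  exact this

/-- `A = ⨆ (A ∩ L)`. -/
theorem eq_iSup (I : Inp.{u}) : A = ⨆ K ∈ {K : Subgroup G | IsComponent K}, A ⊓ K := by
  apply le_antisymm
  · intro a ha
    obtain ⟨c, hcA, hcE, hc⟩ := h.exists_mul I ha
    have h1 := h.eq_one_of_comm (mul_mem (inv_mem hcA) ha) hc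
    rw [inv_mul_eq_one] at h1
    rw [← h1]
    exact hcE
  · exact iSup₂_le fun K _ => inf_le_left

/-- `G` is the product of its components. -/
theorem layer_eq_top (I : Inp.{u}) : layer G = ⊤ := by
  have hln := layer_normal (G := G)
  rw [eq_top_iff, ← h.gen]
  apply normalClosure_le_normal
  intro a ha
  have h1 : a ∈ ⨆ K ∈ {K : Subgroup G | IsComponent K}, A ⊓ K := by rw [← h.eq_iSup I]; exact ha
  have h3 : (⨆ K ∈ {K : Subgroup G | IsComponent K}, A ⊓ K) ≤ layer G :=
    iSup₂_le fun K hK => inf_le_right.trans (component_le_layer hK)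
  exact h3 h1

end Ctx

end Cfsg.Agent.H184.GoldCtx
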