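import Mathlib
import Cfsg.Agent.H184.GoldStr
import Cfsg.Agent.S1250
import Cfsg.Agent.TwoFusion.IsolatedCenter

/-!
# Goldschmidt's theorem, structural form (S2775): the main theorem from the inputs
-/

set_option autoImplicit false
set_option linter.unusedSectionVars false

namespace Cfsg.Agent.H184.GoldCtx

open Subgroup Cfsg
open scoped commutatorElement
open Cfsg.Agent.ClosedTwo Cfsg.Agent.ClosedRed
open Cfsg.Agent.SignalizersComponents Cfsg.Agent.SignalizersComponents.Components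
open Cfsg.Agent.SylowL.CompFacts

universe u

/-- The core of the quotient by a central 2-subgroup of a core-free group is trivial. -/
theorem oddCore_quotient_central {G : Type*} [Group G] [Finite G] (hO : Cfsg.oddCore G = ⊥) (Z : Subgroup G)
    [hZn : Z.Normal] (hZc : Z ≤ Subgroup.center G) (hZ2 : IsPGroup 2 Z) :
    Cfsg.oddCore (G ⧸ Z) = ⊥ := by
  have hM : (Cfsg.oddCore (G ⧸ Z)).comap (QuotientGroup.mk' Z) = Z := by
    set M := (Cfsg.oddCore (G ⧸ Z)).comap (QuotientGroup.mk' Z) with hMdef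
    have hMn : M.Normal := inferInstance
    have hZM : Z ≤ M := by
      intro w hw
      rw [hMdef, Subgroup.mem_comap]
      have : (QuotientGroup.mk' Z) w = 1 := by
        rw [← MonoidHom.mem_ker, QuotientGroup.ker_mk']; exact hw
      rw [this]; exact Subgroup.one_mem _
    have hMcard : Nat.card M = Nat.card Z * Nat.card (Cfsg.oddCore (G ⧸ Z)) :=
      QuotientGroup.card_preimage_mk Z (Cfsg.oddCore (G ⧸ Z) : Set (G ⧸ Z))
    have hMO : Cfsg.oddCore M = ⊥ := by
      have h1 := Cfsg.Agent.Lib.Cores.map_subtype_pPrimeCore (G := G) 2 (N := M) hMn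
      have h2 : (Cfsg.pPrimeCore 2 G) = ⊥ := hO
      rw [h2, inf_bot_eq] at h1
      exact (Subgroup.map_eq_bot_iff_of_injective _ M.subtype_injective).mp h1
    have h3 := Cfsg.Agent.TwoFusion.IsolatedCenter.eq_top_of_central (M := M) (Z.subgroupOf M) (by
        intro w hw
        rw [Subgroup.mem_center_iff]
        intro v
        ext
        have := Subgroup.mem_center_iff.mp (hZc (Subgroup.mem_subgroupOf.mp hw)) v
        simpa using this) ?_ ?_ hMO
    · exact le_antisymm (Subgroup.subgroupOf_eq_top.mp h3) hZM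
    · exact hZ2.comap_subtype
    · have h4 := Subgroup.card_mul_index (Z.subgroupOf M)
      rw [Nat.card_congr (Subgroup.subgroupOfEquivOfLe hZM).toEquiv, hMcard] at h4
      have h5 : (Z.subgroupOf M).index = Nat.card (Cfsg.oddCore (G ⧸ Z)) :=
        Nat.eq_of_mul_eq_mul_left Nat.card_pos h4
      rw [h5]
      exact Nat.coprime_two_right.mp (Cfsg.Agent.Lib.Cores.pPrimeCore_coprime 2)
  have h2 := congrArg (Subgroup.map (QuotientGroup.mk' Z)) hM
  rw [map_comap_eq_self_of_surjective (QuotientGroup.mk'_surjective _)] at h2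
  rw [h2, Subgroup.map_eq_bot_iff, QuotientGroup.ker_mk']

/-- The hypotheses on `⟨A^G⟩ / O(⟨A^G⟩)`. -/
structure Pre {G : Type u} [Group G] [Finite G] (S : Sylow 2 G) (A : Subgroup G) : Prop where
  sc : IsStronglyClosed A (S : Subgroup G)
  ab : ∀ a ∈ A, ∀ b ∈ A, a * b = b * a
  core : oddCore G = ⊥
  gen : normalClosure (A : Set G) = ⊤

namespace Pre

variable {G : Type u} [Group G] [Finite G] {S : Sylow 2 G} {A L : Subgroup G} (h : Pre S A)

include h

theorem normal : (A ⊓ pCore 2 G).Normal := by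
  have h2 : Fact (Nat.Prime 2) := ⟨Nat.prime_two⟩
  have hp := Cfsg.Agent.Lib.Cores.pCore_normal (G := G) 2
  refine ⟨fun x hx g => ?_⟩
  obtain ⟨hx1, hx2⟩ := mem_inf.1 hx
  have h3 := hp.conj_mem x hx2 g
  exact mem_inf.2 ⟨h.sc.2 x hx1 g (Cfsg.Agent.Lib.Cores.pCore_le_sylow S h3), h3⟩

theorem le_center : A ⊓ pCore 2 G ≤ center G := by
  have hn := h.normal
  have h1 : centralizer ((A ⊓ pCore 2 G : Subgroup G) : Set G) = ⊤ := by
    rw [eq_top_iff, ← h.gen]
    apply normalClosure_le_normal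
    intro a ha
    exact mem_centralizer_iff.2 fun u hu => h.ab u (mem_inf.1 hu).1 a ha
  intro u hu
  rw [mem_center_iff]
  intro g
  have h3 : g ∈ centralizer ((A ⊓ pCore 2 G : Subgroup G) : Set G) := by rw [h1]; trivial
  exact (mem_centralizer_iff.1 h3 u hu).symm

theorem two : IsPGroup 2 (A ⊓ pCore 2 G : Subgroup G) :=
  (Cfsg.Agent.Lib.Cores.pCore_isPGroup (G := G) 2).to_le inf_le_right

theorem quot_aux (Z : Subgroup G) [Z.Normal] (hZ : Z = A ⊓ pCore 2 G) [Fact (Nat.Prime 2)] :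
    Ctx (S.mapSurjective (QuotientGroup.mk'_surjective Z)) (A.map (QuotientGroup.mk' Z)) where
  sc := by
    rw [Sylow.coe_mapSurjective]
    exact S1250.result S A h.sc Z
  ab := by
    rintro _ ⟨a, ha, rfl⟩ _ ⟨b, hb, rfl⟩
    rw [← map_mul, ← map_mul, h.ab a ha b hb]
  core := oddCore_quotient_central h.core Z (hZ ▸ h.le_center) (by rw [hZ]; exact h.two)
  gen := by
    have h1 := Subgroup.map_normalClosure (A : Set G) (QuotientGroup.mk' Z) (QuotientGroup.mk'_surjective Z)
    rw [h.gen, Subgroup.map_top_of_surjective _ (QuotientGroup.mk'_surjective Z)] at h1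
    rw [Subgroup.coe_map]
    exact h1.symm
  inf := by
    have hZ2 : IsPGroup 2 Z := by rw [hZ]; exact h.two
    rw [eq_bot_iff]
    rintro x ⟨⟨a, ha, hax⟩, hx2⟩
    have h3 : a ∈ (pCore 2 (G ⧸ Z)).comap (QuotientGroup.mk' Z) := by
      rw [mem_comap, hax]
      exact hx2
    rw [Cfsg.Agent.Lib.Cores.comap_mk_pCore 2 hZ2] at h3
    have h4 : a ∈ Z := by rw [hZ]; exact mem_inf.2 ⟨ha, h3⟩
    rw [mem_bot, ← hax]
    exact (QuotientGroup.eq_one_iff a).2 h4

theorem quot (Z : Subgroup G) [Z.Normal] (hZ : Z = A ⊓ pCore 2 G) :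
    ∃ T : Sylow 2 (G ⧸ Z), (T : Subgroup (G ⧸ Z)) = (S : Subgroup G).map (QuotientGroup.mk' Z) ∧
      Ctx T (A.map (QuotientGroup.mk' Z)) := by
  have h2 : Fact (Nat.Prime 2) := ⟨Nat.prime_two⟩
  exact ⟨_, Sylow.coe_mapSurjective _ _, h.quot_aux Z hZ⟩

/-- **The main theorem**: Goldschmidt's theorem for `G = ⟨A^G⟩`, `O(G) = 1`. -/
theorem main (I : Inp2.{u}) :
    pCore 2 G ⊔ commutator G = ⊤ ∧ pCore 2 G ≤ center G ∧ A = pCore 2 G ⊔ omegaOne 2 (S : Subgroup G) ∧
      ∃ (ι : Type) (_ : Fintype ι) (L : ι → Type u) (_ : ∀ i, Group (L i)),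
        (∀ i, IsSimpleGroup (L i) ∧ ¬ IsMulCommutative (L i) ∧ IsGoldschmidtGroup (L i)) ∧
          Nonempty (↥(commutator G) ⧸ center ↥(commutator G) ≃* ((i : ι) → L i)) := by
  classical
  have h2 : Fact (Nat.Prime 2) := ⟨Nat.prime_two⟩
  obtain ⟨Z, hZ⟩ : ∃ Z : Subgroup G, Z = A ⊓ pCore 2 G := ⟨_, rfl⟩
  have hZn : Z.Normal := by rw [hZ]; exact h.normal
  have hZc : Z ≤ center G := hZ ▸ h.le_center
  have hZ2 : IsPGroup 2 Z := by rw [hZ]; exact h.two
  obtain ⟨Sb, hSb, hq⟩ := h.quot Z hZ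
  obtain ⟨π, hπ⟩ : ∃ π : G →* G ⧸ Z, π = QuotientGroup.mk' Z := ⟨_, rfl⟩
  have hπs : Function.Surjective π := by rw [hπ]; exact QuotientGroup.mk'_surjective Z
  have hπk : π.ker = Z := by rw [hπ]; exact QuotientGroup.ker_mk' Z
  have hπ1 : ∀ x, π x = 1 ↔ x ∈ Z := fun x => by rw [← MonoidHom.mem_ker, hπk]
  rw [← hπ] at hq hSb
  have hpc := hq.pCore_eq_bot I.toInp
  have hcc := hq.commutator_eq_top I.toInp
  have hce := hq.center_eq_bot I.toInp
  -- (2)
  have hpZ : pCore 2 G = Z := by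
    have h3 := Cfsg.Agent.Lib.Cores.comap_mk_pCore 2 hZ2
    rw [hpc, ← hπ] at h3
    rw [← h3]
    exact hπk
  have hZA : Z ≤ A := by rw [hZ]; exact inf_le_left
  -- (1)
  have h1 : commutator G ⊔ Z = ⊤ := by
    have h3 : (commutator G).map π = ⊤ := by
      rw [← hcc, commutator_def, commutator_def, map_commutator, Subgroup.map_top_of_surjective π hπs]
    have h4 := comap_map_eq π (commutator G)
    rw [h3, comap_top, hπk] at h4
    exact h4.symm
  refine ⟨by rw [hpZ, sup_comm]; exact h1, by rw [hpZ]; exact hZc, ?_, ?_⟩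
  · rw [hpZ]
    apply le_antisymm
    · have h3 : A.map π ≤ (omegaOne 2 (S : Subgroup G)).map π := by
        refine (hq.le_foc I).trans ((Subgroup.closure_le _).2 ?_)
        rintro _ ⟨_, ⟨a, ha, rfl⟩, g', hg, rfl⟩
        obtain ⟨g, rfl⟩ := hπs g'
        have haa : a * a ∈ Z := by
          rw [← hπ1, map_mul]
          exact hq.sq I.toInp ⟨a, ha, rfl⟩
        have hgA : g * a * g⁻¹ ∈ A := by
          obtain ⟨b, hb, hbe⟩ := hg
          have h5 : b⁻¹ * (g * a * g⁻¹) ∈ Z := by
            rw [← hπ1, map_mul, map_inv, hbe, ← map_inv, ← map_mul, ← map_mul, ← map_inv, ← map_mul,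
              inv_mul_cancel, map_one]
          have h6 := mul_mem hb (hZA h5)
          rwa [mul_inv_cancel_left] at h6
        refine ⟨a * (g * a⁻¹ * g⁻¹), ?_, by simp only [map_mul, map_inv]⟩
        apply Subgroup.subset_closure
        have hgA' : g * a⁻¹ * g⁻¹ ∈ A := by
          have := inv_mem hgA
          rwa [show (g * a * g⁻¹)⁻¹ = g * a⁻¹ * g⁻¹ by group] at this
        refine ⟨h.sc.1 (mul_mem ha hgA'), ?_⟩
        rw [pow_two]
        have hc := mem_center_iff.1 (hZc haa)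
        calc a * (g * a⁻¹ * g⁻¹) * (a * (g * a⁻¹ * g⁻¹))
            = a * ((g * a⁻¹ * g⁻¹) * a) * (g * a⁻¹ * g⁻¹) := by group
          _ = (a * a) * (g * (a * a)⁻¹ * g⁻¹) := by rw [h.ab _ hgA' a ha]; group
          _ = (a * a * g) * (a * a)⁻¹ * g⁻¹ := by group
          _ = 1 := by rw [← hc g]; group
      intro a ha
      obtain ⟨y, hy, hya⟩ := h3 ⟨a, ha, rfl⟩
      have h4 : y⁻¹ * a ∈ Z := by rw [← hπ1, map_mul, map_inv, hya, inv_mul_cancel]
      have h5 := mul_mem (mem_sup_right hy : y ∈ Z ⊔ omegaOne 2 (S : Subgroup G))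
        (mem_sup_left h4 : y⁻¹ * a ∈ Z ⊔ omegaOne 2 (S : Subgroup G))
      rwa [mul_inv_cancel_left] at h5
    · refine sup_le hZA ((Subgroup.closure_le _).2 ?_)
      rintro x ⟨hxS, hx2⟩
      have h3 : π x ∈ A.map π := by
        refine hq.mem_of_sq I ?_ ?_
        · rw [hSb]
          exact ⟨x, hxS, rfl⟩
        · rw [← map_mul, ← pow_two, hx2, map_one]
      obtain ⟨a, ha, hax⟩ := h3
      have h4 : a⁻¹ * x ∈ Z := by rw [← hπ1, map_mul, map_inv, hax, inv_mul_cancel]
      have h5 := mul_mem ha (hZA h4)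
      rwa [mul_inv_cancel_left] at h5
  · obtain ⟨φ, -, -⟩ := hq.exists_equiv I.toInp
    have hfin : Fintype {L : Subgroup (G ⧸ Z) // IsComponent L} := Fintype.ofFinite _
    let e := Fintype.equivFin {L : Subgroup (G ⧸ Z) // IsComponent L}
    refine ⟨Fin (Fintype.card {L : Subgroup (G ⧸ Z) // IsComponent L}), inferInstance,
      fun i => ((e.symm i : {L : Subgroup (G ⧸ Z) // IsComponent L}) : Subgroup (G ⧸ Z)), fun i => inferInstance,
      fun i => ?_, ?_⟩
    · obtain ⟨hs, hc, hne, -⟩ := hq.exc I.toInp (e.symm i).2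
      refine ⟨hs, hq.not_comm (e.symm i).2, ?_⟩
      obtain ⟨T, hT⟩ := exists_sylow Sb (e.symm i).2.1
      refine I.gold _ (hq.not_comm (e.symm i).2) T ((A.map π).subgroupOf (e.symm i).1) ?_ ?_ ?_
      · rw [hT]
        exact sc_subgroupOf _ hq.sc
      · intro x hx y hy
        exact Subtype.ext (hq.ab x hx y hy)
      · intro h0
        apply hne
        rw [subgroupOf_eq_bot] at h0
        exact h0.eq_bot
    · -- the isomorphism
      let ψ : commutator G →* G ⧸ Z := π.comp (commutator G).subtype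
      have hψs : Function.Surjective ψ := by
        intro y
        obtain ⟨x, rfl⟩ := hπs y
        have hx : x ∈ commutator G ⊔ Z := by rw [h1]; trivial
        rw [← SetLike.mem_coe, mul_normal] at hx
        obtain ⟨c, hc, z, hz, rfl⟩ := Set.mem_mul.1 hx
        refine ⟨⟨c, hc⟩, ?_⟩
        change π c = π (c * z)
        rw [map_mul, (hπ1 z).2 hz, mul_one]
      have hψk : ψ.ker = center (commutator G) := by
        ext x
        rw [MonoidHom.mem_ker, mem_center_iff]
        change π x = 1 ↔ _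
        rw [hπ1]
        constructor
        · intro hx y
          exact Subtype.ext (mem_center_iff.1 (hZc hx) y)
        · intro hx
          rw [← hπ1, ← mem_bot, ← hce, mem_center_iff]
          intro y
          obtain ⟨y, rfl⟩ := hψs y
          change π y * π x = π x * π y
          rw [← map_mul, ← map_mul]
          exact congrArg π (congrArg Subtype.val (hx y))
      have e1 : ↥(commutator G) ⧸ center ↥(commutator G) ≃* G ⧸ Z :=
        (QuotientGroup.quotientMulEquivOfEq hψk.symm).trans (QuotientGroup.quotientKerEquivOfSurjective ψ hψs)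
      have e2 : ((i : {L : Subgroup (G ⧸ Z) // IsComponent L}) → (i : Subgroup (G ⧸ Z))) ≃*
          ((i : Fin (Fintype.card {L : Subgroup (G ⧸ Z) // IsComponent L})) →
            ((e.symm i : {L : Subgroup (G ⧸ Z) // IsComponent L}) : Subgroup (G ⧸ Z))) :=
        { Equiv.piCongrLeft' (fun i : {L : Subgroup (G ⧸ Z) // IsComponent L} => (i : Subgroup (G ⧸ Z))) e with
          map_mul' := fun _ _ => rfl }
      exact ⟨(e1.trans φ.symm).trans e2⟩

end Pre

end Cfsg.Agent.H184.GoldCtx
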