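import Mathlib
import Cfsg.Agent.H184.GoldMain
import Cfsg.Agent.H211.GoldList
import Cfsg.Agent.S0000
import Cfsg.Agent.S0215
import Cfsg.Agent.S1174
import Cfsg.Agent.TwoFusion.GoldFinal
import Cfsg.Agent.SylowL.GoldHypOf

/-!
# Goldschmidt's theorem, structural form (S2775): the inputs
-/

set_option autoImplicit false
set_option linter.unusedSectionVars false

namespace Cfsg.Agent.H184.GoldInp

open Subgroup Cfsg
open Cfsg.Agent.ClosedTwo Cfsg.Agent.ClosedRed
open Cfsg.Agent.H184.GoldCtx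

universe u

/-- All rows. -/
theorem row (X : Type u) [Group X] [Finite X] [IsSimpleGroup X] (hna : ¬ IsMulCommutative X) : Row X :=
  (Cfsg.Agent.ClosedRed.Inst.rowsInd X hna
    (Final.indCR_all (fun Y _ _ _ => Cfsg.Agent.S0000.result) Cfsg.Agent.ClosedRed.Inst.rowsInd _)).row hna
      Cfsg.Agent.S0000.result

theorem exc_gold {X : Type u} [Group X] (h : Exc X) : IsGoldschmidtGroup X := by
  rcases h with ⟨F, iF, iFt, q, hF, hq, hq4, ⟨e⟩⟩ | h
  · obtain ⟨p, hp⟩ := CharP.exists F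
    have hpp : p.Prime := (CharP.char_is_prime_or_zero F p).resolve_right (CharP.char_ne_zero_of_finite F p)
    obtain ⟨k, _, hk⟩ := FiniteField.card F p
    have h2 : 2 ∣ p ^ (k : ℕ) := by
      rw [← hk, hF]
      exact dvd_pow (even_iff_two_dvd.1 hq) two_ne_zero
    have hp2 : p = 2 := ((Nat.prime_dvd_prime_iff_eq Nat.prime_two hpp).1 (Nat.prime_two.dvd_of_dvd_pow h2)).symm
    subst hp2
    rw [hF] at hk
    obtain ⟨n, hn1, hn2⟩ := (Nat.dvd_prime_pow Nat.prime_two).1 (hk ▸ dvd_pow_self q two_ne_zero : q ∣ 2 ^ (k : ℕ))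
    subst hn2
    have hn : 2 ≤ n := by
      by_contra hcon
      have : n = 0 ∨ n = 1 := by omega
      rcases this with rfl | rfl <;> norm_num at hq4
    refine Or.inr (Or.inr (Or.inr (Or.inl ⟨F, iF, iFt, n, hn, ?_, ⟨e⟩⟩)))
    rw [hF, ← pow_mul, mul_comm, pow_mul]
    norm_num
  · exact Or.inr (Or.inr (Or.inl h))

theorem tcon (X : Type u) [Group X] [Finite X] [IsSimpleGroup X] (hna : ¬ IsMulCommutative X)
    (P : Sylow 2 X) (B : Subgroup X) (hsc : IsStronglyClosed B (P : Subgroup X)) (hab : ∀ x ∈ B, ∀ y ∈ B, x * y = y * x)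
    (hne : B ≠ ⊥) : Cfsg.Agent.TwoFusion.Gold.TCon X := by
  have h2 : Fact (Nat.Prime 2) := ⟨Nat.prime_two⟩
  have hna' : ∃ a b : X, a * b ≠ b * a := by
    by_contra hcon
    push Not at hcon
    exact hna ⟨⟨hcon⟩⟩
  have hT := Cfsg.Agent.TwoFusion.GoldFinal.tprop
    (fun K _ _ hK => by
      have := hK
      intro T B hB hBT hprop
      exact Cfsg.Agent.S1174.result T B hB hBT hprop) X inferInstance hna'
  -- `Ω₁(B)`
  let Ω : Subgroup X :=
    { carrier := {x | x ∈ B ∧ x ^ 2 = 1}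
      mul_mem' := by
        rintro x y ⟨hx, hx1⟩ ⟨hy, hy1⟩
        refine ⟨mul_mem hx hy, ?_⟩
        rw [(show Commute x y from hab x hx y hy).mul_pow, hx1, hy1, one_mul]
      one_mem' := ⟨one_mem _, one_pow 2⟩
      inv_mem' := by
        rintro x ⟨hx, hx1⟩
        refine ⟨inv_mem hx, ?_⟩
        rw [inv_pow, hx1, inv_one] }
  have hΩ : ∀ x, x ∈ Ω ↔ x ∈ B ∧ x ^ 2 = 1 := fun x => Iff.rfl
  have hΩe : Cfsg.IsElementaryAbelian 2 Ω := by
    refine ⟨⟨⟨fun x y => Subtype.ext (hab _ x.2.1 _ y.2.1)⟩⟩, fun x hx => hx.2⟩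
  have hΩs : IsStronglyClosed Ω (P : Subgroup X) := by
    refine ⟨fun x hx => hsc.1 hx.1, fun x hx g hg => ⟨hsc.2 x hx.1 g hg, ?_⟩⟩
    rw [conj_pow, hx.2, mul_one, mul_inv_cancel]
  have hfam := Cfsg.Agent.SylowL.GoldHypOf.isElemFam P hΩe hΩs
  refine hT _ hfam ?_
  -- an involution of `B`
  have h3 : Nontrivial B := (Subgroup.nontrivial_iff_ne_bot _).2 hne
  have h4 : IsPGroup 2 B := P.2.to_le hsc.1
  obtain ⟨n, hn, hcard⟩ := h4.nontrivial_iff_card.1 h3
  have h5 : 2 ∣ Nat.card B := by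
    rw [hcard]; exact dvd_pow_self 2 hn.ne'
  obtain ⟨x, hx⟩ := exists_prime_orderOf_dvd_card' 2 h5
  refine ⟨x, ⟨1, ?_⟩, ?_⟩
  · have : (x : X) ∈ Ω := (hΩ _).2 ⟨x.2, by
      have := pow_orderOf_eq_one x
      rw [hx] at this
      exact congrArg Subtype.val this⟩
    simpa using this
  · intro h0
    have : x = 1 := Subtype.ext h0
    rw [this, orderOf_one] at hx
    norm_num at hx

theorem zstar (X : Type u) [Group X] [Finite X] [IsSimpleGroup X] (hna : ¬ IsMulCommutative X)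
    (P : Sylow 2 X) (t : X) (ht : t ∈ (P : Subgroup X)) (htt : t * t = 1)
    (hiso : ∀ g : X, g * t * g⁻¹ ∈ (P : Subgroup X) → g * t * g⁻¹ = t) : t = 1 := by
  by_contra h1
  have ho : orderOf t = 2 := orderOf_eq_prime (by rw [pow_two]; exact htt) h1
  obtain ⟨N, hN, hodd, hc⟩ := Cfsg.Agent.S0215.result P t ho ht hiso
  rcases hN.eq_bot_or_eq_top with h0 | h0
  · have hcen : t ∈ center X := by
      rw [mem_center_iff]
      intro g
      have h3 := hc g
      rw [h0, mem_bot] at h3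
      have h4 := mul_inv_eq_one.1 h3
      exact (mul_inv_eq_iff_eq_mul.1 h4).symm
    rcases (inferInstance : (center X).Normal).eq_bot_or_eq_top with h3 | h3
    · rw [h3, mem_bot] at hcen
      exact h1 hcen
    · apply hna
      refine ⟨⟨fun x y => ?_⟩⟩
      have : y ∈ center X := by rw [h3]; trivial
      exact (mem_center_iff.1 this x)
  · rw [h0] at hodd
    have h3 : orderOf t ∣ Nat.card X := orderOf_dvd_natCard t
    rw [ho] at h3
    rw [Subgroup.card_top] at hodd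
    exact (Nat.not_even_iff_odd.2 hodd) (even_iff_two_dvd.2 h3)

theorem inp : Inp2.{u} where
  comm := Cfsg.Agent.ClosedTwo.comm
  e2 := Cfsg.Agent.FooteExc.e2
  e3 := Cfsg.Agent.FooteExc.e3
  row := fun X _ _ _ hna => row X hna
  inv := fun X _ _ _ hna P B hsc hab hne x hx hxx s hs => (tcon X hna P B hsc hab hne).central P x hx hxx s hs
  zstar := fun X _ _ _ hna P t ht htt hiso => zstar X hna P t ht htt hiso
  gold := by
    intro X _ _ _ hna P B hsc hab hne
    have hP : B = (P : Subgroup X) → IsGoldschmidtGroup X := by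
      intro h0
      exact Cfsg.Agent.H211.GoldList.of_abelian hna P ⟨⟨fun x y => Subtype.ext (hab _ (h0 ▸ x.2) _ (h0 ▸ y.2))⟩⟩
    rcases row X hna with hr | ⟨hr, hex⟩
    · rcases hr P B hsc with h1 | h1
      · exact absurd h1 hne
      · exact hP h1
    · exact exc_gold hex

end Cfsg.Agent.H184.GoldInp
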