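import Mathlib
import Cfsg.Prelude.Def_PLocal
import Cfsg.Prelude.Def_Amalgam
import Cfsg.Prelude.Def_ConjugacyFunctors
import Cfsg.Agent.S0649
import Cfsg.Agent.S0650
import Cfsg.Agent.PLocal.ThompsonJA
import Cfsg.Agent.Lib.Cores

/-!
# Thompson's replacement theorem for abelian subgroups of largest order, all primes (helper184)

* `exists_replacement` : `A` an abelian subgroup of largest order of the `p`-group `S`, `V` an abelian subgroup
  normalised by `S`, `V` not in `N(A)`: there is `A'` of largest order with `A ∩ V < A' ∩ V` and `A' ≤ N(A)`;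
* `exists_quadratic` : if `J(P)` is not normal then some `g ∈ P` outside `O_p(H)` satisfies `[Z(O_p(H)), g, g] = 1`;
* `isConjugacyFunctor`, `center_le` : the abelian version of the Thompson subgroup is a conjugacy functor containing
  the centre.
-/

set_option autoImplicit false

universe u

namespace Cfsg.Agent.H184.JQuad

open Cfsg Subgroup
open scoped commutatorElement
open Cfsg.Agent.PLocal.ThompsonJA

variable {G : Type u} [Group G]

theorem exists_replacement [Finite G] {p : ℕ} [Fact p.Prime] {S A V : Subgroup G} (hS : IsPGroup p S)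
    (hA : A ∈ maxAbelianIn S) (hVS : V ≤ S) (hSV : S ≤ normalizer (V : Set G))
    (hVc : ∀ v ∈ V, ∀ w ∈ V, v * w = w * v) (hnot : ¬ V ≤ normalizer (A : Set G)) :
    ∃ A' ∈ maxAbelianIn S, A ⊓ V < A' ⊓ V ∧ A' ≤ normalizer (A : Set G) := by
  obtain ⟨hAS, hAc, hAm⟩ := hA
  have hinj : Function.Injective S.subtype := S.subtype_injective
  have hVn : (V.subgroupOf S).Normal := by
    refine ⟨fun v hv s => ?_⟩
    have h1 := (mem_normalizer_iff.1 (hSV s.2) v).1 hv
    exact h1
  have hVc' : IsMulCommutative ↥(V.subgroupOf S) := by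
    rw [PLocal.ThompsonJA.isMulCommutative_iff]
    intro v hv w hw
    exact Subtype.ext (hVc _ hv _ hw)
  have hVV : ⁅V.subgroupOf S, V.subgroupOf S⁆ = ⊥ := by
    rw [Subgroup.commutator_eq_bot_iff_le_centralizer]
    intro v hv
    rw [mem_centralizer_iff]
    intro w hw
    exact Subtype.ext (hVc _ hw _ hv)
  have hAc' : IsMulCommutative ↥(A.subgroupOf S) := isMulCommutative_comap S.subtype hinj hAc
  have hAmap : (A.subgroupOf S).map S.subtype = A := map_subgroupOf_eq_of_le hAS
  have hVmap : (V.subgroupOf S).map S.subtype = V := map_subgroupOf_eq_of_le hVS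
  have hnorm : ∀ K : Subgroup S, K ≤ normalizer ((A.subgroupOf S : Subgroup S) : Set S) →
      K.map S.subtype ≤ normalizer (A : Set G) := by
    rintro K hK _ ⟨k, hk, rfl⟩
    rw [← hAmap]
    exact Subgroup.le_normalizer_map S.subtype ⟨k, hK hk, rfl⟩
  have hnot' : ¬ V.subgroupOf S ≤ normalizer ((A.subgroupOf S : Subgroup S) : Set S) := by
    intro h
    apply hnot
    rw [← hVmap]
    exact hnorm _ h
  obtain ⟨b, hb, hbN, hbA⟩ := Cfsg.Agent.S0649.result hS (V.subgroupOf S) (fun _ => hVc') (A.subgroupOf S) hAc'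
    (by rw [hVV]; exact bot_le) hnot'
  obtain ⟨h1, h2, -, h4, -, -, h7, -⟩ := Cfsg.Agent.S0650.result hS (V.subgroupOf S) (fun _ => hVc')
    (A.subgroupOf S) hAc' (by rw [hVV]; exact bot_le) hnot' b hb hbN hbA
  obtain ⟨A₁, hA₁⟩ : ∃ A₁ : Subgroup S, A₁ = ((A.subgroupOf S ⊓ (A.subgroupOf S).map
    (MulAut.conj (b⁻¹)).toMonoidHom) ⊔ Subgroup.closure {g : S | ∃ a ∈ A.subgroupOf S, g = a * b⁻¹ * a⁻¹ * b}) :=
    ⟨_, rfl⟩
  rw [← hA₁] at h1 h2 h4 h7
  refine ⟨A₁.map S.subtype, ⟨map_subtype_le _, isMulCommutative_map _ h2, ?_⟩, ?_, hnorm _ h7⟩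
  · intro B hB hBc
    refine (hAm B hB hBc).trans ?_
    rw [card_map_of_injective _ hinj, h1, ← card_map_of_injective S.subtype hinj, hAmap]
  · have h5 := (Subgroup.map_lt_map_iff_of_injective hinj).2 h4
    rw [Subgroup.map_inf _ _ _ hinj, Subgroup.map_inf _ _ _ hinj, hAmap, hVmap] at h5
    exact h5

/-- If `J(P)` is not normal, some element of `P` outside `O_p(H)` acts quadratically on `Z(O_p(H))`. -/
theorem exists_quadratic [Finite G] {p : ℕ} [Fact p.Prime] (P : Sylow p G)
    (hJ : normalizer (thompsonSubgroupAOf (P : Subgroup G) : Set G) ≠ ⊤) :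
    ∃ g ∈ (P : Subgroup G), g ∉ pCore p G ∧
      ⁅⁅pCore p G ⊓ centralizer (pCore p G : Set G), zpowers g⁆, zpowers g⁆ = ⊥ := by
  classical
  have hQn : (pCore p G).Normal := Lib.Cores.pCore_normal p
  have hQP : pCore p G ≤ (P : Subgroup G) := Lib.Cores.pCore_le_sylow P
  obtain ⟨V, hV⟩ : ∃ V : Subgroup G, V = pCore p G ⊓ centralizer (pCore p G : Set G) := ⟨_, rfl⟩
  rw [← hV]
  have hVn : V.Normal := by rw [hV]; infer_instance
  have hVQ : V ≤ pCore p G := by rw [hV]; exact inf_le_left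
  have hVcQ : ∀ v ∈ V, ∀ q ∈ pCore p G, v * q = q * v := by
    intro v hv q hq
    rw [hV] at hv
    exact (mem_centralizer_iff.1 hv.2 q hq).symm
  have hex : ∃ A ∈ maxAbelianIn (P : Subgroup G), ¬ A ≤ pCore p G := by
    by_contra hcon
    push Not at hcon
    apply hJ
    have h1 : thompsonSubgroupAOf (P : Subgroup G) ≤ pCore p G := by
      rw [thompsonSubgroupAOf_eq_sSup]
      exact sSup_le hcon
    rw [← thompsonSubgroupAOf_eq_of_le h1 hQP, eq_top_iff, ← Subgroup.normalizer_eq_top_iff.mpr hQn]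
    exact normalizer_le_normalizer_thompsonSubgroupAOf _
  obtain ⟨A, ⟨hA, hAQ⟩, hmax⟩ := Set.exists_max_image
    {A : Subgroup G | A ∈ maxAbelianIn (P : Subgroup G) ∧ ¬ A ≤ pCore p G}
    (fun A => Nat.card (A ⊓ V : Subgroup G)) (Set.toFinite _) hex
  have hVA : V ≤ normalizer (A : Set G) := by
    by_contra hnot
    obtain ⟨A', hA', hlt, hnA⟩ := exists_replacement P.2 hA (hVQ.trans hQP)
      (by rw [Subgroup.normalizer_eq_top_iff.mpr hVn]; exact le_top)
      (fun v hv w hw => hVcQ v hv w (hVQ hw)) hnot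
    have hA'Q : A' ≤ pCore p G := by
      by_contra hcon
      have h1 := hmax A' ⟨hA', hcon⟩
      have h2 : Nat.card (A ⊓ V : Subgroup G) < Nat.card (A' ⊓ V : Subgroup G) := by
        refine lt_of_le_of_ne (Subgroup.card_le_of_le hlt.le) ?_
        intro he
        exact hlt.ne (Subgroup.eq_of_le_of_card_ge hlt.le he.ge)
      exact absurd h1 (not_le.mpr h2)
    have hVA' : V ≤ A' := by
      refine le_trans ?_ (inf_centralizer_le_of_mem_maxAbelianIn hA')
      refine le_inf (hVQ.trans hQP) ?_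
      intro v hv
      rw [Subgroup.mem_centralizer_iff]
      intro a ha
      exact (hVcQ v hv a (hA'Q ha)).symm
    exact hnot (hVA'.trans hnA)
  obtain ⟨g, hgA, hgQ⟩ := SetLike.not_le_iff_exists.1 hAQ
  refine ⟨g, hA.1 hgA, hgQ, ?_⟩
  have hAc := (PLocal.ThompsonJA.isMulCommutative_iff A).1 hA.2.1
  have hgA' : zpowers g ≤ A := by rw [zpowers_le]; exact hgA
  have h1 : ⁅V, zpowers g⁆ ≤ A := by
    rw [Subgroup.commutator_le]
    intro v hv b hb
    have h2 : v * b * v⁻¹ ∈ A := (mem_normalizer_iff.1 (hVA hv) b).1 (hgA' hb)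
    rw [commutatorElement_def]
    exact A.mul_mem h2 (A.inv_mem (hgA' hb))
  rw [Subgroup.commutator_eq_bot_iff_le_centralizer]
  intro x hx
  rw [Subgroup.mem_centralizer_iff]
  intro y hy
  exact hAc y (hgA' hy) x (h1 hx)

theorem isConjugacyFunctor [Finite G] (p : ℕ) [Fact p.Prime] :
    IsConjugacyFunctor p (fun P : Subgroup G => thompsonSubgroupAOf P) := by
  intro P hP
  refine ⟨thompsonSubgroupAOf_le P, fun hne h0 => ?_, fun g => ?_⟩
  · have h1 : centerThompsonAOf P ≤ ⊥ := by
      rw [← h0]; exact centerThompsonAOf_le_thompsonSubgroupAOf P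
    exact centerThompsonAOf_ne_bot P hP hne (le_bot_iff.1 h1)
  · exact (map_thompsonSubgroupAOf _ (MulAut.conj g).injective P).symm

theorem center_le [Finite G] (P : Subgroup G) :
    P ⊓ centralizer (P : Set G) ≤ thompsonSubgroupAOf P :=
  (inf_centralizer_le_centerThompsonAOf P).trans (centerThompsonAOf_le_thompsonSubgroupAOf P)

end Cfsg.Agent.H184.JQuad
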