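import Cfsg.Agent.H465.OEBase
import Cfsg.Agent.H958.Wt
import Cfsg.Agent.H955.QClass

/-!
# Similitudes acting as scalars on `u^⊥ / u` (task 1681, G2; helper184)
-/

set_option autoImplicit false

namespace Cfsg.Agent.H184.OEScal

open Module QuadraticMap Cfsg.Agent.LieClassical.OrthCore Cfsg.Agent.LieClassical.OrthTrans
  Cfsg.Agent.ClassicalGeometry.OrthAut1 Cfsg.Agent.LieClassical.QuadForms
  Cfsg.Agent.ClassicalGeometry.TrialityOct Cfsg.Agent.ClassicalGeometry.Triality
  Cfsg.Agent.H465.OEight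

variable {F : Type*} [Field F]

theorem q8_apply (v : V8 F) : plusForm 4 F v = v (.inl 0) * v (.inr 0) + v (.inl 1) * v (.inr 1) +
    v (.inl 2) * v (.inr 2) + v (.inl 3) * v (.inr 3) := by
  rw [plusForm_apply, Fin.sum_univ_four]

theorem p8_apply (u v : V8 F) : polar (plusForm 4 F) u v =
    (u (.inl 0) * v (.inr 0) + v (.inl 0) * u (.inr 0)) +
    (u (.inl 1) * v (.inr 1) + v (.inl 1) * u (.inr 1)) +
    (u (.inl 2) * v (.inr 2) + v (.inl 2) * u (.inr 2)) +
    (u (.inl 3) * v (.inr 3) + v (.inl 3) * u (.inr 3)) := by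
  rw [polar_plusForm, Fin.sum_univ_four]

/-- basis vectors -/
def e0 (F : Type*) [Field F] : V8 F := Sum.elim ![1, 0, 0, 0] ![0, 0, 0, 0]

theorem polar_e0 (v : V8 F) : polar (plusForm 4 F) (e0 F) v = v (.inr 0) := by
  rw [p8_apply]
  simp [e0]

/-- the totally singular space `⟨e₀, f₁, f₂ + t e₃, f₃ - t e₂⟩` -/
def Lt (t : F) : (Fin 4 → F) →ₗ[F] V8 F where
  toFun a := Sum.elim ![a 0, 0, -(t * a 3), t * a 2] ![0, a 1, a 2, a 3]
  map_add' a b := by
    ext (i | i) <;> fin_cases i <;> simp [mul_add] <;> ring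
  map_smul' c a := by
    ext (i | i) <;> fin_cases i <;> simp <;> ring

/-- `⟨e₀, e₁, e₂, e₃⟩` -/
def Le : (Fin 4 → F) →ₗ[F] V8 F where
  toFun a := Sum.elim ![a 0, a 1, a 2, a 3] ![0, 0, 0, 0]
  map_add' a b := by
    ext (i | i) <;> fin_cases i <;> simp
  map_smul' c a := by
    ext (i | i) <;> fin_cases i <;> simp

/-- `⟨e₀, e₁, f₂, f₃⟩` -/
def Lg : (Fin 4 → F) →ₗ[F] V8 F where
  toFun a := Sum.elim ![a 0, a 1, 0, 0] ![0, 0, a 2, a 3]
  map_add' a b := by
    ext (i | i) <;> fin_cases i <;> simp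
  map_smul' c a := by
    ext (i | i) <;> fin_cases i <;> simp

/-- `⟨e₀, e₁, e₂, e₃, f₁⟩` -/
def L5 : (Fin 5 → F) →ₗ[F] V8 F where
  toFun a := Sum.elim ![a 0, a 1, a 2, a 3] ![0, a 4, 0, 0]
  map_add' a b := by
    ext (i | i) <;> fin_cases i <;> simp
  map_smul' c a := by
    ext (i | i) <;> fin_cases i <;> simp

/-- `⟨e₀, e₁⟩` -/
def L2 : (Fin 2 → F) →ₗ[F] V8 F where
  toFun a := Sum.elim ![a 0, a 1, 0, 0] ![0, 0, 0, 0]
  map_add' a b := by
    ext (i | i) <;> fin_cases i <;> simp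
  map_smul' c a := by
    ext (i | i) <;> fin_cases i <;> simp

theorem Lt_apply (t : F) (a : Fin 4 → F) :
    Lt t a = Sum.elim ![a 0, 0, -(t * a 3), t * a 2] ![0, a 1, a 2, a 3] := rfl

theorem Le_apply (a : Fin 4 → F) : Le a = Sum.elim ![a 0, a 1, a 2, a 3] ![0, 0, 0, 0] := rfl

theorem Lg_apply (a : Fin 4 → F) : Lg a = Sum.elim ![a 0, a 1, 0, 0] ![0, 0, a 2, a 3] := rfl

theorem L5_apply (a : Fin 5 → F) : L5 a = Sum.elim ![a 0, a 1, a 2, a 3] ![0, a 4, 0, 0] := rfl

theorem L2_apply (a : Fin 2 → F) : L2 a = Sum.elim ![a 0, a 1, 0, 0] ![0, 0, 0, 0] := rfl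

theorem Lt_inj (t : F) : Function.Injective (Lt t) := by
  rw [injective_iff_map_eq_zero]
  intro a ha
  have h0 := congrFun ha (.inl 0)
  have h1 := congrFun ha (.inr 1)
  have h2 := congrFun ha (.inr 2)
  have h3 := congrFun ha (.inr 3)
  rw [Lt_apply] at h0 h1 h2 h3
  ext i
  fin_cases i
  · simpa using h0
  · simpa using h1
  · simpa using h2
  · simpa using h3

theorem Le_inj : Function.Injective (Le (F := F)) := by
  rw [injective_iff_map_eq_zero]
  intro a ha
  have h0 := congrFun ha (.inl 0)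
  have h1 := congrFun ha (.inl 1)
  have h2 := congrFun ha (.inl 2)
  have h3 := congrFun ha (.inl 3)
  rw [Le_apply] at h0 h1 h2 h3
  ext i
  fin_cases i
  · simpa using h0
  · simpa using h1
  · simpa using h2
  · simpa using h3

theorem Lg_inj : Function.Injective (Lg (F := F)) := by
  rw [injective_iff_map_eq_zero]
  intro a ha
  have h0 := congrFun ha (.inl 0)
  have h1 := congrFun ha (.inl 1)
  have h2 := congrFun ha (.inr 2)
  have h3 := congrFun ha (.inr 3)
  rw [Lg_apply] at h0 h1 h2 h3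
  ext i
  fin_cases i
  · simpa using h0
  · simpa using h1
  · simpa using h2
  · simpa using h3

theorem L5_inj : Function.Injective (L5 (F := F)) := by
  rw [injective_iff_map_eq_zero]
  intro a ha
  have h0 := congrFun ha (.inl 0)
  have h1 := congrFun ha (.inl 1)
  have h2 := congrFun ha (.inl 2)
  have h3 := congrFun ha (.inl 3)
  have h4 := congrFun ha (.inr 1)
  rw [L5_apply] at h0 h1 h2 h3 h4
  ext i
  fin_cases i
  · simpa using h0
  · simpa using h1
  · simpa using h2
  · simpa using h3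
  · simpa using h4

theorem L2_inj : Function.Injective (L2 (F := F)) := by
  rw [injective_iff_map_eq_zero]
  intro a ha
  have h0 := congrFun ha (.inl 0)
  have h1 := congrFun ha (.inl 1)
  rw [L2_apply] at h0 h1
  ext i
  fin_cases i
  · simpa using h0
  · simpa using h1

/-- images of ranges are totally singular -/
theorem ts_im {T : V8 F ≃ₗ[F] V8 F} (hT : T ∈ O (plusForm 4 F)) {L : (Fin 4 → F) →ₗ[F] V8 F}
    (hL : ∀ a, plusForm 4 F (L a) = 0) : TS (plusForm 4 F) (im T (LinearMap.range L)) := by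
  rintro _ ⟨_, ⟨a, rfl⟩, rfl⟩
  exact (hT _).trans (hL a)

theorem finrank_im {T : V8 F ≃ₗ[F] V8 F} {L : (Fin 4 → F) →ₗ[F] V8 F} (hL : Function.Injective L) :
    finrank F (im T (LinearMap.range L)) = 4 := by
  have h1 : finrank F (im T (LinearMap.range L)) = finrank F (LinearMap.range L) :=
    LinearEquiv.finrank_map_eq T _
  rw [h1, LinearMap.finrank_range_of_inj hL, Module.finrank_fin_fun]

theorem Lt_ts (t : F) (a : Fin 4 → F) : plusForm 4 F (Lt t a) = 0 := by
  rw [q8_apply, Lt_apply]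
  simp
  ring

theorem Le_ts (a : Fin 4 → F) : plusForm 4 F (Le a) = 0 := by
  rw [q8_apply, Le_apply]
  simp

theorem Lg_ts (a : Fin 4 → F) : plusForm 4 F (Lg a) = 0 := by
  rw [q8_apply, Lg_apply]
  simp

theorem fin8 : finrank F (V8 F) = 8 := by
  rw [Module.finrank_fintype_fun_eq_card]
  rfl

/-- a singular vector orthogonal to a totally singular 4-space lies in it -/
theorem mem_of_perp {X : Submodule F (V8 F)} (hX : TS (plusForm 4 F) X) (h4 : finrank F X = 4)
    {x : V8 F} (hp : ∀ w ∈ X, polar (plusForm 4 F) w x = 0) : x ∈ X := by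
  have h1 : X ≤ H955.perp (plusForm 4 F) X := by
    intro v hv w hw
    exact hX.polar hw hv
  have h2 : finrank F X + finrank F (H955.perp (plusForm 4 F) X) = 8 :=
    (H955.finrank_add_perp (nondeg8 (F := F)) X).trans fin8
  have h2' : finrank F (H955.perp (plusForm 4 F) X) ≤ finrank F X := by omega
  have h3 : X = H955.perp (plusForm 4 F) X := Submodule.eq_of_le_of_finrank_le h1 h2'
  rw [h3]
  exact hp

/-- the adapted frame for `u ∈ X` and `x ∉ X` -/
theorem exists_frame {X : Submodule F (V8 F)} (hX : TS (plusForm 4 F) X) (h4 : finrank F X = 4)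
    {u x : V8 F} (hu0 : u ≠ 0) (huX : u ∈ X) (hxX : x ∉ X) (hx : plusForm 4 F x = 0)
    (hux : polar (plusForm 4 F) u x = 0) :
    ∃ T ∈ O (plusForm 4 F), (∀ c, T (Le ![c, 0, 0, 0]) = c • u) ∧
      im T (LinearMap.range Le) = X ∧ T (L5 ![0, 0, 0, 0, 1]) = x := by
  set Q := plusForm 4 F with hQ
  -- `v₁`
  obtain ⟨v, hvX, hv⟩ : ∃ v ∈ X, polar Q v x ≠ 0 := by
    by_contra hcon
    push Not at hcon
    exact hxX (mem_of_perp hX h4 hcon)
  obtain ⟨v1, hv1X, hv1x⟩ : ∃ v1 ∈ X, polar Q v1 x = 1 := by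
    refine ⟨(polar Q v x)⁻¹ • v, X.smul_mem _ hvX, ?_⟩
    rw [polar_smul_left, smul_eq_mul, inv_mul_cancel₀ hv]
  -- the hyperplane `K` of `X`
  set K : Submodule F (V8 F) := X ⊓ H955.perp Q (Submodule.span F {x}) with hK
  have hKx : ∀ w ∈ K, polar Q w x = 0 := fun w hw => by
    have := hw.2 x (Submodule.mem_span_singleton_self x)
    rwa [polar_comm] at this
  have hx0 : x ≠ 0 := fun h => hxX (h ▸ X.zero_mem)
  have hK3 : 3 ≤ finrank F K := by
    have h5 : finrank F ↥(X ⊔ H955.perp Q (Submodule.span F {x})) + finrank F K =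
        finrank F X + finrank F (H955.perp Q (Submodule.span F {x})) :=
      Submodule.finrank_sup_add_finrank_inf_eq X (H955.perp Q (Submodule.span F {x}))
    have h6 : finrank F (Submodule.span F {x}) + finrank F (H955.perp Q (Submodule.span F {x})) = 8 :=
      (H955.finrank_add_perp (nondeg8 (F := F)) (Submodule.span F {x})).trans fin8
    have h6' : finrank F (Submodule.span F {x}) = 1 := finrank_span_singleton hx0
    have h7 : finrank F ↥(X ⊔ H955.perp Q (Submodule.span F {x})) ≤ 8 :=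
      (Submodule.finrank_le _).trans_eq fin8
    omega
  -- `v₂`
  obtain ⟨v2, hv2K, hv2⟩ : ∃ v2 ∈ K, v2 ∉ Submodule.span F {u} := by
    by_contra hcon
    push Not at hcon
    have h5 : finrank F K ≤ finrank F (Submodule.span F {u}) :=
      Submodule.finrank_mono (fun w hw => hcon w hw)
    rw [finrank_span_singleton hu0] at h5
    omega
  obtain ⟨v3, hv3K, hv3⟩ : ∃ v3 ∈ K, v3 ∉ Submodule.span F {u, v2} := by
    by_contra hcon
    push Not at hcon
    have h5 : finrank F K ≤ finrank F (Submodule.span F {u, v2}) :=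
      Submodule.finrank_mono (fun w hw => hcon w hw)
    have h6 : finrank F (Submodule.span F ({u, v2} : Set (V8 F))) ≤ 2 := by
      classical
      refine (finrank_span_le_card ({u, v2} : Set (V8 F))).trans ?_
      rw [Set.toFinset_insert, Set.toFinset_singleton]
      exact Finset.card_le_two
    omega
  let f' : (Fin 5 → F) →ₗ[F] V8 F :=
    { toFun := fun a => a 0 • u + a 1 • v1 + a 2 • v2 + a 3 • v3 + a 4 • x
      map_add' := fun a b => by
        simp only [Pi.add_apply, add_smul]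
        abel
      map_smul' := fun c a => by
        simp only [Pi.smul_apply, smul_eq_mul, mul_smul, smul_add, RingHom.id_apply] }
  have hf' : ∀ a, f' a = a 0 • u + a 1 • v1 + a 2 • v2 + a 3 • v3 + a 4 • x := fun _ => rfl
  have hs : ∀ a : Fin 5 → F, a 0 • u + a 1 • v1 + a 2 • v2 + a 3 • v3 ∈ X := fun a =>
    X.add_mem (X.add_mem (X.add_mem (X.smul_mem _ huX) (X.smul_mem _ hv1X))
      (X.smul_mem _ hv2K.1)) (X.smul_mem _ hv3K.1)
  have hsx : ∀ a : Fin 5 → F, polar Q (a 0 • u + a 1 • v1 + a 2 • v2 + a 3 • v3) x = a 1 := by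
    intro a
    rw [polar_add_left, polar_add_left, polar_add_left, polar_smul_left, polar_smul_left,
      polar_smul_left, polar_smul_left, hux, hv1x, hKx v2 hv2K, hKx v3 hv3K]
    simp
  have hinj : Function.Injective f' := by
    rw [injective_iff_map_eq_zero]
    intro a ha
    rw [hf'] at ha
    -- the coefficient of `x`
    have h5 : a 4 = 0 := by
      have h6 : polar Q v1 (a 0 • u + a 1 • v1 + a 2 • v2 + a 3 • v3 + a 4 • x) = 0 := by
        rw [ha]; exact polar_zero_right _ _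
      rw [polar_add_right, hX.polar hv1X (hs a), polar_smul_right, hv1x] at h6
      simpa using h6
    rw [h5, zero_smul, add_zero] at ha
    have h1 : a 1 = 0 := by
      rw [← hsx a, ha]
      exact polar_zero_left _ _
    rw [h1, zero_smul, add_zero] at ha
    have h3 : a 3 = 0 := by
      by_contra hne
      apply hv3
      have h6 : v3 = (-(a 3)⁻¹ * a 0) • u + (-(a 3)⁻¹ * a 2) • v2 := by
        have h7 : v3 = (a 3)⁻¹ • (a 3 • v3) := by rw [smul_smul, inv_mul_cancel₀ hne, one_smul]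
        have h8 : a 3 • v3 = -(a 0 • u + a 2 • v2) := by
          rw [eq_neg_iff_add_eq_zero, add_comm]
          exact ha
        rw [h7, h8]
        module
      rw [h6]
      exact Submodule.add_mem _ (Submodule.smul_mem _ _ (Submodule.subset_span (by simp)))
        (Submodule.smul_mem _ _ (Submodule.subset_span (by simp)))
    rw [h3, zero_smul, add_zero] at ha
    have h2 : a 2 = 0 := by
      by_contra hne
      apply hv2
      have h6 : v2 = (-(a 2)⁻¹ * a 0) • u := by
        have h7 : v2 = (a 2)⁻¹ • (a 2 • v2) := by rw [smul_smul, inv_mul_cancel₀ hne, one_smul]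
        have h8 : a 2 • v2 = -(a 0 • u) := by
          rw [eq_neg_iff_add_eq_zero, add_comm]
          exact ha
        rw [h7, h8]
        module
      rw [h6]
      exact Submodule.smul_mem _ _ (Submodule.mem_span_singleton_self u)
    rw [h2, zero_smul, add_zero] at ha
    have h0 : a 0 = 0 := (smul_eq_zero.1 ha).resolve_right hu0
    ext i
    fin_cases i
    · exact h0
    · exact h1
    · exact h2
    · exact h3
    · exact h5
  obtain ⟨T, hT, hTf⟩ := H958.witt_maps (nondeg8 (F := F)) L5 f' L5_inj hinj (by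
    intro a
    have e1 : plusForm 4 F (f' a) = a 1 * a 4 := by
      change Q (f' a) = _
      rw [hf', Q_add, hX _ (hs a), QuadraticMap.map_smul, hx, polar_smul_right, hsx]
      simp [mul_comm]
    have e2 : plusForm 4 F (L5 a) = a 1 * a 4 := by
      rw [q8_apply, L5_apply]
      simp
    rw [e1, e2])
  refine ⟨T, hT, ?_, ?_, ?_⟩
  · intro c
    have e : Le ![c, 0, 0, 0] = L5 ![c, 0, 0, 0, 0] := rfl
    rw [e, hTf, hf']
    simp
  · refine Submodule.eq_of_le_of_finrank_le ?_ (by rw [finrank_im Le_inj, h4])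
    rintro _ ⟨_, ⟨a, rfl⟩, rfl⟩
    have e : Le a = L5 ![a 0, a 1, a 2, a 3, 0] := rfl
    change T (Le a) ∈ X
    rw [e, hTf]
    have h5 := hs ![a 0, a 1, a 2, a 3, 0]
    have h6 : f' ![a 0, a 1, a 2, a 3, 0] = (![a 0, a 1, a 2, a 3, 0] : Fin 5 → F) 0 • u +
        (![a 0, a 1, a 2, a 3, 0] : Fin 5 → F) 1 • v1 +
        (![a 0, a 1, a 2, a 3, 0] : Fin 5 → F) 2 • v2 +
        (![a 0, a 1, a 2, a 3, 0] : Fin 5 → F) 3 • v3 := by
      rw [hf']
      have h7 : (![a 0, a 1, a 2, a 3, 0] : Fin 5 → F) 4 = 0 := rfl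
      rw [h7, zero_smul, add_zero]
    rw [h6]
    exact h5
  · rw [hTf, hf']
    simp

theorem sim_ts {b : V8 F ≃ₗ[F] V8 F} (hb : Sim b) {X : Submodule F (V8 F)}
    (hX : TS (plusForm 4 F) X) : TS (plusForm 4 F) (im b X) := by
  obtain ⟨c, -, hc⟩ := hb
  rintro _ ⟨v, hv, rfl⟩
  change plusForm 4 F (b v) = 0
  rw [hc, hX v hv, mul_zero]

theorem mem_im_iff {b : V8 F ≃ₗ[F] V8 F} {X : Submodule F (V8 F)} {v : V8 F} :
    b v ∈ im b X ↔ v ∈ X := by
  constructor
  · rintro ⟨w, hw, h⟩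
    have : w = v := b.injective h
    rwa [← this]
  · intro h
    exact ⟨v, h, rfl⟩

theorem im_inf {b : V8 F ≃ₗ[F] V8 F} {X Y : Submodule F (V8 F)} :
    im b (X ⊓ Y) = im b X ⊓ im b Y :=
  Submodule.map_inf _ b.injective

section Main

variable {b : V8 F ≃ₗ[F] V8 F} {u : V8 F}

/-- all totally singular 4-spaces through `u` are fixed -/
theorem fix4 (hb : Sim b) (hu0 : u ≠ 0)
    (hbu : im b (Submodule.span F {u}) = Submodule.span F {u})
    (h : ∀ X X' : Submodule F (V8 F), TS (plusForm 4 F) X → TS (plusForm 4 F) X' →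
      finrank F X = 4 → finrank F X' = 4 → X ⊓ X' = Submodule.span F {u} →
      im b X = X ∨ im b X' = X' ∨ (im b X = X' ∧ im b X' = X))
    {X : Submodule F (V8 F)} (hX : TS (plusForm 4 F) X) (h4 : finrank F X = 4) (huX : u ∈ X) :
    im b X = X := by
  by_contra hne
  have hbX4 : finrank F (im b X) = 4 := (LinearEquiv.finrank_map_eq b X).trans h4
  obtain ⟨x, hxb, hxX⟩ : ∃ x ∈ im b X, x ∉ X := by
    by_contra hcon
    push Not at hcon
    exact hne (Submodule.eq_of_le_of_finrank_le (fun w hw => hcon w hw) (by rw [h4, hbX4]))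
  have hbX := sim_ts hb hX
  have hub : u ∈ im b X := by
    have h1 : u ∈ im b (Submodule.span F {u}) := by
      rw [hbu]
      exact Submodule.mem_span_singleton_self u
    exact Submodule.map_mono (by rwa [Submodule.span_singleton_le_iff_mem]) h1
  obtain ⟨T, hT, hT0, hTX, hTx⟩ := exists_frame hX h4 hu0 huX hxX (hbX x hxb) (hbX.polar hub hxb)
  -- the spaces `X'_t`
  have key : ∀ t : F, im b X = im T (LinearMap.range (Lt t)) := by
    intro t
    have h1 : X ⊓ im T (LinearMap.range (Lt t)) = Submodule.span F {u} := by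
      apply le_antisymm
      · rintro w ⟨hw1, hw2⟩
        rw [← hTX] at hw1
        obtain ⟨_, ⟨a, rfl⟩, ha⟩ := hw1
        obtain ⟨_, ⟨c, rfl⟩, hc⟩ := hw2
        have h2 : Le a = Lt t c := T.injective (ha.trans hc.symm)
        have e1 := congrFun h2 (.inr 1)
        have e2 := congrFun h2 (.inr 2)
        have e3 := congrFun h2 (.inr 3)
        have e4 := congrFun h2 (.inl 1)
        have e5 := congrFun h2 (.inl 2)
        have e6 := congrFun h2 (.inl 3)
        simp only [Le_apply, Lt_apply, Sum.elim_inl, Sum.elim_inr, Matrix.cons_val] at e1 e2 e3 e4 e5 e6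
        rw [← e3, mul_zero, neg_zero] at e5
        rw [← e2, mul_zero] at e6
        have h3 : Le a = Le ![a 0, 0, 0, 0] := by
          rw [Le_apply, Le_apply, e4, e5, e6]
          rfl
        rw [← ha, h3]
        change T (Le ![a 0, 0, 0, 0]) ∈ _
        rw [hT0]
        exact Submodule.smul_mem _ _ (Submodule.mem_span_singleton_self u)
      · rw [Submodule.span_singleton_le_iff_mem]
        refine ⟨huX, ⟨Lt t ![1, 0, 0, 0], ⟨_, rfl⟩, ?_⟩⟩
        have h2 : Lt t ![1, 0, 0, 0] = Le ![1, 0, 0, 0] := by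
          rw [Lt_apply, Le_apply]
          simp
        change T (Lt t ![1, 0, 0, 0]) = u
        rw [h2, hT0, one_smul]
    rcases h X (im T (LinearMap.range (Lt t))) hX (ts_im hT (Lt_ts t)) h4 (finrank_im (Lt_inj t)) h1
      with h2 | h2 | h2
    · exact absurd h2 hne
    · exfalso
      have hxt : x ∈ im T (LinearMap.range (Lt t)) := by
        refine ⟨Lt t ![0, 1, 0, 0], ⟨_, rfl⟩, ?_⟩
        have h3 : Lt t ![0, 1, 0, 0] = L5 ![0, 0, 0, 0, 1] := by
          rw [Lt_apply, L5_apply]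
          simp
        change T (Lt t ![0, 1, 0, 0]) = x
        rw [h3, hTx]
      rw [← h2] at hxt
      have h4 : x ∈ im b (X ⊓ im T (LinearMap.range (Lt t))) := by
        rw [im_inf]
        exact ⟨hxb, hxt⟩
      rw [h1, hbu] at h4
      exact hxX ((Submodule.span_singleton_le_iff_mem u X).2 huX h4)
    · exact h2.1
  have h1 := (key 0).symm.trans (key 1)
  have h2 : T (Lt (1 : F) ![0, 0, 1, 0]) ∈ im T (LinearMap.range (Lt (0 : F))) := by
    rw [h1]
    exact ⟨_, ⟨_, rfl⟩, rfl⟩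
  rw [mem_im_iff] at h2
  obtain ⟨a, ha⟩ := h2
  have h3 := congrFun ha (.inl 3)
  simp only [Lt_apply, Sum.elim_inl, Matrix.cons_val] at h3
  simp at h3

/-- singular vectors orthogonal to `u` -/
theorem fixline (hb : Sim b) (hu : plusForm 4 F u = 0) (hu0 : u ≠ 0)
    (hbu : im b (Submodule.span F {u}) = Submodule.span F {u})
    (h : ∀ X X' : Submodule F (V8 F), TS (plusForm 4 F) X → TS (plusForm 4 F) X' →
      finrank F X = 4 → finrank F X' = 4 → X ⊓ X' = Submodule.span F {u} →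
      im b X = X ∨ im b X' = X' ∨ (im b X = X' ∧ im b X' = X))
    {a : V8 F} (ha : plusForm 4 F a = 0) (hua : polar (plusForm 4 F) u a = 0) :
    ∃ α β : F, b a = α • u + β • a := by
  by_cases hau : a ∈ Submodule.span F {u}
  · have h1 : b a ∈ im b (Submodule.span F {u}) := mem_im_iff.2 hau
    rw [hbu, Submodule.mem_span_singleton] at h1
    obtain ⟨α, hα⟩ := h1
    exact ⟨α, 0, by rw [zero_smul, add_zero, hα]⟩
  let f' : (Fin 2 → F) →ₗ[F] V8 F :=
    { toFun := fun c => c 0 • u + c 1 • a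
      map_add' := fun c d => by
        simp only [Pi.add_apply, add_smul]
        abel
      map_smul' := fun c d => by
        simp only [Pi.smul_apply, smul_eq_mul, mul_smul, smul_add, RingHom.id_apply] }
  have hf' : ∀ c, f' c = c 0 • u + c 1 • a := fun _ => rfl
  have hinj : Function.Injective f' := by
    rw [injective_iff_map_eq_zero]
    intro c hc
    rw [hf'] at hc
    have h1 : c 1 = 0 := by
      by_contra hne
      apply hau
      have h6 : a = (-(c 1)⁻¹ * c 0) • u := by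
        have h7 : a = (c 1)⁻¹ • (c 1 • a) := by rw [smul_smul, inv_mul_cancel₀ hne, one_smul]
        have h8 : c 1 • a = -(c 0 • u) := by
          rw [eq_neg_iff_add_eq_zero, add_comm]
          exact hc
        rw [h8] at h7
        rw [h7]
        module
      rw [h6]
      exact Submodule.smul_mem _ _ (Submodule.mem_span_singleton_self u)
    rw [h1, zero_smul, add_zero] at hc
    have h0 : c 0 = 0 := (smul_eq_zero.1 hc).resolve_right hu0
    ext i
    fin_cases i
    · exact h0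
    · exact h1
  obtain ⟨T, hT, hTf⟩ := H958.witt_maps (nondeg8 (F := F)) L2 f' L2_inj hinj (by
    intro c
    have e1 : plusForm 4 F (f' c) = 0 := by
      rw [hf', Q_add, QuadraticMap.map_smul, QuadraticMap.map_smul, hu, ha, polar_smul_right,
        polar_smul_left, hua]
      simp
    have e2 : plusForm 4 F (L2 c) = 0 := by
      rw [q8_apply, L2_apply]
      simp
    rw [e1, e2])
  have hT0 : ∀ c d : F, T (L2 ![c, d]) = c • u + d • a := fun c d => by rw [hTf, hf']; rfl
  have hu1 : u ∈ im T (LinearMap.range Le) := by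
    refine ⟨Le ![1, 0, 0, 0], ⟨_, rfl⟩, ?_⟩
    have h2 : Le ![1, 0, 0, 0] = L2 (F := F) ![1, 0] := by
      rw [Le_apply, L2_apply]
      simp
    change T (Le ![1, 0, 0, 0]) = u
    rw [h2, hT0]
    simp
  have hu2 : u ∈ im T (LinearMap.range Lg) := by
    refine ⟨Lg ![1, 0, 0, 0], ⟨_, rfl⟩, ?_⟩
    have h2 : Lg ![1, 0, 0, 0] = L2 (F := F) ![1, 0] := by
      rw [Lg_apply, L2_apply]
      simp
    change T (Lg ![1, 0, 0, 0]) = u
    rw [h2, hT0]
    simp
  have ha1 : a ∈ im T (LinearMap.range Le) := by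
    refine ⟨Le ![0, 1, 0, 0], ⟨_, rfl⟩, ?_⟩
    have h2 : Le ![0, 1, 0, 0] = L2 (F := F) ![0, 1] := by
      rw [Le_apply, L2_apply]
      simp
    change T (Le ![0, 1, 0, 0]) = a
    rw [h2, hT0]
    simp
  have ha2 : a ∈ im T (LinearMap.range Lg) := by
    refine ⟨Lg ![0, 1, 0, 0], ⟨_, rfl⟩, ?_⟩
    have h2 : Lg ![0, 1, 0, 0] = L2 (F := F) ![0, 1] := by
      rw [Lg_apply, L2_apply]
      simp
    change T (Lg ![0, 1, 0, 0]) = a
    rw [h2, hT0]
    simp
  have k1 := fix4 hb hu0 hbu h (ts_im hT Le_ts) (finrank_im Le_inj) hu1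
  have k2 := fix4 hb hu0 hbu h (ts_im hT Lg_ts) (finrank_im Lg_inj) hu2
  have m1 : b a ∈ im T (LinearMap.range Le) := by rw [← k1]; exact mem_im_iff.2 ha1
  have m2 : b a ∈ im T (LinearMap.range Lg) := by rw [← k2]; exact mem_im_iff.2 ha2
  obtain ⟨_, ⟨c, rfl⟩, hc⟩ := m1
  obtain ⟨_, ⟨d, rfl⟩, hd⟩ := m2
  have h2 : Le c = Lg d := T.injective (hc.trans hd.symm)
  have e2 := congrFun h2 (.inl 2)
  have e3 := congrFun h2 (.inl 3)
  simp only [Le_apply, Lg_apply, Sum.elim_inl, Matrix.cons_val] at e2 e3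
  have h3 : Le c = L2 ![c 0, c 1] := by
    rw [Le_apply, L2_apply, e2, e3]
    rfl
  refine ⟨c 0, c 1, ?_⟩
  rw [← hc, h3, ← hT0]
  rfl

end Main

/-- coordinate vectors -/
def sv (i : Fin 4 ⊕ Fin 4) : V8 F := Pi.single i 1

theorem sv_same (i : Fin 4 ⊕ Fin 4) : (sv i : V8 F) i = 1 := Pi.single_eq_same i 1

theorem sv_ne {i j : Fin 4 ⊕ Fin 4} (h : j ≠ i) : (sv i : V8 F) j = 0 := Pi.single_eq_of_ne h 1

theorem sv_zero : (sv (.inl 0) : V8 F) = e0 F := by
  ext (i | i) <;> fin_cases i <;> simp [sv, e0]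

theorem pair_eq {c : V8 F →ₗ[F] V8 F} (hc : ∀ w : V8 F, plusForm 4 F w = 0 → w (.inr 0) = 0 →
    ∃ α β : F, c w = α • e0 F + β • w) {i j : Fin 4 ⊕ Fin 4} (hij : i ≠ j) (hi : i ≠ .inl 0)
    (hj : j ≠ .inl 0) (hQ : plusForm 4 F (sv i + sv j) = 0) (hi0 : i ≠ .inr 0) (hj0 : j ≠ .inr 0)
    {α β α' β' : F} (h1 : c (sv i) = α • e0 F + β • sv i) (h2 : c (sv j) = α' • e0 F + β' • sv j) :
    β = β' := by
  obtain ⟨x, y, hxy⟩ := hc (sv i + sv j) hQ (by
    rw [Pi.add_apply, sv_ne hi0.symm, sv_ne hj0.symm, add_zero])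
  rw [map_add, h1, h2, ← sv_zero] at hxy
  have k1 := congrFun hxy i
  have k2 := congrFun hxy j
  simp only [Pi.add_apply, Pi.smul_apply, smul_eq_mul, sv_same, sv_ne hij, sv_ne hij.symm,
    sv_ne hi, sv_ne hj] at k1 k2
  have k1' : β = y := by simpa using k1
  have k2' : β' = y := by simpa using k2
  rw [k1', k2']

theorem scalar_std {c : V8 F →ₗ[F] V8 F} (hc : ∀ w : V8 F, plusForm 4 F w = 0 → w (.inr 0) = 0 →
    ∃ α β : F, c w = α • e0 F + β • w) :
    ∃ β : F, ∀ w : V8 F, w (.inr 0) = 0 → ∃ α : F, c w = α • e0 F + β • w := by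
  have hs : ∀ i : Fin 4 ⊕ Fin 4, plusForm 4 F (sv i) = 0 := by
    intro i
    rw [q8_apply]
    rcases i with i | i <;> fin_cases i <;> simp [sv]
  have hbas : ∀ i : Fin 4 ⊕ Fin 4, i ≠ .inr 0 → ∃ α β : F, c (sv i) = α • e0 F + β • sv i :=
    fun i hi => hc (sv i) (hs i) (sv_ne hi.symm)
  obtain ⟨a0, b0, h0⟩ := hbas (.inl 0) (by decide)
  obtain ⟨a1, b1, h1⟩ := hbas (.inl 1) (by decide)
  obtain ⟨a2, b2, h2⟩ := hbas (.inl 2) (by decide)
  obtain ⟨a3, b3, h3⟩ := hbas (.inl 3) (by decide)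
  obtain ⟨a4, b4, h4⟩ := hbas (.inr 1) (by decide)
  obtain ⟨a5, b5, h5⟩ := hbas (.inr 2) (by decide)
  obtain ⟨a6, b6, h6⟩ := hbas (.inr 3) (by decide)
  have q12 : b1 = b2 := pair_eq hc (i := .inl 1) (j := .inl 2) (by decide) (by decide) (by decide)
    (by rw [q8_apply]; simp [sv]) (by decide) (by decide) h1 h2
  have q23 : b2 = b3 := pair_eq hc (i := .inl 2) (j := .inl 3) (by decide) (by decide) (by decide)
    (by rw [q8_apply]; simp [sv]) (by decide) (by decide) h2 h3
  have q15 : b1 = b5 := pair_eq hc (i := .inl 1) (j := .inr 2) (by decide) (by decide) (by decide)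
    (by rw [q8_apply]; simp [sv]) (by decide) (by decide) h1 h5
  have q16 : b1 = b6 := pair_eq hc (i := .inl 1) (j := .inr 3) (by decide) (by decide) (by decide)
    (by rw [q8_apply]; simp [sv]) (by decide) (by decide) h1 h6
  have q24 : b2 = b4 := pair_eq hc (i := .inl 2) (j := .inr 1) (by decide) (by decide) (by decide)
    (by rw [q8_apply]; simp [sv]) (by decide) (by decide) h2 h4
  subst q12
  subst q23
  subst q15
  subst q16
  subst q24
  rw [sv_zero] at h0
  refine ⟨b1, fun w hw => ?_⟩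
  have hw' : w = w (.inl 0) • e0 F + w (.inl 1) • sv (.inl 1) + w (.inl 2) • sv (.inl 2) +
      w (.inl 3) • sv (.inl 3) + w (.inr 1) • sv (.inr 1) + w (.inr 2) • sv (.inr 2) +
      w (.inr 3) • sv (.inr 3) := by
    rw [← sv_zero]
    ext (i | i) <;> fin_cases i <;> simp [sv, hw]
  refine ⟨w (.inl 0) * (a0 + b0) + w (.inl 1) * a1 + w (.inl 2) * a2 + w (.inl 3) * a3 +
    w (.inr 1) * a4 + w (.inr 2) * a5 + w (.inr 3) * a6 - b1 * w (.inl 0), ?_⟩
  have hcw : c w = w (.inl 0) • c (e0 F) + w (.inl 1) • c (sv (.inl 1)) +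
      w (.inl 2) • c (sv (.inl 2)) + w (.inl 3) • c (sv (.inl 3)) + w (.inr 1) • c (sv (.inr 1)) +
      w (.inr 2) • c (sv (.inr 2)) + w (.inr 3) • c (sv (.inr 3)) := by
    conv_lhs => rw [hw']
    simp only [map_add, map_smul]
  rw [hcw, h0, h1, h2, h3, h4, h5, h6]
  have hbw : b1 • w = b1 • (w (.inl 0) • e0 F + w (.inl 1) • sv (.inl 1) +
      w (.inl 2) • sv (.inl 2) + w (.inl 3) • sv (.inl 3) + w (.inr 1) • sv (.inr 1) +
      w (.inr 2) • sv (.inr 2) + w (.inr 3) • sv (.inr 3)) := by rw [← hw']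
  rw [hbw]
  module

/-- **Task G2.** -/
theorem scalar_mod [Fintype F] {b : V8 F ≃ₗ[F] V8 F} (hb : Sim b) {u : V8 F}
    (hu : plusForm 4 F u = 0) (hu0 : u ≠ 0)
    (hbu : im b (Submodule.span F {u}) = Submodule.span F {u})
    (h : ∀ X X' : Submodule F (V8 F), TS (plusForm 4 F) X → TS (plusForm 4 F) X' →
      finrank F X = 4 → finrank F X' = 4 → X ⊓ X' = Submodule.span F {u} →
      im b X = X ∨ im b X' = X' ∨ (im b X = X' ∧ im b X' = X)) :
    ∃ β : F, ∀ a : V8 F, polar (plusForm 4 F) u a = 0 →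
      b a - β • a ∈ Submodule.span F {u} := by
  -- an isometry mapping `e₀` to `u`
  obtain ⟨T, hT, hTf⟩ := H958.witt_maps (nondeg8 (F := F)) (LinearMap.toSpanSingleton F (V8 F) (e0 F))
    (LinearMap.toSpanSingleton F (V8 F) u) (by
      rw [injective_iff_map_eq_zero]
      intro c hc
      have h1 := congrFun hc (.inl 0)
      simpa [e0, LinearMap.toSpanSingleton_apply] using h1) (by
      rw [injective_iff_map_eq_zero]
      intro c hc
      rw [LinearMap.toSpanSingleton_apply] at hc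
      exact (smul_eq_zero.1 hc).resolve_right hu0) (by
      intro c
      rw [LinearMap.toSpanSingleton_apply, LinearMap.toSpanSingleton_apply, QuadraticMap.map_smul,
        QuadraticMap.map_smul, hu]
      have h1 : plusForm 4 F (e0 F) = 0 := by
        rw [q8_apply]
        simp [e0]
      rw [h1])
  have hT0 : T (e0 F) = u := by
    have h1 := hTf 1
    rwa [LinearMap.toSpanSingleton_apply, LinearMap.toSpanSingleton_apply, one_smul, one_smul] at h1
  have hperp : ∀ w : V8 F, polar (plusForm 4 F) u (T w) = w (.inr 0) := by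
    intro w
    rw [← hT0, polar_map hT, polar_e0]
  let c : V8 F →ₗ[F] V8 F := (T.trans (b.trans T.symm)).toLinearMap
  have hc : ∀ w, T (c w) = b (T w) := fun w => T.apply_symm_apply (b (T w))
  obtain ⟨β, hβ⟩ := scalar_std (c := c) (by
    intro w hw hw0
    obtain ⟨α, β, hαβ⟩ := fixline hb hu hu0 hbu h (a := T w) ((hT w).trans hw)
      ((hperp w).trans hw0)
    refine ⟨α, β, T.injective ?_⟩
    rw [hc, hαβ, map_add, map_smul, map_smul, hT0])
  refine ⟨β, fun a ha => ?_⟩
  obtain ⟨w, rfl⟩ := T.surjective a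
  rw [hperp] at ha
  obtain ⟨α, hα⟩ := hβ w ha
  rw [← hc, hα, map_add, map_smul, map_smul, hT0, add_sub_cancel_right]
  exact Submodule.smul_mem _ _ (Submodule.mem_span_singleton_self u)

end Cfsg.Agent.H184.OEScal
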