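import Cfsg.Agent.H509.Weak
import Cfsg.Agent.H830.Con22
import Cfsg.Agent.H816.Quasi
import Cfsg.Agent.OddHalf.D8.Fi22.KTrans
import Cfsg.Agent.KFacts.FiTTh.Has

/-!
# S4095 at the prime 2: bad automorphisms and 3-transpositions, the rows `Fi22`, `Fi23` (helper184)

`sq_fix` : a bad automorphism `a` at 2 of a group with 3-transpositions `E`, rank 3 numbers `k, l, m` with
`max l m < k - 1 - l`, satisfies `a (a d) = d` for `d ∈ E`.
-/

set_option autoImplicit false
set_option linter.unusedSectionVars false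

namespace Cfsg.Agent.H184.ThreeT

open Subgroup Cfsg Cfsg.Agent.H516 Cfsg.Agent.H509.Weak Cfsg.Agent.Fischer480.Defs

universe u

section Gen

variable {L : Type u} [Group L] {a : MulAut L}

/-- a transposition commutes with its image under a bad automorphism -/
theorem comm_image (ha : Bad 2 a) {E : Set L} (hE : ∀ d ∈ E, a d ∈ E) (h2 : ∀ d ∈ E, d * d = 1)
    (h3 : ∀ d ∈ E, ∀ e ∈ E, d * e = e * d ∨ (d * e) ^ 3 = 1) {d : L} (hd : d ∈ E) : a d * d = d * a d := by
  rcases h3 _ (hE d hd) _ hd with h | h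
  · exact h
  · have hi : (a d)⁻¹ = a d := inv_eq_of_mul_eq_one_left (h2 _ (hE d hd))
    rcases ha d with h1 | h1
    · rw [hi] at h1
      have h4 : a d = d⁻¹ := eq_inv_of_mul_eq_one_left h1
      have h5 : d⁻¹ = d := inv_eq_of_mul_eq_one_left (h2 _ hd)
      rw [h4, h5]
    · exfalso
      rw [hi] at h1
      have h4 := h1.trans (orderOf_dvd_of_pow_eq_one h)
      norm_num at h4

/-- `d x d` -/
theorem key (ha : Bad 2 a) {E : Set L} (hE : ∀ d ∈ E, a d ∈ E) (h2 : ∀ d ∈ E, d * d = 1)
    (h3 : ∀ d ∈ E, ∀ e ∈ E, d * e = e * d ∨ (d * e) ^ 3 = 1) (hc : ∀ d ∈ E, ∀ e ∈ E, d * e * d ∈ E)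
    {d x : L} (hd : d ∈ E) (hx : x ∈ E) (hxe : x * a d = a d * x) (hxd : x * d ≠ d * x) : a x * d = d * a x := by
  have h1 := comm_image ha hE h2 h3 hd
  have hy := comm_image ha hE h2 h3 (hc d hd x hx)
  have hx' := comm_image ha hE h2 h3 hx
  have hdd := h2 d hd
  have hxx := h2 x hx
  have hee := h2 _ (hE d hd)
  obtain ⟨e, he⟩ : ∃ e, e = a d := ⟨_, rfl⟩
  obtain ⟨z, hz⟩ : ∃ z, z = a x := ⟨_, rfl⟩
  rw [map_mul, map_mul, ← he, ← hz] at hy
  rw [← he] at h1 hxe hee
  rw [← hz] at hx' ⊢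
  have h5 : x * d * x = d * x * d := by
    rcases h3 x hx d hd with h | h
    · exact absurd h hxd
    · have h6 : x * d * x * (d * x * d) = 1 := by
        rw [← h]
        simp only [pow_succ, pow_zero, one_mul, mul_assoc]
      calc x * d * x = x * d * x * ((d * x * d) * (d * x * d)) := by
            rw [h2 _ (hc d hd x hx), mul_one]
        _ = (x * d * x * (d * x * d)) * (d * x * d) := by group
        _ = d * x * d := by rw [h6, one_mul]
  -- `e` commutes with `y = d x d`
  have hey : e * (d * x * d) = d * x * d * e := by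
    calc e * (d * x * d) = (e * d) * x * d := by group
      _ = d * (e * x) * d := by rw [h1]; group
      _ = d * x * (e * d) := by rw [← hxe]; group
      _ = d * x * d * e := by rw [h1]; group
  -- `z` commutes with `y`
  have hzy : z * (d * x * d) = d * x * d * z := by
    have h6 : e * z * e * (d * x * d) = e * (z * (d * x * d)) * e := by
      calc e * z * e * (d * x * d) = e * z * (e * (d * x * d)) := by group
        _ = e * (z * (d * x * d)) * e := by rw [hey]; group
    have h7 : d * x * d * (e * z * e) = e * (d * x * d * z) * e := by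
      calc d * x * d * (e * z * e) = (d * x * d * e) * z * e := by group
        _ = e * (d * x * d * z) * e := by rw [← hey]; group
    rw [h6, h7] at hy
    exact mul_left_cancel (mul_right_cancel hy)
  -- `d = x y x`
  have h8 : d = x * (d * x * d) * x := by
    calc d = (x * x) * d * (x * x) := by rw [hxx, one_mul, mul_one]
      _ = x * (x * d * x) * x := by group
      _ = x * (d * x * d) * x := by rw [h5]
  calc z * d = z * (x * (d * x * d) * x) := by rw [← h8]
    _ = (z * x) * (d * x * d) * x := by group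
    _ = x * (z * (d * x * d)) * x := by rw [hx']; group
    _ = x * (d * x * d) * (z * x) := by rw [hzy]; group
    _ = (x * (d * x * d) * x) * z := by rw [hx']; group
    _ = d * z := by rw [← h8]

theorem sq_fix [Finite L] (ha : Bad 2 a) {E : Set L} (hE : ∀ d ∈ E, a d ∈ E) (h2 : ∀ d ∈ E, d * d = 1)
    (h3 : ∀ d ∈ E, ∀ e ∈ E, d * e = e * d ∨ (d * e) ^ 3 = 1) (hc : ∀ d ∈ E, ∀ e ∈ E, d * e * d ∈ E)
    {k l m : ℕ} (hk : ∀ x ∈ E, (Loc E x).ncard = k)
    (hl : ∀ x ∈ E, ∀ y ∈ Loc E x, (Loc (Loc E x) y).ncard = l)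
    (hm : ∀ x ∈ E, ∀ y ∈ E, ¬ Commute x y → (Com E x y).ncard = m)
    (h4 : l < k - 1 - l) (h5 : m < k - 1 - l) {d : L} (hd : d ∈ E) : a (a d) = d := by
  by_cases hed : a d = d
  · rw [hed, hed]
  by_contra hne
  have h1 := comm_image ha hE h2 h3 hd
  -- the elements commuting with `a d`, not with `d`
  obtain ⟨A, hA⟩ : ∃ A : Set L, A = {x | x ∈ Loc E (a d) ∧ ¬ x * d = d * x} := ⟨_, rfl⟩
  have hdL : d ∈ Loc E (a d) := ⟨hd, Ne.symm hed, h1⟩
  have hAc : A.ncard = k - 1 - l := by
    have e1 : A = Loc E (a d) \ ({d} ∪ Loc (Loc E (a d)) d) := by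
      ext x
      rw [hA]
      constructor
      · rintro ⟨hx, hn⟩
        refine ⟨hx, ?_⟩
        rintro (rfl | h)
        · exact hn rfl
        · exact hn h.2.2.symm.eq
      · rintro ⟨hx, hn⟩
        refine ⟨hx, fun h => hn ?_⟩
        by_cases hxd : x = d
        · exact Or.inl hxd
        · exact Or.inr ⟨hx, hxd, h.symm⟩
    have e2 : ({d} ∪ Loc (Loc E (a d)) d : Set L).ncard = 1 + l := by
      rw [Set.ncard_union_eq, Set.ncard_singleton, hl _ (hE d hd) _ hdL]
      · rw [Set.disjoint_singleton_left]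
        rintro ⟨-, h, -⟩
        exact h rfl
    rw [e1, Set.ncard_sdiff, e2, hk _ (hE d hd)]
    · omega
    · rintro x (rfl | hx)
      · exact hdL
      · exact hx.1
  -- the images
  have himg : ∀ x ∈ A, a x ∈ E ∧ a x ≠ d ∧ a x ≠ a (a d) ∧ a x * d = d * a x ∧ a x * a (a d) = a (a d) * a x := by
    intro x hx
    rw [hA] at hx
    obtain ⟨⟨hxE, hxe, hxc⟩, hxd⟩ := hx
    have hxc' : x * a d = a d * x := hxc.eq.symm
    refine ⟨hE x hxE, ?_, ?_, key ha hE h2 h3 hc hd hxE hxc' hxd, ?_⟩
    · intro h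
      have h6 := comm_image ha hE h2 h3 hxE
      rw [h] at h6
      exact hxd h6.symm
    · intro h
      exact hxe (a.injective h)
    · rw [← map_mul, ← map_mul, hxc']
  have hinj : Set.InjOn a A := fun x _ y _ h => a.injective h
  have hcard : A.ncard = (a '' A).ncard := hinj.ncard_image.symm
  by_cases hf : d * a (a d) = a (a d) * d
  · have h6 : a '' A ⊆ Loc (Loc E d) (a (a d)) := by
      rintro _ ⟨x, hx, rfl⟩
      obtain ⟨i1, i2, i3, i4, i5⟩ := himg x hx
      exact ⟨⟨i1, i2, i4.symm⟩, i3, i5.symm⟩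
    have h7 := Set.ncard_le_ncard h6
    rw [hl d hd _ ⟨hE _ (hE d hd), hne, hf⟩] at h7
    omega
  · have h6 : a '' A ⊆ Com E d (a (a d)) := by
      rintro _ ⟨x, hx, rfl⟩
      obtain ⟨i1, i2, i3, i4, i5⟩ := himg x hx
      exact ⟨i1, i4.symm, i5.symm⟩
    have h7 := Set.ncard_le_ncard h6
    rw [hm d hd _ (hE _ (hE d hd)) hf] at h7
    omega

theorem row_of_srg [Finite L] (B : Base L) {E : Set L} (hEne : E.Nonempty) (hE : ∀ a : MulAut L, ∀ d ∈ E, a d ∈ E)
    (h2 : ∀ d ∈ E, d * d = 1) (h2' : ∀ d ∈ E, d ≠ 1)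
    (h3 : ∀ d ∈ E, ∀ e ∈ E, d * e = e * d ∨ (d * e) ^ 3 = 1)
    {k l m : ℕ} (hk : ∀ x ∈ E, (Loc E x).ncard = k)
    (hl : ∀ x ∈ E, ∀ y ∈ Loc E x, (Loc (Loc E x) y).ncard = l)
    (hm : ∀ x ∈ E, ∀ y ∈ E, ¬ Commute x y → (Com E x y).ncard = m)
    (h4 : l < k - 1 - l) (h5 : m < k - 1 - l) : Row 2 L := by
  rw [row_iff]
  intro a ha
  by_contra hne
  have W : Wk a := { B with bad := ha, ne := hne }
  have hconj : ∀ g : L, ∀ d ∈ E, g * d * g⁻¹ ∈ E := fun g d hd => hE (MulAut.conj g) d hd
  have hc : ∀ d ∈ E, ∀ e ∈ E, d * e * d ∈ E := by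
    intro d hd e he
    have h := hconj d e he
    rwa [show d⁻¹ = d from inv_eq_of_mul_eq_one_left (h2 _ hd)] at h
  have hs := B.simple
  have hn : (Subgroup.closure E).Normal := by
    refine ⟨fun n hn g => ?_⟩
    have h6 : (Subgroup.closure E).map (MulAut.conj g).toMonoidHom ≤ Subgroup.closure E := by
      rw [MonoidHom.map_closure]
      apply Subgroup.closure_mono
      rintro _ ⟨x, hx, rfl⟩
      exact hconj g x hx
    exact h6 ⟨n, hn, rfl⟩
  have htop : Subgroup.closure E = ⊤ := by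
    rcases hn.eq_bot_or_eq_top with h | h
    · exfalso
      obtain ⟨d, hd⟩ := hEne
      apply h2' d hd
      have h6 := Subgroup.subset_closure hd
      rwa [h, SetLike.mem_coe, mem_bot] at h6
    · exact h
  apply W.sq_ne_one
  have h6 : (a * a).toMonoidHom = MonoidHom.id L := by
    apply MonoidHom.eq_of_eqOn_dense htop
    intro d hd
    exact sq_fix ha (hE a) h2 h3 hc hk hl hm h4 h5 hd
  ext x
  exact DFunLike.congr_fun h6 x

end Gen

/-- **Row `Fi22`** -/
theorem fi22 {L : Type u} [Group L] [Finite L] (h : Spor.IsoFi22 L) (B : Base L) : Row 2 L := by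
  obtain ⟨e⟩ := h
  let E : Set L := {x | e x ∈ R01.Fi22Facts.T}
  have h6 : IsT6 E := Cfsg.Agent.Fischer480.Transport.isT6 (H816.Quasi.cIso_map e fun x => Iff.rfl) H830.Con22.isT6
  have kt := OddHalf.D8.Fi22.kTrans0
  have hne : E.Nonempty := by
    have : 0 < E.ncard := by rw [h6.1]; norm_num
    exact Set.nonempty_of_ncard_ne_zero this.ne'
  refine row_of_srg B (E := E) hne ?_ ?_ ?_ ?_ (k := 693) (l := 180) (m := 126)
    (fun x hx => (TSp.UCount.numbers_six (h6.2.1 x hx)).1)
    (fun x hx y hy => (TSp.UCount.numbers_six (h6.2.1 x hx)).2.1 y hy) h6.2.2 (by norm_num) (by norm_num)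
  · intro a d hd
    have h1 := kt.aut ((e.symm.trans a).trans e) _ hd
    have h2 : ((e.symm.trans a).trans e) (e d) = e (a d) := by
      simp
    rw [h2] at h1
    exact h1
  · intro d hd
    apply e.injective
    rw [map_mul, map_one]
    exact kt.sq _ hd
  · rintro d hd rfl
    exact kt.ne1 _ hd (map_one e)
  · intro d hd f hf
    rcases kt.three _ hd _ hf with h1 | h1
    · left
      apply e.injective
      rw [map_mul, map_mul]
      exact h1
    · right
      apply e.injective
      rw [map_pow, map_mul, map_one]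
      calc (e d * e f) ^ 3 = (e d * e f * e d) * (e f * e d * e f) := by
            simp only [pow_succ, pow_zero, one_mul, mul_assoc]
        _ = e f * e d * (e f * e f) * e d * e f := by rw [h1]; group
        _ = e f * (e d * e d) * e f := by rw [kt.sq _ hf]; group
        _ = 1 := by rw [kt.sq _ hd, mul_one, kt.sq _ hf]

/-- **Row `Fi23`** -/
theorem fi23 {L : Type u} [Group L] [Finite L] (h : Spor.IsoFi23 L) (B : Base L) : Row 2 L := by
  obtain ⟨e⟩ := h
  let E : Set L := {x | e x ∈ R08.FiTwentyThree.D}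
  have h7 : IsT7 E := Cfsg.Agent.Fischer480.Transport.isT7 (H816.Quasi.cIso_map e fun x => Iff.rfl)
    (H816.Quasi.isT7_of H830.Con22.isT6)
  have hne : E.Nonempty := by
    have : 0 < E.ncard := by rw [h7.1]; norm_num
    exact Set.nonempty_of_ncard_ne_zero this.ne'
  refine row_of_srg B (E := E) hne ?_ ?_ ?_ ?_ (k := 3510) (l := 693) (m := 351)
    (fun x hx => (h7.2.1 x hx).1)
    (fun x hx y hy => (TSp.UCount.numbers_six ((h7.2.1 x hx).2.1 y hy)).1) h7.2.2 (by norm_num) (by norm_num)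
  · intro a d hd
    obtain ⟨g, hg⟩ := KFacts.FiTTh.Has.inn ((e.symm.trans a).trans e)
    have h2 : ((e.symm.trans a).trans e) (e d) = e (a d) := by
      simp
    show e (a d) ∈ R08.FiTwentyThree.D
    rw [← h2, hg, MulAut.conj_apply]
    exact R08.FiTwentyThree.conj_mem_D hd g
  · intro d hd
    apply e.injective
    rw [map_mul, map_one]
    exact R08.FiTwentyThree.sq_D hd
  · rintro d hd rfl
    exact R08.FiTwentyThree.ne_one_D hd (map_one e)
  · intro d hd f hf
    rcases R08.FiTwentyThree.three_D hd hf with h1 | h1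
    · left
      apply e.injective
      rw [map_mul, map_mul]
      exact h1
    · right
      apply e.injective
      rw [map_pow, map_mul, map_one]
      exact h1

end Cfsg.Agent.H184.ThreeT
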