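import Cfsg.Agent.H670.Palfy.Structure

/-!
# The structure theorem `FactSL`, the case `|V| = 2 ^ 6` (task 1466, helper184)
-/

set_option autoImplicit false

namespace Cfsg.Agent.H184.TwoSix

open Subgroup Cfsg.Agent.H670.Palfy

universe u v

variable {H : Type u} [Group H] {V : Type v} [AddCommGroup V] [DistribMulAction H V]

/-- A prime `r > 6` dividing `|H|` has `O_r(H) ≠ 1`. -/
theorem pCore_ne_bot [Finite H] [Finite V] (hsol : Group.IsSolvable H) (hV : Nat.card V = 2 ^ 6)
    (hirr : Irr H V) (hf : ∀ h : H, (∀ v : V, h • v = v) → h = 1) {r : ℕ} (hr : r.Prime)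
    (hr6 : 6 < r) (hrH : r ∣ Nat.card H) : Cfsg.pCore r H ≠ ⊥ := by
  intro hR
  have : Fact r.Prime := ⟨hr⟩
  obtain ⟨x, hxo⟩ := exists_prime_orderOf_dvd_card' r hrH
  have hx : x ^ r = 1 := orderOf_dvd_iff_pow_eq_one.1 hxo.dvd
  have hx1 : x ≠ 1 := by
    intro h
    rw [h, orderOf_one] at hxo
    exact hr.one_lt.ne hxo
  obtain ⟨s, hs, g, hg, hgne⟩ := H273.PalfyKP.exists_not_central hsol hR x hx hx1
  have hbot : ∀ q, Cfsg.pCore q H = ⊥ → s ≠ q := by
    rintro q hq rfl
    rw [hq, Subgroup.mem_bot] at hg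
    apply hgne
    rw [hg]
    group
  have hs2 := hbot 2 (pCore_char_eq_bot Nat.prime_two (by norm_num) hV hirr hf)
  obtain ⟨h, -⟩ := cent_pgroup Nat.prime_two hV
    (exp_of_irr Nat.prime_two (by norm_num) hV hirr) hf x hr hx hr6 hs (hbot r hR) hs2
    (Cfsg.pCore s H) (Cfsg.Agent.Lib.Cores.pCore_isPGroup s)
    (fun g hg => (Cfsg.Agent.Lib.Cores.pCore_normal s).conj_mem g hg x) ⟨g, hg, hgne⟩
  exact hs2 h

/-- A Sylow 5-subgroup normalizes and centralizes a normal 7-subgroup when there are at most 21 Sylow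
5-subgroups. -/
theorem commute_of_card [Finite H] [hp5 : Fact (Nat.Prime 5)] (L : Subgroup H) (hLn : L.Normal)
    (hL : IsPGroup 7 L) (Z : Sylow 5 H) (hcard : Nat.card (Sylow 5 H) ≤ 21) :
    ∀ l ∈ L, ∀ z ∈ (Z : Subgroup H), l * z = z * l := by
  have hp7 : Fact (Nat.Prime 7) := ⟨by norm_num⟩
  set J : Subgroup H := L ⊔ (Z : Subgroup H) with hJ
  have hZJ : (Z : Subgroup H) ≤ J := le_sup_right
  have hLJ : L ≤ J := le_sup_left
  have hJi : ¬ 5 ∣ J.index := fun h =>
    Z.not_dvd_index (h.trans (Subgroup.index_dvd_of_le hZJ))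
  -- the number of Sylow subgroups of `J`
  have h1 : Nat.card (Sylow 5 J) ≤ 21 := by
    refine le_trans ?_ hcard
    choose f hf using fun Q : Sylow 5 J => map_sylow J hJi Q
    refine Nat.card_le_card_of_injective f ?_
    intro Q R hQR
    have h2 : (Q : Subgroup J).map J.subtype = (R : Subgroup J).map J.subtype := by
      rw [hf, hf, hQR]
    exact Sylow.ext (Subgroup.map_injective J.subtype_injective h2)
  have h2 : Nat.card (Sylow 5 J) ≡ 1 [MOD 5] := card_sylow_modEq_one 5 J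
  have h3 : Nat.card (Sylow 5 J) ∣ (Z : Subgroup H).relIndex J := by
    have h4 := Sylow.card_dvd_index (Z.subtype hZJ)
    rw [Sylow.coe_subtype] at h4
    exact h4
  have h4 : (Z : Subgroup H).relIndex J ∣ Nat.card L := by
    have e1 : Nat.card (Z : Subgroup H) * (Z : Subgroup H).relIndex J = Nat.card J := by
      rw [← Subgroup.card_mul_index ((Z : Subgroup H).subgroupOf J)]
      congr 1
      exact (Nat.card_congr (Subgroup.subgroupOfEquivOfLe hZJ).toEquiv).symm
    have e2 : Nat.card L * L.relIndex J = Nat.card J := by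
      rw [← Subgroup.card_mul_index (L.subgroupOf J)]
      congr 1
      exact (Nat.card_congr (Subgroup.subgroupOfEquivOfLe hLJ).toEquiv).symm
    have e3 : L.relIndex J = L.relIndex (Z : Subgroup H) := Subgroup.relIndex_sup_left _ _
    have e4 : L.relIndex (Z : Subgroup H) ∣ Nat.card (Z : Subgroup H) :=
      Subgroup.index_dvd_card _
    have e5 : Nat.card (Z : Subgroup H) * (Z : Subgroup H).relIndex J ∣
        Nat.card (Z : Subgroup H) * Nat.card L := by
      rw [e1, ← e2, e3, mul_comm]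
      exact mul_dvd_mul_right e4 _
    exact Nat.dvd_of_mul_dvd_mul_left Nat.card_pos e5
  obtain ⟨k, hk⟩ := IsPGroup.iff_card.1 hL
  have h5 : Nat.card (Sylow 5 J) ∣ 7 ^ k := by
    rw [← hk]
    exact h3.trans h4
  obtain ⟨j, -, hj⟩ := (Nat.dvd_prime_pow (by norm_num : Nat.Prime 7)).1 h5
  have h6 : Nat.card (Sylow 5 J) = 1 := by
    rcases j with _ | _ | j
    · rw [hj, pow_zero]
    · rw [hj] at h2
      exact absurd h2 (by decide)
    · exfalso
      rw [hj, pow_succ, pow_succ] at h1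
      have : 1 ≤ 7 ^ j := Nat.one_le_pow _ _ (by norm_num)
      omega
  have hsub : Subsingleton (Sylow 5 J) := (Nat.card_eq_one_iff_unique.1 h6).1
  have hnorm : ((Z.subtype hZJ : Sylow 5 J) : Subgroup J).Normal := Sylow.normal_of_subsingleton _
  rw [Sylow.coe_subtype] at hnorm
  -- trivial intersection
  have hdisj : ∀ y ∈ L, y ∈ (Z : Subgroup H) → y = 1 := by
    intro y hy hyZ
    obtain ⟨a, ha⟩ := hL ⟨y, hy⟩
    obtain ⟨b, hb⟩ := Z.isPGroup' ⟨y, hyZ⟩
    have ha' : y ^ 7 ^ a = 1 := congrArg Subtype.val ha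
    have hb' : y ^ 5 ^ b = 1 := congrArg Subtype.val hb
    have h7 := Nat.dvd_gcd (orderOf_dvd_of_pow_eq_one ha') (orderOf_dvd_of_pow_eq_one hb')
    have h8 : Nat.gcd (7 ^ a) (5 ^ b) = 1 := Nat.Coprime.pow a b (by norm_num)
    rw [h8, Nat.dvd_one, orderOf_eq_one_iff] at h7
    exact h7
  intro l hl z hz
  have h7 : l * z * l⁻¹ ∈ (Z : Subgroup H) := by
    have := hnorm.conj_mem ⟨z, hZJ hz⟩ hz ⟨l, hLJ hl⟩
    exact this
  have h8 : l * z * l⁻¹ * z⁻¹ = 1 := by
    apply hdisj
    · have h9 : l * z * l⁻¹ * z⁻¹ = l * (z * l⁻¹ * z⁻¹) := by group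
      rw [h9]
      exact L.mul_mem hl (hLn.conj_mem _ (L.inv_mem hl) z)
    · exact (Z : Subgroup H).mul_mem h7 ((Z : Subgroup H).inv_mem hz)
  have h9 : l * z = (l * z * l⁻¹ * z⁻¹) * (z * l) := by group
  rw [h9, h8, one_mul]

/-- A 7-group acts trivially on an invariant set of at most 6 elements. -/
theorem fixed_of_card [Finite H] [Finite V] (L : Subgroup H) (hL : IsPGroup 7 L) (W : AddSubgroup V)
    (hW : ∀ l ∈ L, ∀ w ∈ W, l • w ∈ W) (hcard : Nat.card W ≤ 6) :
    ∀ l ∈ L, ∀ w ∈ W, l • w = w := by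
  intro l hl w hw
  have hp7 : Fact (Nat.Prime 7) := ⟨by norm_num⟩
  obtain ⟨k, hk⟩ := IsPGroup.iff_card.1 hL
  have h1 : Nat.card (MulAction.orbit L w) ∣ 7 ^ k := by
    rw [← hk, Nat.card_coe_set_eq, ← MulAction.index_stabilizer]
    exact Subgroup.index_dvd_card _
  have h2 : Nat.card (MulAction.orbit L w) ≤ 6 := by
    refine le_trans ?_ hcard
    refine Nat.card_le_card_of_injective (fun x : MulAction.orbit L w => (⟨(x : V), ?_⟩ : W)) ?_
    · obtain ⟨y, hy⟩ := x.2
      rw [← hy]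
      exact hW y y.2 w hw
    · intro a b hab
      exact Subtype.ext (congrArg (fun z : W => (z : V)) hab)
  obtain ⟨j, -, hj⟩ := (Nat.dvd_prime_pow (by norm_num : Nat.Prime 7)).1 h1
  rcases j with _ | j
  · rw [pow_zero] at hj
    have h3 : Subsingleton (MulAction.orbit L w) := (Nat.card_eq_one_iff_unique.1 hj).1
    have h4 : (⟨l • w, ⟨⟨l, hl⟩, rfl⟩⟩ : MulAction.orbit L w) = ⟨w, MulAction.mem_orbit_self w⟩ :=
      Subsingleton.elim _ _
    exact congrArg Subtype.val h4
  · exfalso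
    rw [hj, pow_succ] at h2
    have : 1 ≤ 7 ^ j := Nat.one_le_pow _ _ (by norm_num)
    omega

theorem not_two_six [Finite H] [Finite V] (hsol : Group.IsSolvable H) {s : ℕ}
    (hV : Nat.card V = 2 ^ 6) (hirr : Irr H V) (hf : ∀ h : H, (∀ v : V, h • v = v) → h = 1)
    (hs : s.Prime) (hs2 : s ≠ 2) (hu : UF s H (⊥ : AddSubgroup V)) (Z : Sylow s H)
    (hZ : ¬ Triv V (Z : Subgroup H)) : False := by
  have hsf : Fact s.Prime := ⟨hs⟩
  have hnt : Nontrivial V := by
    rw [← Finite.one_lt_card_iff_nontrivial, hV]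
    norm_num
  have hN1 := hu.card_ne_one hZ
  obtain ⟨m, hm0, hm6, hfix, hN⟩ := hu.params Nat.prime_two hV (by norm_num) Z hN1
  have hmod : Nat.card (Sylow s H) ≡ 1 [MOD s] := card_sylow_modEq_one s H
  have hpos : 0 < Nat.card (Sylow s H) := Nat.card_pos
  have h3 : s ∣ Nat.card (Sylow s H) - 1 := (Nat.modEq_iff_dvd' hpos).1 hmod.symm
  have hNd : Nat.card (Sylow s H) ∣ Nat.card H :=
    (Sylow.card_dvd_index Z).trans (Subgroup.index_dvd_card _)
  have hsH : s ∣ Nat.card H := by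
    by_contra h
    have h1 : Nat.card (Z : Subgroup H) = 1 := by
      rw [Z.card_eq_multiplicity, Nat.factorization_eq_zero_of_not_dvd h, pow_zero]
    have h2 : (Z : Subgroup H) = ⊥ := Subgroup.card_eq_one.1 h1
    apply hZ
    intro z hz w
    rw [h2, Subgroup.mem_bot] at hz
    rw [hz, one_smul]
  have hcs : Cfsg.pCore s H = ⊥ := hu.pCore_eq_bot hf
  have key : ∀ q, q.Prime → s ∣ q → s = q := fun q hq h => (Nat.prime_dvd_prime_iff_eq hs hq).1 h
  have hc : m = 1 ∨ m = 2 ∨ m = 3 ∨ m = 4 ∨ m = 5 := by omega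
  rcases hc with rfl | rfl | rfl | rfl | rfl
  · have h4 : Nat.card (Sylow s H) = 63 := by omega
    rw [h4] at h3
    have h5 : s ∣ 2 * 31 := by norm_num at h3 ⊢; exact h3
    rcases hs.dvd_mul.1 h5 with h | h
    · exact hs2 (key 2 (by norm_num) h)
    · have h31 := key 31 (by norm_num) h
      subst h31
      exact pCore_ne_bot hsol hV hirr hf hs (by norm_num) hsH hcs
  · have h4 : Nat.card (Sylow s H) = 21 := by omega
    have h5 : s ∣ 2 * (2 * 5) := by rw [h4] at h3; norm_num at h3 ⊢; exact h3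
    have hs5 : s = 5 := by
      rcases hs.dvd_mul.1 h5 with h | h
      · exact absurd (key 2 (by norm_num) h) hs2
      rcases hs.dvd_mul.1 h with h | h
      · exact absurd (key 2 (by norm_num) h) hs2
      · exact key 5 (by norm_num) h
    subst hs5
    have h7 : 7 ∣ Nat.card H := by
      rw [h4] at hNd
      exact (by norm_num : 7 ∣ 21).trans hNd
    have h7p : Nat.Prime 7 := by norm_num
    have h7f : Fact (Nat.Prime 7) := ⟨h7p⟩
    have hLne := pCore_ne_bot hsol hV hirr hf h7p (by norm_num) h7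
    have hLn : (Cfsg.pCore 7 H).Normal := Cfsg.Agent.Lib.Cores.pCore_normal 7
    have hLp : IsPGroup 7 (Cfsg.pCore 7 H) := Cfsg.Agent.Lib.Cores.pCore_isPGroup 7
    have hcomm := commute_of_card (Cfsg.pCore 7 H) hLn hLp Z h4.le
    have hfx := fixed_of_card (Cfsg.pCore 7 H) hLp (fixed V (Z : Subgroup H))
      (fun l hl w hw z hz => by
        rw [← mul_smul, ← hcomm l hl z hz, mul_smul, hw z hz]) (by rw [hfix]; norm_num)
    have hne : fixed V (Cfsg.pCore 7 H) ≠ ⊥ := by
      intro hbot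
      have h8 : 1 < Nat.card (fixed V (Z : Subgroup H)) := by rw [hfix]; norm_num
      have : Nontrivial (fixed V (Z : Subgroup H)) := Finite.one_lt_card_iff_nontrivial.1 h8
      obtain ⟨w, hw⟩ := exists_ne (0 : fixed V (Z : Subgroup H))
      have h9 : (w : V) ∈ fixed V (Cfsg.pCore 7 H) := fun l hl => hfx l hl w w.2
      rw [hbot, AddSubgroup.mem_bot] at h9
      exact hw (Subtype.ext h9)
    have htop := (hirr (fixed V (Cfsg.pCore 7 H)) (inv_fixed _ hLn)).resolve_left hne
    apply hLne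
    rw [eq_bot_iff]
    intro l hl
    rw [Subgroup.mem_bot]
    apply hf
    intro w
    have h9 : w ∈ fixed V (Cfsg.pCore 7 H) := by rw [htop]; exact AddSubgroup.mem_top _
    exact h9 l hl
  · have h4 : Nat.card (Sylow s H) = 9 := by omega
    rw [h4] at h3
    have h5 : s ∣ 2 ^ 3 := by norm_num at h3 ⊢; exact h3
    exact hs2 (key 2 (by norm_num) (hs.dvd_of_dvd_pow h5))
  · omega
  · omega

end Cfsg.Agent.H184.TwoSix
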