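import Cfsg.Agent.H132.Crit
import Cfsg.Agent.H393.Iso.Base
import Cfsg.Agent.Co2Type.Quad
import Cfsg.Agent.H816.Elim
import Cfsg.Agent.H722.RealP

/-!
# `Wand` (S4011) from the centre of a Sylow 2-subgroup (helper184)

* `wand_of_center` : the centre of some Sylow 2-subgroup has order `< r` and contains an element `w` such that no
  element of order `r` commutes with `w`; `x` real of order `r` : `Wand X`;
* `wand_of_large` : `Large Q z` (extraspecial `Q`), `x` real of order `r`, no element of order `r` commutes with `z`.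
-/

set_option autoImplicit false

namespace Cfsg.Agent.H184.WandLarge

open Subgroup Cfsg Cfsg.Agent.H132 Cfsg.Agent.H393.Iso Cfsg.Agent.Co2Type.Quad

universe u

variable {X : Type u} [Group X] [Finite X]

/-- **Criterion.** `Z` : a set containing the centre of the Sylow 2-subgroup `P`. -/
theorem wand_of_center (P : Sylow 2 X) {r : ℕ} (hr : r.Prime) (hr2 : r ≠ 2) {w : X} (hwP : w ∈ (P : Subgroup X))
    (hwc : ∀ y ∈ (P : Subgroup X), w * y = y * w)
    (hZ : {v : X | v ∈ (P : Subgroup X) ∧ ∀ y ∈ (P : Subgroup X), v * y = y * v}.ncard < r)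
    (hc : ∀ x : X, orderOf x = r → x * w = w * x → False)
    {x : X} (hx : orderOf x = r) (hreal : IsConj x x⁻¹) : Wand X := by
  refine ⟨x, by rw [hx]; exact hr.odd_of_ne_two hr2, hreal, ?_⟩
  intro Q hQ
  obtain ⟨g, hg⟩ := MulAction.exists_smul_eq X Q P
  -- `g x g⁻¹` normalises `P`
  have hxo : orderOf (g * x * g⁻¹) = r := by
    rw [← hx]
    exact (MulEquiv.orderOf_eq (MulAut.conj g) x)
  have hn : ∀ y : X, y ∈ (P : Subgroup X) → (g * x * g⁻¹) * y * (g * x * g⁻¹)⁻¹ ∈ (P : Subgroup X) := by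
    intro y hy
    rw [← hg] at hy ⊢
    rw [Sylow.coe_subgroup_smul] at hy ⊢
    rw [Subgroup.mem_pointwise_smul_iff_inv_smul_mem] at hy ⊢
    rw [← map_inv, MulAut.smul_def, MulAut.conj_apply, inv_inv] at hy ⊢
    have h2 := (mem_normalizer_iff.1 hQ (g⁻¹ * y * g)).1 hy
    have h3 : x * (g⁻¹ * y * g) * x⁻¹ = g⁻¹ * (g * x * g⁻¹ * y * (g * x * g⁻¹)⁻¹) * g := by group
    rwa [h3] at h2
  have hn' : ∀ y : X, y ∈ (P : Subgroup X) → (g * x * g⁻¹)⁻¹ * y * (g * x * g⁻¹) ∈ (P : Subgroup X) := by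
    have hpow : ∀ (k : ℕ) (y : X), y ∈ (P : Subgroup X) →
        (g * x * g⁻¹) ^ k * y * ((g * x * g⁻¹) ^ k)⁻¹ ∈ (P : Subgroup X) := by
      intro k
      induction k with
      | zero => intro y hy; simpa using hy
      | succ k ih =>
        intro y hy
        have h1 := hn _ (ih y hy)
        rw [pow_succ']
        convert h1 using 1
        rw [mul_inv_rev]
        simp only [mul_assoc]
    intro y hy
    have h1 := hpow (r - 1) y hy
    have h2 : (g * x * g⁻¹) ^ (r - 1) = (g * x * g⁻¹)⁻¹ := by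
      apply eq_inv_of_mul_eq_one_left
      rw [← pow_succ, Nat.sub_add_cancel hr.one_le, ← hxo, pow_orderOf_eq_one]
    rwa [h2, inv_inv] at h1
  refine hc _ hxo (comm_of_small hr (Z := {v : X | v ∈ (P : Subgroup X) ∧ ∀ y ∈ (P : Subgroup X), v * y = y * v})
    (Set.toFinite _) hxo ?_ hZ w ⟨hwP, hwc⟩)
  rintro v ⟨hv, hvc⟩
  refine ⟨hn v hv, fun y hy => ?_⟩
  have h1 := hvc _ (hn' y hy)
  calc g * x * g⁻¹ * v * (g * x * g⁻¹)⁻¹ * y
      = g * x * g⁻¹ * (v * ((g * x * g⁻¹)⁻¹ * y * (g * x * g⁻¹))) * (g * x * g⁻¹)⁻¹ := by group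
    _ = y * (g * x * g⁻¹ * v * (g * x * g⁻¹)⁻¹) := by rw [h1]; group

omit [Finite X] in
/-- a normal 2-subgroup of `C` is contained in every 2-subgroup `P ≤ C` which is maximal -/
theorem le_sylow {C Q : Subgroup X} (P : Sylow 2 X) (hPC : (P : Subgroup X) ≤ C)
    (hQ : IsPGroup 2 Q) (hn : ∀ c ∈ C, ∀ q ∈ Q, c * q * c⁻¹ ∈ Q) : Q ≤ (P : Subgroup X) := by
  have h1 : (P : Subgroup X) ≤ normalizer (Q : Set X) := by
    intro p hp
    rw [mem_normalizer_iff]
    intro y
    refine ⟨fun hy => hn p (hPC hp) y hy, fun hy => ?_⟩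
    have := hn p⁻¹ (hPC (inv_mem hp)) _ hy
    convert this using 1
    group
  have h2 : IsPGroup 2 ((P : Subgroup X) ⊔ Q : Subgroup X) := P.2.to_sup_of_normal_right' hQ h1
  have h3 := P.3 h2 le_sup_left
  rw [← h3]
  exact le_sup_right

omit [Finite X] in
theorem isPGroup_large {Q : Subgroup X} {z : X} (h : Large Q z) : IsPGroup 2 ↥Q := by
  intro x
  refine ⟨2, Subtype.ext ?_⟩
  change (x : X) ^ 2 ^ 2 = 1
  have e : (x : X) ^ 2 ^ 2 = ((x : X) * x) * ((x : X) * x) := by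
    rw [show (2 : ℕ) ^ 2 = 2 + 2 by norm_num, pow_add, pow_two]
  rcases h.sq x x.2 with h1 | h1
  · rw [e, h1, mul_one]
  · rw [e, h1, h.z_sq]

omit [Finite X] in
/-- the centre of a Sylow 2-subgroup contained in `C(z)` is `⟨z⟩` -/
theorem center_of_large {Q : Subgroup X} {z : X} (h : Large Q z) (P : Sylow 2 X)
    (hP : (P : Subgroup X) ≤ centralizer ({z} : Set X)) :
    z ∈ (P : Subgroup X) ∧ ∀ v ∈ (P : Subgroup X), (∀ y ∈ (P : Subgroup X), v * y = y * v) → v = 1 ∨ v = z := by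
  have hQP : Q ≤ (P : Subgroup X) := le_sylow P hP (isPGroup_large h) fun c hc q hq => h.conj_mem c (mem_centralizer_singleton_iff.1 hc) q hq
  refine ⟨hQP h.z_mem, fun v hv hvc => ?_⟩
  have h1 : v ∈ Q := h.self v (mem_centralizer_singleton_iff.1 (hP hv)) fun x hx => hvc x (hQP hx)
  exact h.cent v h1 fun y hy => hvc y (hQP hy)

/-- **Criterion.** -/
theorem wand_of_large {Q : Subgroup X} {z : X} (h : Large Q z) {r : ℕ} (hr : r.Prime) (hr2 : r ≠ 2)
    (hc : ∀ x : X, orderOf x = r → x * z = z * x → False)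
    {x : X} (hx : orderOf x = r) (hreal : IsConj x x⁻¹) : Wand X := by
  obtain ⟨⟨P, hP⟩, -⟩ := H816.Elim.large_tran h
  obtain ⟨h1, h2⟩ := center_of_large h P hP
  refine wand_of_center P hr hr2 h1 (fun y hy => (mem_centralizer_singleton_iff.1 (hP hy)).symm) ?_ hc hx hreal
  have h3 : {v : X | v ∈ (P : Subgroup X) ∧ ∀ y ∈ (P : Subgroup X), v * y = y * v} ⊆ {1, z} := by
    rintro v ⟨hv, hvc⟩
    exact h2 v hv hvc
  refine lt_of_le_of_lt (Set.ncard_le_ncard h3 (Set.toFinite _)) ?_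
  refine lt_of_le_of_lt (Set.ncard_insert_le _ _) ?_
  rw [Set.ncard_singleton]
  have := hr.two_le
  omega

/-- **Criterion**, with the order of `C(z)`. -/
theorem wand_of_large_card {Q : Subgroup X} {z : X} (h : Large Q z) {r : ℕ} (hr : r.Prime) (hr2 : r ≠ 2)
    (hc : ¬ r ∣ Nat.card (centralizer ({z} : Set X)))
    {x : X} (hx : orderOf x = r) (hreal : IsConj x x⁻¹) : Wand X :=
  wand_of_large h hr hr2 (fun _ hy hyz => not_comm_of_card hc hy hyz) hx hreal

omit [Finite X] in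
/-- an odd prime divides `|C(z)|` iff it divides the order of the quotient by `Q` -/
theorem not_comm_of_quot {Q : Subgroup X} {z : X} (h : Large Q z) {L : Type*} [Group L]
    (π : centralizer ({z} : Set X) →* L) (hπ : ∀ c, π c = 1 → (c : X) ∈ Q) {r : ℕ} (hr : r.Prime) (hr2 : r ≠ 2)
    (hL : ¬ r ∣ Nat.card L) (x : X) (hx : orderOf x = r) (hxz : x * z = z * x) : False := by
  let x' : centralizer ({z} : Set X) := ⟨x, mem_centralizer_singleton_iff.2 hxz⟩
  have hx' : x' ^ r = 1 := Subtype.ext (by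
    show x ^ r = 1
    rw [← hx, pow_orderOf_eq_one])
  have h1 : π x' = 1 := by
    have h2 : (π x') ^ r = 1 := by rw [← map_pow, hx', map_one]
    rcases (Nat.dvd_prime hr).1 (orderOf_dvd_of_pow_eq_one h2) with h3 | h3
    · exact orderOf_eq_one_iff.1 h3
    · exact absurd (h3 ▸ orderOf_dvd_natCard (π x')) hL
  have h4 : x ∈ Q := hπ x' h1
  obtain ⟨k, hk⟩ := isPGroup_large h ⟨x, h4⟩
  have h5 : x ^ 2 ^ k = 1 := congrArg Subtype.val hk
  have h6 := orderOf_dvd_of_pow_eq_one h5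
  rw [hx] at h6
  exact hr2 ((Nat.prime_dvd_prime_iff_eq hr Nat.prime_two).1 (hr.dvd_of_dvd_pow h6))

theorem odd_of_na {r : ℕ} (h : NA r X) {x : X} (hx : orderOf x = r) : Odd (Nat.card (centralizer ({x} : Set X))) := by
  rw [← Nat.not_even_iff_odd, even_iff_two_dvd]
  intro h2
  have : Fact (Nat.Prime 2) := ⟨Nat.prime_two⟩
  obtain ⟨⟨t, ht⟩, hto⟩ := exists_prime_orderOf_dvd_card' 2 h2
  rw [Subgroup.orderOf_mk] at hto
  exact h x t hx hto (mem_centralizer_singleton_iff.1 ht).symm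

/-- **Criterion**: real elements of order `r`, no involution commutes with an element of order `r`. -/
theorem wand_of_na {r a n : ℕ} (hr : r.Prime) (hr2 : r ≠ 2) (hna : NA r X) (hR : H722.RealP.HasReal r X)
    (hn : Nat.card X = n) (ha : 2 ^ a ∣ n) (ha' : ¬ 2 ^ (a + 1) ∣ n) (hnum : ¬ r ∣ 2 ^ a - 1) : Wand X := by
  obtain ⟨x, hx, hreal⟩ := hR.isConj
  exact wand_of_odd hr hr2 hx hreal (hn ▸ ha) (hn ▸ ha') (odd_of_na hna hx) hnum

end Cfsg.Agent.H184.WandLarge
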